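import Cfsg.Statements.S0991
import Cfsg.Agent.H6.Count

set_option autoImplicit false
open Cfsg

namespace Cfsg.Agent.S0991

/-- Embedding Theorem: if a non-abelian finite simple group has a proper subgroup of index n, then it is isomorphic to a subgroup of the alternating group of degree n. -/
theorem result {G : Type*} [Group G] [Finite G] [IsSimpleGroup G] (hG : ¬ IsMulCommutative G) (H : Subgroup G) (hH : H ≠ ⊤) : ∃ f : G →* ↥(alternatingGroup (Fin H.index)), Function.Injective f := by
  classical
  have := Fintype.ofFinite (G ⧸ H)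
  obtain ⟨g, hg⟩ := H6.exists_smul_ne_quotient hH
  have hinj := H6.toPermHom_injective hg
  have e : (G ⧸ H) ≃ Fin H.index := Finite.equivFinOfCardEq rfl
  refine ⟨(e.altCongrHom.toMonoidHom).comp ((MulAction.toPermHom G (G ⧸ H)).codRestrict _
    fun x => H6.range_toPermHom_le_alternating (H6.perfect_of_simple hG) _ ⟨x, rfl⟩), ?_⟩
  exact e.altCongrHom.injective.comp ((MonoidHom.injective_codRestrict _ _ _).mpr hinj)

end Cfsg.Agent.S0991
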