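import Cfsg.Statements.S3224
import Cfsg.Agent.H9.Quat
import Cfsg.Agent.H4.Dihedral

set_option autoImplicit false
open Cfsg

namespace Cfsg.Agent.S3224

open Subgroup Cfsg.Agent.H9

universe u

theorem card_inf_le_two {S : Type*} [Group S] [Finite S] {A : Subgroup S} (hA : A.index = 2)
    {x : S} (hxA : x ∉ A) (hC : Nat.card (centralizer ({x} : Set S)) ≤ 4) :
    Nat.card (A ⊓ centralizer ({x} : Set S) : Subgroup S) ≤ 2 := by
  have h1 := card_inf_mul_relIndex A (centralizer ({x} : Set S))
  have h2 : A.relIndex (centralizer ({x} : Set S)) ≠ 1 := by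
    rw [Ne, relIndex_eq_one]
    exact fun h => hxA (h (mem_centralizer_singleton_iff.mpr rfl))
  have h3 : A.relIndex (centralizer ({x} : Set S)) ≠ 0 := by
    intro h; rw [h, mul_zero] at h1; exact Nat.card_pos.ne h1
  have : 2 ≤ A.relIndex (centralizer ({x} : Set S)) := by omega
  nlinarith

theorem aux (n : ℕ) : ∀ (S : Type u) [Group S] [Finite S], Nat.card S = n → IsPGroup 2 S →
    ∀ x : S, orderOf x = 2 → Nat.card (centralizer ({x} : Set S)) ≤ 4 → ¬ IsCyclic S →
    ∃ a : S, (zpowers a).index = 2 ∧ x ∉ zpowers a := by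
  induction n using Nat.strong_induction_on with
  | _ n ih =>
  intro S _ _ hn hS x hx hC hnc
  haveI : Fact (Nat.Prime 2) := ⟨Nat.prime_two⟩
  have hx1 := ne_one_of_orderOf_two hx
  have hx2 := mul_self_of_orderOf_two hx
  by_cases hxc : x ∈ center S
  · have htop : centralizer ({x} : Set S) = ⊤ := by
      rw [eq_top_iff]; intro g _
      exact mem_centralizer_singleton_iff.mpr (mem_center_iff.mp hxc g)
    rw [htop, card_top] at hC
    obtain ⟨a, ha⟩ : ∃ a, a ∉ zpowers x := by
      by_contra h
      push Not at h
      exact hnc ⟨⟨x, h⟩⟩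
    have ha1 : a ≠ 1 := by rintro rfl; exact ha (one_mem _)
    have hax : a ≠ x := by rintro rfl; exact ha (mem_zpowers _)
    have hxa : x * a ≠ 1 := fun h => ha (by
      rw [eq_inv_of_mul_eq_one_right h]; exact inv_mem (mem_zpowers x))
    have hall := fun y : S => mem_four_of_card_le (H := ⊤) (by rwa [card_top]) (mem_top x)
      (mem_top a) hx1 ha1 hax.symm hxa (mem_top y)
    have hxa' : x ∉ zpowers a := by
      intro h
      apply hnc
      refine ⟨⟨a, fun y => ?_⟩⟩
      rcases hall y with rfl | rfl | rfl | rfl
      · exact one_mem (zpowers a)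
      · exact h
      · exact mem_zpowers _
      · exact mul_mem h (mem_zpowers _)
    refine ⟨a, ?_, hxa'⟩
    rw [← relIndex_top_right]
    apply relIndex_eq_two_of (mem_top x) hxa'
    intro y _ hy
    rcases hall y with rfl | rfl | rfl | rfl
    · exact absurd (one_mem _) hy
    · rw [hx2]; exact one_mem _
    · exact absurd (mem_zpowers _) hy
    · rw [mul_assoc, mem_center_iff.mp hxc a, ← mul_assoc, hx2, one_mul]; exact mem_zpowers _
  · haveI : Nontrivial S := ⟨x, 1, hx1⟩
    obtain ⟨z, -, hz, hzc⟩ := Cfsg.Agent.H5.exists_mem_center_of_normal hS (N := ⊤) top_ne_bot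
    have hz1 := ne_one_of_orderOf_two hz
    have hz2 := mul_self_of_orderOf_two hz
    have hzc' : ∀ g, g * z = z * g := mem_center_iff.mp hzc
    have hxz : x ≠ z := by rintro rfl; exact hxc hzc
    have hxz' : x * z ≠ 1 := fun h => hxz (by
      rw [eq_inv_of_mul_eq_one_left h, inv_eq_of_orderOf_two hz])
    have hall : ∀ y, y * x = x * y → y = 1 ∨ y = x ∨ y = z ∨ y = x * z := fun y hy =>
      mem_four_of_card_le hC (mem_centralizer_singleton_iff.mpr rfl)
        (mem_centralizer_singleton_iff.mpr (hzc' x).symm) hx1 hz1 hxz hxz'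
        (mem_centralizer_singleton_iff.mpr hy)
    haveI : (zpowers z).Normal := ⟨fun y hy g => by
      obtain ⟨i, rfl⟩ := mem_zpowers_iff.mp hy
      rwa [(Commute.zpow_right (hzc' g) i).eq, mul_inv_cancel_right]⟩
    have hxq : (x : S ⧸ zpowers z) ≠ 1 := by
      rw [Ne, QuotientGroup.eq_one_iff, mem_zpowers_of_mul_self hz2]; tauto
    have hzq : (z : S ⧸ zpowers z) = 1 := by
      rw [QuotientGroup.eq_one_iff]; exact mem_zpowers z
    have hall' : ∀ y : S, y * x = x * y → (y : S ⧸ zpowers z) = 1 ∨ (y : S ⧸ zpowers z) = x := by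
      intro y hy
      rcases hall y hy with rfl | rfl | rfl | rfl
      · left; rfl
      · right; rfl
      · left; exact hzq
      · right; rw [QuotientGroup.mk_mul, hzq, mul_one]
    have hcq : ∀ y : S, (y : S ⧸ zpowers z) ∈ centralizer ({(x : S ⧸ zpowers z)} : Set _) →
        y * x = x * y ∨ y * x = x * y * z := by
      intro y hy
      rw [mem_centralizer_singleton_iff, ← QuotientGroup.mk_mul, ← QuotientGroup.mk_mul] at hy
      rcases (mem_zpowers_of_mul_self hz2).mp (QuotientGroup.eq.mp hy.symm) with h | h
      · left; rw [← mul_one (x * y), ← h]; group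
      · right; rw [← h]; group
    obtain ⟨a, ha, hxa⟩ := ih _ (hn ▸ Cfsg.Agent.H5.card_quotient_lt (N := zpowers z)
      (by rwa [Ne, zpowers_eq_bot])) (S ⧸ zpowers z) rfl (hS.to_quotient _) (x : S ⧸ zpowers z)
      (orderOf_two_of hxq (by rw [← QuotientGroup.mk_mul, hx2]; rfl)) (by
        obtain ⟨t, ht⟩ : ∃ t : S, ∀ y : S, y * x = x * y * z → t⁻¹ * y * x = x * (t⁻¹ * y) := by
          by_cases h : ∃ t, t * x = x * t * z
          · obtain ⟨t, ht⟩ := h
            refine ⟨t, fun y hy => ?_⟩
            calc t⁻¹ * y * x = t⁻¹ * (x * t * z) * t⁻¹ * y := by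
                  rw [mul_assoc, hy, mul_assoc x y, hzc' y, mul_assoc x t, hzc' t]; group
              _ = _ := by rw [← ht]; group
          · push Not at h
            exact ⟨1, fun y hy => absurd hy (h y)⟩
        refine (card_le_of_subset (Set.toFinite _) ?_).trans
          (ncard_le_four (1 : S ⧸ zpowers z) x t (t * x))
        intro y hy
        obtain ⟨y, rfl⟩ := QuotientGroup.mk_surjective y
        rcases hcq y hy with h | h
        · rcases hall' y h with h | h
          · exact Or.inl h
          · exact Or.inr (Or.inl h)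
        · rcases hall' _ (ht y h) with h | h
          · refine Or.inr (Or.inr (Or.inl ?_))
            rw [QuotientGroup.mk_mul, QuotientGroup.mk_inv, inv_mul_eq_one] at h
            exact h.symm
          · refine Or.inr (Or.inr (Or.inr ?_))
            rw [QuotientGroup.mk_mul, QuotientGroup.mk_inv, inv_mul_eq_iff_eq_mul] at h
            exact h) (by
        intro h
        apply hxc
        have := (QuotientGroup.mk' (zpowers z)).isMulCommutative_of_isCyclic_of_ker_le_center
          (by rw [QuotientGroup.ker_mk']; exact zpowers_le.mpr hzc)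
        exact mem_center_iff.mpr fun g => this.is_comm.comm g x)
    obtain ⟨a, rfl⟩ := QuotientGroup.mk_surjective a
    have hform : ∀ y : S, (y : S ⧸ zpowers z) ∈ zpowers (a : S ⧸ zpowers z) →
        ∃ i : ℤ, y = a ^ i ∨ y = a ^ i * z := by
      intro y hy
      obtain ⟨i, hi⟩ := mem_zpowers_iff.mp hy
      rw [← QuotientGroup.mk_zpow] at hi
      rcases (mem_zpowers_of_mul_self hz2).mp (QuotientGroup.eq.mp hi) with h | h
      · exact ⟨i, Or.inl (by rw [← mul_one (a ^ i), ← h]; group)⟩
      · exact ⟨i, Or.inr (by rw [← h]; group)⟩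
    set A := (zpowers (a : S ⧸ zpowers z)).comap (QuotientGroup.mk' (zpowers z)) with hA
    have hAi : A.index = 2 := by
      rw [hA, index_comap_of_surjective _ (QuotientGroup.mk'_surjective _), ha]
    have hxA : x ∉ A := hxa
    have haA : a ∈ A := mem_zpowers _
    have hzA : z ∈ A := by
      show (z : S ⧸ zpowers z) ∈ zpowers _
      rw [hzq]; exact one_mem _
    by_cases hza : z ∈ zpowers a
    · have : zpowers a = A := by
        apply le_antisymm (zpowers_le.mpr haA)
        intro y hy
        obtain ⟨i, rfl | rfl⟩ := hform y hy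
        · exact zpow_mem (mem_zpowers a) i
        · exact mul_mem (zpow_mem (mem_zpowers a) i) hza
      exact ⟨a, this ▸ hAi, this ▸ hxA⟩
    · have hC2 := card_inf_le_two hAi hxA hC
      have hfix : ∀ y ∈ A, y * x = x * y → y = 1 ∨ y = z := fun y hy h =>
        eq_one_or_eq_of_card_le_two hC2 (mem_inf.mpr ⟨hzA,
          mem_centralizer_singleton_iff.mpr (hzc' x).symm⟩) hz1
          (mem_inf.mpr ⟨hy, mem_centralizer_singleton_iff.mpr h⟩)
      haveI : A.Normal := normal_of_index_eq_two hAi
      have hcomm : ∀ y ∈ A, Commute a y := by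
        intro y hy
        obtain ⟨i, rfl | rfl⟩ := hform y hy
        · exact (Commute.refl a).zpow_right i
        · exact ((Commute.refl a).zpow_right i).mul_right (hzc' a)
      have hxi : x⁻¹ = x := inv_eq_of_orderOf_two hx
      have h1 := hfix (a * (x * a * x⁻¹)) (mul_mem haA (‹A.Normal›.conj_mem a haA x)) (by
        nth_rewrite 2 [(hcomm _ (‹A.Normal›.conj_mem a haA x)).eq]
        rw [hxi]
        calc a * (x * a * x) * x = a * x * a * (x * x) := by group
          _ = (x * x) * a * x * a := by rw [hx2]; group
          _ = _ := by group)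
      have h2 : x * (a * a) * x⁻¹ = (a * a)⁻¹ := by
        have : x * (a * a) * x⁻¹ = (x * a * x⁻¹) * (x * a * x⁻¹) := by group
        rw [this]
        rcases h1 with h | h
        · rw [eq_inv_of_mul_eq_one_right h]; group
        · rw [eq_inv_mul_of_mul_eq h, mul_assoc, ← mul_assoc z, ← hzc', mul_assoc, hz2]; group
      have h3 : a * a = 1 := by
        by_contra hne
        obtain ⟨j, hj1, hj2⟩ := exists_pow_ne_one_pow_eq_one (p := 2) hne (hS _)
        have h4 : x * (a * a) ^ 2 ^ j * x⁻¹ = (a * a) ^ 2 ^ j := by
          rw [← conj_pow, h2, inv_pow]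
          exact inv_eq_of_mul_eq_one_right (by rw [← pow_two, hj2])
        rcases hfix _ (pow_mem (mul_mem haA haA) _) (mul_inv_eq_iff_eq_mul.mp h4).symm with h | h
        · exact hj1 h
        · exact hza (h ▸ pow_mem (mul_mem (mem_zpowers a) (mem_zpowers a)) _)
      have hai : a⁻¹ = a := inv_eq_of_mul_eq_one_right h3
      have hAel : ∀ y ∈ A, y = 1 ∨ y = a ∨ y = z ∨ y = a * z := by
        intro y hy
        obtain ⟨i, rfl | rfl⟩ := hform y hy
        · rcases (mem_zpowers_of_mul_self h3).mp (zpow_mem (mem_zpowers a) i) with h | h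
          · exact Or.inl h
          · exact Or.inr (Or.inl h)
        · rcases (mem_zpowers_of_mul_self h3).mp (zpow_mem (mem_zpowers a) i) with h | h
          · rw [h, one_mul]; tauto
          · rw [h]; tauto
      have hSel : ∀ y, y ∈ A ∨ y * x ∈ A := by
        intro y
        by_cases h : y ∈ A
        · exact Or.inl h
        · right; rw [mul_mem_iff_of_index_two hAi]; tauto
      rcases h1 with h | h
      · exfalso
        have h4 : a * x = x * a := by
          have := eq_inv_of_mul_eq_one_right h
          rw [hai] at this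
          exact (mul_inv_eq_iff_eq_mul.mp this).symm
        apply hxc
        have h5 : ∀ y ∈ A, y * x = x * y := by
          intro y hy
          rcases hAel y hy with rfl | rfl | rfl | rfl
          · simp
          · exact h4
          · exact (hzc' x).symm
          · rw [mul_assoc, ← hzc', ← mul_assoc, h4, mul_assoc]
        rw [mem_center_iff]
        intro y
        rcases hSel y with h | h
        · exact h5 y h
        · have := h5 _ h
          rw [← mul_assoc] at this
          exact mul_right_cancel this
      · have h4 : a * x * (a * x) = z := by rw [← h, hxi]; group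
        have hb : z ∈ zpowers (a * x) := h4 ▸ mul_mem (mem_zpowers _) (mem_zpowers _)
        have hx' : x ∉ zpowers (a * x) := by
          intro h5
          have h6 : Commute x (a * x) := by
            obtain ⟨i, hi⟩ := mem_zpowers_iff.mp h5
            nth_rewrite 1 [← hi]
            exact (Commute.refl _).zpow_left i
          apply hz1
          rw [← h4]
          nth_rewrite 1 [mul_assoc, h6.eq]
          rw [mul_assoc a x x, hx2, mul_one, h3]
        refine ⟨a * x, ?_, hx'⟩
        rw [← relIndex_top_right]
        apply relIndex_eq_two_of (mem_top x) hx'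
        intro y _ hy
        rcases hSel y with h | h
        · rcases hAel y h with rfl | rfl | rfl | rfl
          · exact absurd (one_mem _) hy
          · exact mem_zpowers _
          · exact absurd hb hy
          · rw [mul_assoc, ← hzc', ← mul_assoc]; exact mul_mem (mem_zpowers _) hb
        · have e : y = y * x * x := by rw [mul_assoc, hx2, mul_one]
          rcases hAel _ h with h | h | h | h
          · rw [h]; exact one_mem _
          · rw [h] at e; exact absurd (e ▸ mem_zpowers _) hy
          · rw [h]; exact hb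
          · rw [h, mul_assoc, ← hzc', ← mul_assoc] at e
            exact absurd (e ▸ mul_mem (mem_zpowers _) hb) hy

/-- A finite 2-group containing an involution whose centralizer has order 4 is dihedral, quasi-dihedral (semidihedral), or of order 4. -/
theorem result {S : Type*} [Group S] [Finite S] (hS : IsPGroup 2 S)
    (x : S) (hx : orderOf x = 2) (hC : Nat.card ↥(Subgroup.centralizer ({x} : Set S)) = 4) :
    (∃ n : ℕ, Nonempty (S ≃* DihedralGroup n)) ∨ Cfsg.IsQuasiDihedral S ∨ Nat.card S = 4 := by
  haveI : Fact (Nat.Prime 2) := ⟨Nat.prime_two⟩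
  by_cases h4 : Nat.card S = 4
  · exact Or.inr (Or.inr h4)
  have hnc : ¬ IsCyclic S := by
    intro h
    apply h4
    have htop : centralizer ({x} : Set S) = ⊤ := by
      rw [eq_top_iff]; intro g _
      exact mem_centralizer_singleton_iff.mpr
        ((inferInstance : IsMulCommutative S).is_comm.comm g x)
    rwa [htop, card_top] at hC
  obtain ⟨a, ha, hxa⟩ := aux _ S rfl hS x hx hC.le hnc
  obtain ⟨k, hk⟩ := hS.exists_orderOf_eq_pow a
  have hcard : Nat.card S = 2 ^ (k + 1) := by
    rw [← (zpowers a).card_mul_index, Nat.card_zpowers, ha, hk, pow_succ]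
  have hle : 4 ≤ Nat.card S := hC ▸ card_le_card_group _
  have hk2 : 2 ≤ k := by
    by_contra h
    have : k = 0 ∨ k = 1 := by omega
    rcases this with rfl | rfl <;> omega
  obtain ⟨k, rfl⟩ : ∃ j, k = j + 2 := ⟨k - 2, by omega⟩
  have hx2 := mul_self_of_orderOf_two hx
  have hxi : x⁻¹ = x := inv_eq_of_orderOf_two hx
  haveI hN : (zpowers a).Normal := normal_of_index_eq_two ha
  have hm := hN.conj_mem a (mem_zpowers a) x
  have hcomm : Commute a (x * a * x⁻¹) := by
    obtain ⟨i, hi⟩ := mem_zpowers_iff.mp hm
    rw [← hi]; exact (Commute.refl a).zpow_right i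
  have hy : a * (x * a * x⁻¹) ∈ zpowers a ⊓ centralizer ({x} : Set S) := by
    refine mem_inf.mpr ⟨mul_mem (mem_zpowers a) hm, mem_centralizer_singleton_iff.mpr ?_⟩
    nth_rewrite 2 [hcomm.eq]
    rw [hxi]
    calc a * (x * a * x) * x = a * x * a * (x * x) := by group
      _ = (x * x) * a * x * a := by rw [hx2]; group
      _ = _ := by group
  have hy2 : a * (x * a * x⁻¹) * (a * (x * a * x⁻¹)) = 1 := by
    by_cases h1 : a * (x * a * x⁻¹) = 1
    · rw [h1, one_mul]
    · rcases eq_one_or_eq_of_card_le_two (card_inf_le_two ha hxa hC.le) hy h1 (mul_mem hy hy)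
        with h | h
      · exact h
      · exact absurd (by simpa using h) h1
  rcases eq_pow_of_mem_zpowers_of_mul_self (m := 2 ^ (k + 1)) (by rw [hk]; ring) (by positivity)
    hy.1 hy2 with h | h
  · left
    obtain ⟨e⟩ := Cfsg.Agent.H4.nonempty_closure_equiv_dihedral_of_inverts hx2
      (eq_inv_of_mul_eq_one_right h) hxa
    have htop : closure ({x, a} : Set S) = ⊤ := by
      rw [eq_top_iff]
      intro y _
      have h1 : zpowers a ≤ closure ({x, a} : Set S) := zpowers_le.mpr (subset_closure (by simp))
      have h2 : x ∈ closure ({x, a} : Set S) := subset_closure (by simp)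
      by_cases hya : y ∈ zpowers a
      · exact h1 hya
      · have : y * x ∈ zpowers a := by rw [mul_mem_iff_of_index_two ha]; tauto
        simpa using mul_mem (h1 this) (inv_mem h2)
    rw [htop] at e
    exact ⟨_, ⟨topEquiv.symm.trans e⟩⟩
  · right; left
    have h1 : x * a * x⁻¹ = a ^ (2 ^ (k + 1) - 1) := by
      rw [eq_inv_mul_of_mul_eq h]
      have : 2 ^ (k + 1) = (2 ^ (k + 1) - 1) + 1 := (Nat.sub_add_cancel Nat.one_le_two_pow).symm
      nth_rewrite 1 [this]
      rw [pow_succ', inv_mul_cancel_left]
    refine ⟨k + 2, ?_, hcard, a, x, hk, hx, h1⟩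
    by_contra hlt
    have : k = 0 := by omega
    subst this
    norm_num at h1
    have h2 : zpowers a ≤ zpowers a ⊓ centralizer ({x} : Set S) :=
      le_inf le_rfl (zpowers_le.mpr (mem_centralizer_singleton_iff.mpr
        (mul_inv_eq_iff_eq_mul.mp h1).symm))
    have h3 := (card_le_of_le h2).trans (card_inf_le_two ha hxa hC.le)
    rw [Nat.card_zpowers, hk] at h3
    omega

end Cfsg.Agent.S3224
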