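import Cfsg.Statements.S3300
import Cfsg.Agent.H9.Cocyc

set_option autoImplicit false
open Cfsg

namespace Cfsg.Agent.S3300

open Subgroup Cfsg.Agent.H9

/-- Let G be a finite group with no nontrivial 2-group quotient (O^2(G) = G), z an involution of G with H = C_G(z), and suppose E = O_2(H) is extraspecial with C_G(E) ≤ E and of order 2^(2n+1) with n ≥ 3. If H has a normal subgroup of index 2, then z is conjugate in G to an element of E other than z. -/
theorem result {G : Type*} [Group G] [Finite G] (hres : Cfsg.pResidual 2 G = ⊤) (z : G) (hz : orderOf z = 2)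
    (E : Subgroup G) (hE : E = (Cfsg.pCore 2 ↥(Subgroup.centralizer ({z} : Set G))).map (Subgroup.centralizer ({z} : Set G)).subtype)
    (hext : Cfsg.IsExtraspecial 2 ↥E) (hcent : Subgroup.centralizer (E : Set G) ≤ E) (n : ℕ) (hn : 3 ≤ n) (hcard : Nat.card ↥E = 2 ^ (2 * n + 1))
    (K : Subgroup G) (hKH : K ≤ Subgroup.centralizer ({z} : Set G))
    (hKn : ∀ h ∈ Subgroup.centralizer ({z} : Set G), K.map (MulAut.conj h).toMonoidHom = K)
    (hKi : K.relIndex (Subgroup.centralizer ({z} : Set G)) = 2) :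
    ∃ g : G, g * z * g⁻¹ ∈ E ∧ g * z * g⁻¹ ≠ z := by
  classical
  haveI := Fintype.ofFinite (G ⧸ centralizer ({z} : Set G))
  haveI := Fact.mk Nat.prime_two
  have h := LgE.of_pCore hz hE hext hcent
  obtain ⟨φ, hφ⟩ := exists_sign_of_relIndex_two hKi
  have hc := isCoc_coc φ
  by_contra hne
  simp only [not_exists, not_and, not_not] at hne
  obtain ⟨x₀, hx₀, hx₀K⟩ : ∃ x ∈ centralizer ({z} : Set G), x ∉ K :=
    SetLike.not_le_iff_exists.mp fun h1 => by rw [relIndex_eq_one.mpr h1] at hKi; omega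
  obtain ⟨m, hm, hxm⟩ := exists_coprime_pow_pElement (p := 2) x₀
  have hx := pow_mem hx₀ m
  have hXH : E ⊔ zpowers (x₀ ^ m) ≤ centralizer ({z} : Set G) := sup_le h.le_cent (zpowers_le.mpr hx)
  have h0 := h.eq_one_of_key hres Int.units_mul_self φ (h.isPGroup.to_sup_of_normal_left'
    (isPGroup_zpowers hxm) ((zpowers_le.mpr hx).trans h.norm)) le_sup_left hXH
    (x := x₀ ^ m) (fun ω hω M a hM hi ha haM => ?_) (mem_sup_right (mem_zpowers _))
  · obtain ⟨k, rfl⟩ : Odd m := Nat.not_even_iff_odd.mp fun h1 => hm h1.two_dvd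
    refine hx₀K ((mul_mem_cancel_left (pow_mem (mul_self_mem_of_relIndex_two hKi hx₀) k)).mp ?_)
    rw [← pow_two, ← pow_mul, ← pow_succ]
    exact (hφ _).mp h0
  have hF : ∀ f ∈ E ⊓ M, ∏ ω' ∈ orb M ω, coc φ f ω' = 1 := by
    intro f hf
    refine prod_eq_one_of_orb (X := E ⊓ M) (fun y hy => smul_mem_orb hy.2) fun ω' hω' => ?_
    have hω1 : ω' ≠ (1 : G) := by
      obtain ⟨y, hy, rfl⟩ := mem_orb.mp hω'
      refine fun h1 => hω (smul_left_cancel y (h1.trans (smul_mk_eq_iff.mpr ?_).symm))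
      simpa using mem_centralizer_singleton_iff.mp (hXH (hM hy))
    obtain ⟨g, rfl⟩ := QuotientGroup.mk_surjective ω'
    refine hc.prod_orb_eq_one_of_key Int.units_mul_self (E := E ⊓ M) (N := E ⊓ M) ?_
      (fun F b hF hi' hb hbF => ?_) _ (h.isPGroup.to_le inf_le_left) le_rfl le_rfl f hf
    · by_contra h3
      simp only [not_exists, not_and, not_not, smul_mk_eq_iff] at h3
      have hzM : z ∈ M := by
        obtain ⟨u, hu, v, hv, huv⟩ := h.nonab
        have := comm_mem_of_sq_mem (fun a ha => mul_self_mem_of_relIndex_two hi ha) hu hv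
        rwa [h.conj_eq_of_ne hu hv huv, h.cz v hv, mul_inv_cancel_right] at this
      obtain ⟨w, hw, hw'⟩ := h.exists_inner_of_relIndex (t := g * z * g⁻¹)
        (by calc _ = g * (z * z) * g⁻¹ := by group
          _ = 1 := by rw [h.sq]; group)
        (h.norm (mem_centralizer_singleton_iff.mpr (h3 z ⟨h.mem, hzM⟩).symm)) (by
          rw [← hi, ← inf_relIndex_left E M]
          exact relIndex_le_of_le_left (fun y hy => mem_centralizer_singleton_iff.mpr (h3 y hy))
            (by rw [inf_relIndex_left, hi]; omega))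
      have h4 := hne g ((mul_mem_cancel_left (inv_mem hw)).mp (h.cent fun q hq => by
        calc q * (w⁻¹ * (g * z * g⁻¹)) = w⁻¹ * (w * q * w⁻¹) * (g * z * g⁻¹) := by group
          _ = _ := by rw [← hw' q hq]; group))
      refine hω1 (QuotientGroup.eq.mpr (mem_centralizer_singleton_iff.mpr ?_))
      rw [mul_one]; nth_rewrite 1 [← h4]; group
    have hFE := hF.trans inf_le_left
    obtain ⟨u, hu, v, hv, huv⟩ := exists_not_comm_of (F := F) fun hc => by
      have h1 := h.card_le_of_comm hFE ha hb.1 hc fun q hq => by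
        have key : ∀ q ∈ E ⊓ M, q ∈ F ∨ q * b ∈ F := fun q hq => by
          by_cases h2 : q ∈ F
          · exact Or.inl h2
          · exact Or.inr (mul_mem_of_relIndex_two hi' hq hb h2 hbF)
        by_cases h2 : q ∈ M
        · have := key q ⟨hq, h2⟩; tauto
        · have := key (q * a) ⟨mul_mem hq ha, mul_mem_of_relIndex_two hi hq ha h2 haM⟩; tauto
      have h2 := Nat.le_of_dvd (by omega) (h.relIndex_centralizer_le hFE ha)
      have h2' := Nat.le_of_dvd (by omega) (h.relIndex_centralizer_le hFE hb.1)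
      have h5 := (relIndex_inf_le (H := centralizer ({a} : Set G)) (K := centralizer {b})
        (L := F)).trans (Nat.mul_le_mul h2 h2')
      have h3 := card_mul_relIndex hF
      have h3' := card_inf_mul_relIndex M E
      have h4 : 2 ^ 7 ≤ 2 ^ (2 * n + 1) := Nat.pow_le_pow_right (by omega) (by omega)
      rw [hi'] at h3
      rw [hi, hcard, inf_comm] at h3'
      omega
    have := hc.key_of_z h.toES (hc.prod_z h.toC2 hFE hu hv huv fun x hx =>
      smul_mem_orb (ω := (g : G ⧸ centralizer ({z} : Set G))) hx) hb.1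
    exact ⟨fun y hy => this.1 y (hFE hy), this.2⟩
  have hi2 : M.relIndex (M ⊔ E) = 2 := by
    refine relIndex_eq_two_of (mem_sup_right ha) haM fun s hs hsM => ?_
    obtain ⟨b, hb, c, hc, rfl⟩ := (mem_sup_of_le_normalizer ((hM.trans hXH).trans h.norm)).mp hs
    rw [mul_assoc]
    exact mul_mem hb (mul_mem_of_relIndex_two hi hc ha (fun h1 => hsM (mul_mem hb h1)) haM)
  refine ⟨fun y hy => hF _ (mem_inf.mpr ⟨?_, mul_mem (inv_mem hy) ?_⟩),
    hF _ ⟨mul_mem ha ha, mul_self_mem_of_relIndex_two hi ha⟩⟩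
  · rw [← mul_assoc, ← mul_assoc]
    exact mul_mem (conj_mem_of_mem_normalizer' (h.norm (hXH (hM hy))) (inv_mem ha)) ha
  · simpa using (conj_mem_iff_of_relIndex_two hi2 (mem_sup_left hy)
      (mem_sup_right (inv_mem ha))).mpr hy

end Cfsg.Agent.S3300
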