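import Cfsg.Statements.S0647
import Mathlib

set_option autoImplicit false
open Cfsg

namespace Cfsg.Agent.S0647

/-- For a nonempty family of maximal abelian subgroups of a finite group, the intersection of the family is the centre of the subgroup it generates, which is also the full centralizer of that subgroup. -/
theorem result {S : Type*} [Group S] [Finite S] (𝒜 : Set (Subgroup S)) (hne : 𝒜.Nonempty) (hab : ∀ A ∈ 𝒜, IsMulCommutative A) (hmax : ∀ A ∈ 𝒜, ∀ B : Subgroup S, IsMulCommutative B → A ≤ B → B = A) : sInf 𝒜 = sSup 𝒜 ⊓ Subgroup.centralizer ((sSup 𝒜 : Subgroup S) : Set S) ∧ sInf 𝒜 = Subgroup.centralizer ((sSup 𝒜 : Subgroup S) : Set S) := by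
  have key : sInf 𝒜 = Subgroup.centralizer ((sSup 𝒜 : Subgroup S) : Set S) := by
    apply le_antisymm
    · rw [Subgroup.le_centralizer_iff, sSup_le_iff]
      intro A hA
      rw [Subgroup.le_centralizer_iff]
      haveI := hab A hA
      exact (sInf_le hA).trans (Subgroup.le_centralizer A)
    · refine le_sInf fun A hA x hx => ?_
      have hxA : ∀ a ∈ A, a * x = x * a := fun a ha => hx a (le_sSup hA ha)
      haveI := hab A hA
      have h1 : IsMulCommutative (Subgroup.closure ((A : Set S) ∪ {x})) := by
        apply Subgroup.isMulCommutative_closure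
        rintro a (ha | rfl) b (hb | rfl)
        · exact setLike_mul_comm ha hb
        · exact hxA a ha
        · exact (hxA b hb).symm
        · rfl
      have := hmax A hA _ h1 (fun a ha => Subgroup.subset_closure (Or.inl ha))
      rw [← this]
      exact Subgroup.subset_closure (Or.inr rfl)
  refine ⟨le_antisymm (le_inf ?_ key.le) (inf_le_right.trans key.ge), key⟩
  obtain ⟨A, hA⟩ := hne
  exact (sInf_le hA).trans (le_sSup hA)

end Cfsg.Agent.S0647
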