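import Cfsg.Statements.S0650
import Cfsg.Agent.H5.GlaubRepl
import Mathlib

set_option autoImplicit false
open Cfsg

namespace Cfsg.Agent.S0650

/-- The Glauberman replacement Theorem: from an abelian A ⊇ [B, B] not normalized by the normal subgroup B and a suitable b ∈ B one gets the abelian subgroup A* = (A ∩ b⁻¹Ab)[A, b] of the same order, containing [B, B], meeting B strictly more than A does but not containing B, mutually normalizing with A, with strictly larger normalizer containing b, and (p odd) of no larger exponent. -/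
theorem result {S : Type*} [Group S] [Finite S] {p : ℕ} [Fact p.Prime] (hS : IsPGroup p S) (B : Subgroup S) [B.Normal] (hB2 : p = 2 → IsMulCommutative B) (A : Subgroup S) (hA : IsMulCommutative A) (hBA : ⁅B, B⁆ ≤ A) (hnot : ¬ B ≤ Subgroup.normalizer (A : Set S)) (b : S) (hb : b ∈ B) (hbN : b ∈ Subgroup.normalizer ((Subgroup.normalizer (A : Set S)) : Set S)) (hbA : b ∉ Subgroup.normalizer (A : Set S)) : Nat.card ↥((A ⊓ A.map (MulAut.conj (b⁻¹)).toMonoidHom) ⊔ Subgroup.closure {g : S | ∃ a ∈ A, g = a * b⁻¹ * a⁻¹ * b}) = Nat.card A ∧ IsMulCommutative ↥((A ⊓ A.map (MulAut.conj (b⁻¹)).toMonoidHom) ⊔ Subgroup.closure {g : S | ∃ a ∈ A, g = a * b⁻¹ * a⁻¹ * b}) ∧ ⁅B, B⁆ ≤ ((A ⊓ A.map (MulAut.conj (b⁻¹)).toMonoidHom) ⊔ Subgroup.closure {g : S | ∃ a ∈ A, g = a * b⁻¹ * a⁻¹ * b}) ∧ A ⊓ B < ((A ⊓ A.map (MulAut.conj (b⁻¹)).toMonoidHom) ⊔ Subgroup.closure {g : S | ∃ a ∈ A, g = a * b⁻¹ * a⁻¹ * b}) ⊓ B ∧ ((A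 ⊓ A.map (MulAut.conj (b⁻¹)).toMonoidHom) ⊔ Subgroup.closure {g : S | ∃ a ∈ A, g = a * b⁻¹ * a⁻¹ * b}) ⊓ B < B ∧ A ≤ Subgroup.normalizer (((A ⊓ A.map (MulAut.conj (b⁻¹)).toMonoidHom) ⊔ Subgroup.closure {g : S | ∃ a ∈ A, g = a * b⁻¹ * a⁻¹ * b} : Subgroup S) : Set S) ∧ ((A ⊓ A.map (MulAut.conj (b⁻¹)).toMonoidHom) ⊔ Subgroup.closure {g : S | ∃ a ∈ A, g = a * b⁻¹ * a⁻¹ * b}) ≤ Subgroup.normalizer (A : Set S) ∧ b ∈ Subgroup.normalizer (((A ⊓ A.map (MulAut.conj (b⁻¹)).toMonoidHom) ⊔ Subgroup.closure {g : S | ∃ a ∈ A, g = a * b⁻¹ * a⁻¹ * b} : Subgroup S) : Set S) ∧ Subgroup.normalizer (A : Set S) < Subgroup.normalizer (((A ⊓ A.map (MulAut.conj (b⁻¹)).toMonoidHom) ⊔ Subgroup.closure {g : S | ∃ a ∈ A, g = a * b⁻¹ * a⁻¹ * b} : Subgroup S) : Set S) ∧ (p ≠ 2 → Monoid.exponent ↥((A ⊓ A.map (MulAut.conj (b⁻¹)).toMonoidHom) ⊔ Subgroup.closure {g : S | ∃ a ∈ A, g = a * b⁻¹ * a⁻¹ * b}) ∣ Monoid.exponent A)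 := by
  have hp : p.Prime := Fact.out
  have h : H5.ReplHyp A B (Subgroup.normalizer (A : Set S)) b⁻¹ :=
    ⟨hA, hBA, Subgroup.le_normalizer, le_rfl, Subgroup.le_normalizer_of_normal, B.inv_mem hb,
      inv_mem hbN⟩
  have hc : b⁻¹ ∉ Subgroup.normalizer (A : Set S) := fun e => hbA (by simpa using e)
  have e : (A ⊓ A.map (MulAut.conj (b⁻¹)).toMonoidHom) ⊔
      Subgroup.closure {g : S | ∃ a ∈ A, g = a * b⁻¹ * a⁻¹ * b} = H5.repl A b⁻¹ := by
    simp only [H5.repl, commutatorElement_def, inv_inv]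
  rw [e]
  have hodd : p ≠ 2 → ∀ w : S, Odd (orderOf w) := by
    intro h2 w
    obtain ⟨k, hk⟩ := IsPGroup.iff_orderOf.mp hS w
    rw [hk]; exact (hp.odd_of_ne_two h2).pow
  have hbr : b ∈ Subgroup.normalizer (H5.repl A b⁻¹ : Set S) := by
    simpa using h.mem_normalizer_repl
  refine ⟨h.card_repl, h.comm_repl ?_, h.comm_le_repl, h.inf_lt hc, ?_,
    Subgroup.le_normalizer.trans h.le_normalizer_repl, h.repl_le, hbr, ?_, fun h2 => ?_⟩
  · by_cases h2 : p = 2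
    · exact Or.inl (hB2 h2)
    refine Or.inr fun w _ hw => ?_
    have h1 := orderOf_dvd_of_pow_eq_one hw
    rcases (Nat.dvd_prime Nat.prime_two).mp h1 with h3 | h3
    · exact orderOf_eq_one_iff.mp h3
    · exact absurd (h3 ▸ hodd h2 w) (by decide)
  · exact lt_of_le_of_ne inf_le_right fun e =>
      h.not_mem_repl hc ((e.ge.trans inf_le_left) (B.inv_mem hb))
  · exact lt_of_le_of_ne h.le_normalizer_repl fun e => hbA (e ▸ hbr)
  · rw [Monoid.exponent_dvd_iff_forall_pow_eq_one]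
    intro x
    have hodd' : Odd (Monoid.exponent A) := by
      obtain ⟨k, hk⟩ := (hS.to_subgroup A).exists_card_eq
      exact Odd.of_dvd_nat (hk ▸ (hp.odd_of_ne_two h2).pow) Group.exponent_dvd_nat_card
    exact Subtype.ext (h.pow_eq_one hodd' (fun a ha => congrArg Subtype.val
      (Monoid.pow_exponent_eq_one (⟨a, ha⟩ : A))) x x.2)

end Cfsg.Agent.S0650
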