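import Cfsg.Statements.S0654
import Cfsg.Agent.H5.ZJ
import Mathlib

set_option autoImplicit false
open Cfsg

namespace Cfsg.Agent.S0654

/-- The ZJ-Theorem for the elementary-abelian Thompson subgroup: for an odd prime p, a finite group G with C_G(O_p(G)) ≤ O_p(G) acting p-stably on its normal p-subgroups, and a Sylow p-subgroup S of G, the subgroup generated by the elements of order dividing p in Z(J_e(S)) is characteristic in G. -/
theorem result {G : Type*} [Group G] [Finite G] {p : ℕ} [Fact p.Prime] (hp : p ≠ 2) (hc : Subgroup.centralizer (Cfsg.pCore p G : Set G) ≤ Cfsg.pCore p G) (hst : ∀ (P : Subgroup G) [P.Normal], IsPGroup p P → Cfsg.IsPStableOn p P) (S : Sylow p G) : ((Cfsg.omegaCenterThompson p ↥(S : Subgroup G)).map (S : Subgroup G).subtype).Characteristic := by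
  rw [H4.map_omegaCenterThompson_subtype]
  exact H5.characteristic_of_normal_of_sylow (fun P => omegaOne p (centerThompsonOf p P))
    (fun e P => by
      rw [H4.map_omegaOne_of_injective _ e.injective,
        H4.map_centerThompsonOf_of_injective _ e.injective]) S
    (H5.omegaOne_centerThompsonOf_normal hp hc S
      (fun B _ hB A _ h => H5.inQCore_of_isPStableOn (hst B hB) h))

end Cfsg.Agent.S0654
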