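import Cfsg.Statements.S0655
import Cfsg.Agent.H4.Thompson
import Mathlib

set_option autoImplicit false
open Cfsg

namespace Cfsg.Agent.S0655

/-- In a p-group the intersection of all elementary abelian subgroups of largest order is the subgroup generated by the elements of order dividing p in the centre (equivalently the centralizer) of the elementary-version Thompson subgroup. -/
theorem result {S : Type*} [Group S] [Finite S] {p : ℕ} [Fact p.Prime] (hS : IsPGroup p S) : sInf (Cfsg.maxElementaryAbelianSubgroups p S) = Cfsg.omegaCenterThompson p S ∧ Cfsg.omegaCenterThompson p S = Cfsg.omegaOne p (Subgroup.centralizer (Cfsg.thompsonSubgroup p S : Set S)) := by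
  have h1 : omegaCenterThompson p S =
      omegaOne p (Subgroup.centralizer (thompsonSubgroup p S : Set S)) := by
    rw [H4.omegaCenterThompson_def]
    refine le_antisymm (H4.omegaOne_mono inf_le_right) ?_
    rw [H4.omegaOne_le_iff]
    intro x hx hp
    refine H4.mem_omegaOne ⟨?_, hx⟩ hp
    rw [← H4.thompsonSubgroupOf_top] at hx ⊢
    exact H4.mem_thompsonSubgroupOf_of_mem_centralizer (Subgroup.mem_top x) hp hx
  refine ⟨le_antisymm ?_ ?_, h1⟩
  · intro x hx
    rw [Subgroup.mem_sInf] at hx
    obtain ⟨A, hA⟩ := H4.maxEA_nonempty p (⊤ : Subgroup S)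
    rw [H4.maxEA_top] at hA
    rw [h1]
    refine H4.mem_omegaOne ?_ (hA.1.2 x (hx A hA))
    rw [H4.thompsonSubgroup_def, sSup_eq_iSup', H4.centralizer_iSup, Subgroup.mem_iInf]
    intro B
    exact H4.EA.le_centralizer B.2.1 (hx B B.2)
  · rw [H4.omegaCenterThompson_eq, le_sInf_iff]
    intro A hA
    rw [← H4.maxEA_top] at hA
    exact H4.omegaOne_centerThompsonOf_le hA

end Cfsg.Agent.S0655
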