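import Cfsg.Statements.S0994
import Cfsg.Agent.H6.Count

set_option autoImplicit false
open Cfsg

namespace Cfsg.Agent.S0994

/-- No finite simple group has order 1188 = 2^2 * 3^3 * 11. -/
theorem result {G : Type*} [Group G] [Finite G] [IsSimpleGroup G] : Nat.card G ≠ 1188 := by
  intro h
  have hG : ¬ IsMulCommutative G := H6.not_isMulCommutative_of_card (by rw [h]; norm_num)
  have : Fact (Nat.Prime 11) := ⟨by norm_num⟩
  obtain ⟨P⟩ := (inferInstance : Nonempty (Sylow 11 G))
  have hd : 11 ∣ Nat.card G := by rw [h]; norm_num
  have hP : Nat.card (P : Subgroup G) = 11 := by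
    rw [P.card_eq_multiplicity, h, show 1188 = 11 * 108 by norm_num,
      Nat.factorization_mul (by norm_num) (by norm_num), Finsupp.add_apply,
      Nat.Prime.factorization_self Fact.out, Nat.factorization_eq_zero_of_not_dvd (by norm_num)]
    norm_num
  have h1 := H6.card_sylow_mul_card_normalizer P
  have h2 := card_sylow_modEq_one 11 G
  have h3 := H6.two_mul_card_dvd_factorial_card_sylow hG hd
  have h4 := P.card_dvd_index
  have h5 := (P : Subgroup G).index_mul_card
  have h6 := H6.relIndex_centralizer_ne_one (H6.perfect_of_simple hG) hd P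
  have h7 := H6.relIndex_centralizer_dvd_sub_one hP
  have h8 := H6.relIndex_centralizer_mul_card (P : Subgroup G)
  rw [hP, h] at h5
  have h9 : (P : Subgroup G).index = 108 := by omega
  rw [h9] at h4
  rw [h] at h1 h3
  generalize Nat.card (Sylow 11 G) = n at *
  have hn : n = 12 := by
    have := Nat.le_of_dvd (by norm_num) h4
    unfold Nat.ModEq at h2
    interval_cases n <;> first | rfl | omega | (exfalso; revert h3; decide)
  subst hn
  have h10 : _ ∣ 99 := Dvd.intro _ (h8.trans (by omega))
  have := Nat.dvd_gcd h7 h10
  exact h6 (Nat.dvd_one.mp this)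

end Cfsg.Agent.S0994
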