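import Cfsg.Statements.S1295
import Cfsg.Agent.H6.SFO4
import Cfsg.Agent.H7.Local

set_option autoImplicit false
open Cfsg

namespace Cfsg.Agent.S1295

theorem result {G : Type*} [Group G] [Finite G] (p : ℕ) [Fact p.Prime] (hO : Cfsg.pPrimeCore p G = ⊥) (hrk : ¬ Cfsg.PRankLE p 2 G) (hconn : Cfsg.IsRankGraphConnected p 2 G) (hL : ∀ a : G, (orderOf a = p ∧ ¬ Cfsg.PRankLE p 2 ↥(Subgroup.centralizer ({a} : Set G))) → Cfsg.pLayer p ↥(Subgroup.centralizer ({a} : Set G)) = ⊥ ∧ Group.IsSolvable ↥(Cfsg.centralizerPPrimeCore p a)) (a : G) (ha : (orderOf a = p ∧ ¬ Cfsg.PRankLE p 2 ↥(Subgroup.centralizer ({a} : Set G)))) : Cfsg.generalizedFittingSubgroup ↥(Subgroup.centralizer ({a} : Set G)) = Cfsg.pCore p ↥(Subgroup.centralizer ({a} : Set G)) := by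
  have h1 := H8.SF.equivariant_trivial (H6.SFO.sftHyp p) hO hrk hconn
    (fun a => H8.Opp p (Subgroup.centralizer {a}))
    (fun a ha => ⟨H8.SF.Opp_le _, H8.SF.Opp_not_dvd _, (hL a ha).2⟩)
    (fun a g _ => by rw [H8.SF.cj_Opp', H8.cj_centralizer_singleton])
    (fun a b ha hb hab => H8.Opp_centralizer_balance
      (H8.SF.pgroup_zpowers_of_pow (by rw [← ha.1, pow_orderOf_eq_one])) hab
      (H7.isPConstrained_iff_pLayer_eq_bot.2 (hL b hb).1)) a ha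
  have h2 := L0.map_pPrimeCore_eq_bot_iff.1 h1
  exact H7.fstar_eq_pCore_iff.2 ⟨by rw [← H7.pLayer_eq_layer h2]; exact (hL a ha).1, h2⟩

end Cfsg.Agent.S1295
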