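import Cfsg.Statements.S1322
import Cfsg.Agent.H7.Pump
import Cfsg.Agent.FT.Main

set_option autoImplicit false
open Cfsg

namespace Cfsg.Agent.S1322

open Subgroup Cfsg.Agent.H7
open scoped commutatorElement

/-- Let G be finite with L_{2'}(G) = E(G), t an involution and L ≤ C_G(t) a component of C_G(t). Then there is a component D of G with: L = D; or L < D and D = ⁅D, ⟨t⟩⁆; or tDt⁻¹ ≠ D and L is the layer of C_{D ⊔ tDt⁻¹}(t). -/
theorem result {G : Type*} [Group G] [Finite G] (hL2 : Cfsg.pLayer 2 G = Cfsg.layer G) (t : G) (ht : orderOf t = 2) (L : Subgroup G) (hLt : L ≤ Subgroup.centralizer ({t} : Set G)) (hL : Cfsg.IsComponent (L.subgroupOf (Subgroup.centralizer ({t} : Set G)))) : ∃ D : Subgroup G, Cfsg.IsComponent D ∧ (L = D ∨ (L < D ∧ D = ⁅D, Subgroup.zpowers t⁆) ∨ (D.map (MulAut.conj t).toMonoidHom ≠ D ∧ L = (Cfsg.layer ↥((D ⊔ D.map (MulAut.conj t).toMonoidHom) ⊓ Subgroup.centralizer ({t} : Set G))).map ((D ⊔ D.map (MulAut.conj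 t).toMonoidHom) ⊓ Subgroup.centralizer ({t} : Set G)).subtype)) := by
  have hC : CompOf L (centralizer {t}) := compOf_iff.2 ⟨hLt, hL⟩
  have h2 : 2 ∣ Nat.card L := by
    by_contra h
    exact QS.not_isSolvable hC.qs (FT.odd_solvable (Nat.not_even_iff_odd.1 (mt even_iff_two_dvd.1 h)))
  have ht2 := sq_eq_one_of_orderOf_two ht
  obtain ⟨D, hD, h | ⟨h, hc, e⟩⟩ := PCompOf.pumpup (H := ⊤) ht2 (mem_top t)
    (by rw [top_inf_eq]; exact hC.pCompOf h2)
    (by rw [layerOf_top, ← hL2]; exact (hC.pCompOf h2).le_playerOf.trans (playerOf_centralizer_singleton_le ht))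
  · refine ⟨D, compOf_top_iff.1 hD, ?_⟩
    rcases QS.commutator_eq_or hD.qs (zpowers_le.2 (H8.cj_eq_self_iff.1 h.1)) with h3 | h3
    · rcases h.2.eq_or_lt with h4 | h4
      · exact Or.inl h4
      · exact Or.inr (Or.inl ⟨h4, h3.symm⟩)
    · refine Or.inl (hC.eq_of_le (hD.mono ?_ le_top) h.2)
      rw [← H8.centralizer_zpowers]
      exact commutator_eq_bot_iff_le_centralizer.1 h3
  · exact ⟨D, compOf_top_iff.1 hD, Or.inr (Or.inr ⟨h, e.trans (layerOf_inf_centralizer_eq_diag ht2 hc hD.qs).symm⟩)⟩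

end Cfsg.Agent.S1322
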