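import Cfsg.Statements.S1323
import Cfsg.Agent.H7.Component

set_option autoImplicit false
open Cfsg

namespace Cfsg.Agent.S1323

open Subgroup Equiv Equiv.Perm
open scoped Pointwise commutatorElement

section aux
variable {α : Type*} [Fintype α] [DecidableEq α]

/-- even permutations supported in `s` -/
def AS (s : Finset α) : Subgroup (alternatingGroup α) := (alternatingGroup.ofSubtype s).range

theorem mem_AS {s : Finset α} {k : alternatingGroup α} :
    k ∈ AS s ↔ ∀ x, x ∉ s → (k : Perm α) x = x := by
  rw [AS, alternatingGroup.mem_range_ofSubtype_iff]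
  constructor
  · intro h x hx
    by_contra hne
    exact hx (h (mem_support.mpr hne))
  · intro h x hx
    by_contra hne
    exact (mem_support.mp hx) (h x hne)

noncomputable def equivAS (s : Finset α) : alternatingGroup s ≃* AS s :=
  MonoidHom.ofInjective alternatingGroup.ofSubtype_injective

theorem card_AS (s : Finset α) : Nat.card (AS s) = Nat.card (alternatingGroup s) :=
  (Nat.card_congr (equivAS s).toEquiv).symm

theorem two_mul_card_AS {s : Finset α} (hs : 2 ≤ s.card) : 2 * Nat.card (AS s) = s.card.factorial := by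
  have : Nontrivial s := by
    rw [← Fintype.one_lt_card_iff_nontrivial]; simp; omega
  rw [card_AS, two_mul_nat_card_alternatingGroup, Nat.card_perm]
  simp

theorem odd_card_AS {s : Finset α} (hs : s.card ≤ 3) : Odd (Nat.card (AS s)) := by
  by_cases h2 : 2 ≤ s.card
  · have h := two_mul_card_AS h2
    have : s.card = 2 ∨ s.card = 3 := by omega
    rcases this with h3 | h3
    · rw [h3] at h
      have : Nat.card (AS s) = 1 := by simp [Nat.factorial] at h ⊢; omega
      rw [this]; exact odd_one
    · rw [h3] at h
      have : Nat.card (AS s) = 3 := by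
        have : Nat.factorial 3 = 6 := rfl
        omega
      rw [this]; decide
  · have : Subsingleton s := by
      rw [← Fintype.card_le_one_iff_subsingleton]; simp; omega
    rw [card_AS]
    have : Subsingleton (alternatingGroup s) := inferInstance
    rw [Nat.card_of_subsingleton (1 : alternatingGroup s)]
    exact odd_one

theorem AS_inf (s t : Finset α) : AS s ⊓ AS t = AS (s ∩ t) := by
  ext k
  simp only [mem_inf, mem_AS, Finset.mem_inter, not_and_or]
  constructor
  · rintro ⟨h1, h2⟩ x (hx | hx)
    · exact h1 x hx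
    · exact h2 x hx
  · intro h
    exact ⟨fun x hx => h x (Or.inl hx), fun x hx => h x (Or.inr hx)⟩

theorem map_conj_AS (s : Finset α) (g : alternatingGroup α) :
    (AS s).map (MulAut.conj g).toMonoidHom = AS (g • s) :=
  alternatingGroup.conj_smul_range_ofSubtype s g

/-- a three-cycle inside `s` moving `y` and avoiding `x` -/
theorem exists_three {s : Finset α} {y : α} (hy : y ∈ s) (x : α) (hs : 3 ≤ (s.erase x).card)
    (hxy : x ≠ y) : ∃ c ∈ AS s, (c : Perm α) y ≠ y ∧ (c : Perm α) x = x := by
  have hy' : y ∈ s.erase x := Finset.mem_erase.mpr ⟨hxy.symm, hy⟩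
  have h2 : 1 < ((s.erase x).erase y).card := by rw [Finset.card_erase_of_mem hy']; omega
  obtain ⟨a, ha, b, hb, hab⟩ := Finset.one_lt_card.mp h2
  simp only [Finset.mem_erase] at ha hb
  refine ⟨⟨swap y a * swap y b, ?_⟩, ?_, ?_, ?_⟩
  · rw [mem_alternatingGroup, map_mul, sign_swap ha.1.symm, sign_swap hb.1.symm]; simp
  · rw [mem_AS]
    intro z hz
    have h1 : z ≠ y := fun h => hz (h ▸ hy)
    have h2 : z ≠ a := fun h => hz (h ▸ ha.2.2)
    have h3 : z ≠ b := fun h => hz (h ▸ hb.2.2)
    simp [swap_apply_of_ne_of_ne h1 h3, swap_apply_of_ne_of_ne h1 h2]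
  · simp only [coe_mul, Function.comp_apply, swap_apply_left]
    rw [swap_apply_of_ne_of_ne hb.1 hab.symm]
    exact hb.1
  · simp only [coe_mul, Function.comp_apply]
    rw [swap_apply_of_ne_of_ne hxy hb.2.1.symm, swap_apply_of_ne_of_ne hxy ha.2.1.symm]

theorem centralizer_AS {s : Finset α} (hs : 4 ≤ s.card) :
    centralizer (AS s : Set (alternatingGroup α)) = AS sᶜ := by
  ext g
  rw [mem_centralizer_iff, mem_AS]
  constructor
  · intro h x hx
    rw [Finset.mem_compl, not_not] at hx
    by_contra hne
    by_cases hy : (g : Perm α) x ∈ s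
    · obtain ⟨c, hc, h1, h2⟩ := exists_three hy x
        (by rw [Finset.card_erase_of_mem hx]; omega) (Ne.symm hne)
      have := congrArg (fun k : alternatingGroup α => (k : Perm α) x) (h c hc)
      simp only [Subgroup.coe_mul, coe_mul, Function.comp_apply, h2] at this
      exact h1 this
    · obtain ⟨c, hc, h1, h2⟩ := exists_three hx ((g : Perm α) x)
        (by rw [Finset.erase_eq_of_notMem hy]; omega) hne
      have := congrArg (fun k : alternatingGroup α => (k : Perm α) x) (h c hc)
      simp only [Subgroup.coe_mul, coe_mul, Function.comp_apply, h2] at this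
      exact h1 ((g : Perm α).injective this).symm
  · intro h c hc
    rw [SetLike.mem_coe, mem_AS] at hc
    apply Subtype.ext
    have : Perm.Disjoint (c : Perm α) (g : Perm α) := by
      intro x
      by_cases hx : x ∈ s
      · right; exact h x (by simpa using hx)
      · left; exact hc x hx
    exact this.commute.eq

theorem qs_AS {s : Finset α} (hs : 5 ≤ s.card) : IsQuasisimple (AS s) := by
  rw [← H7.QS.congr (equivAS s)]
  have : IsSimpleGroup (alternatingGroup s) := alternatingGroup.isSimpleGroup (by simpa using hs)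
  apply H7.QS.of_isSimpleGroup
  rw [alternatingGroup.isMulCommutative_iff_card_le_three]
  simp; omega

theorem standard_AS {s : Finset α} (hs : 5 ≤ s.card) (hc : sᶜ.card = 4) :
    IsStandardSubgroup (AS s) := by
  have h1 : centralizer (AS s : Set (alternatingGroup α)) = AS sᶜ := centralizer_AS (by omega)
  have h2 : centralizer (AS sᶜ : Set (alternatingGroup α)) = AS s := by
    rw [centralizer_AS (by omega), compl_compl]
  refine ⟨qs_AS hs, ⟨?_, ?_⟩, ?_, ?_⟩
  · rw [h1]
    have h := two_mul_card_AS (s := sᶜ) (by omega)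
    rw [hc] at h
    have : Nat.factorial 4 = 24 := rfl
    exact ⟨6, by omega⟩
  · intro g hg
    rw [h1] at hg ⊢
    rw [map_conj_AS, AS_inf]
    apply odd_card_AS
    by_contra hlt
    apply hg
    have e1 : sᶜ ∩ g • sᶜ = g • sᶜ := by
      apply Finset.eq_of_subset_of_card_le Finset.inter_subset_right
      rw [Finset.card_smul_finset]; omega
    have e2 : sᶜ ∩ g • sᶜ = sᶜ := by
      apply Finset.eq_of_subset_of_card_le Finset.inter_subset_left
      omega
    have e3 : (AS sᶜ).map (MulAut.conj g).toMonoidHom = AS sᶜ := by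
      rw [map_conj_AS, ← e1, e2]
    exact mem_normalizer_iff_map_conj_eq.mpr e3
  · intro g _ hcomm
    rw [map_conj_AS] at hcomm
    have hle : AS (g • s) ≤ AS sᶜ := by
      rw [← h1]
      intro x hx
      rw [mem_centralizer_iff]
      intro y hy
      exact H7.comm_eq_bot_iff.mp hcomm y hy x hx
    have hcard : 5 ≤ (g • s).card := by rw [Finset.card_smul_finset]; exact hs
    have : ¬ (g • s ⊆ sᶜ) := fun h => by have := Finset.card_le_card h; omega
    obtain ⟨y, hy, hy'⟩ := Finset.not_subset.mp this
    obtain ⟨x, hx, hxy⟩ : ∃ x ∈ g • s, x ≠ y :=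
      Finset.exists_mem_ne (by omega) y
    obtain ⟨c, hc, h3, -⟩ := exists_three hy x (by rw [Finset.card_erase_of_mem hx]; omega) hxy
    exact h3 (mem_AS.mp (hle hc) y hy')
  · apply le_antisymm (H7.normalizer_le_normalizer_centralizer _)
    have := H7.normalizer_le_normalizer_centralizer (AS sᶜ)
    rw [h2] at this
    rw [h1]
    exact this

end aux

/-- For n ≥ 9, the subgroup of the alternating group on Fin n fixing each of the points 0, 1, 2, 3 is a standard subgroup. -/
theorem result (n : ℕ) (h4 : 4 ≤ n) (hn : 9 ≤ n) : Cfsg.IsStandardSubgroup (⨅ i : Fin 4, MulAction.stabilizer ↥(alternatingGroup (Fin n)) (Fin.castLE h4 i : Fin n)) := by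
  let d : Finset (Fin n) := Finset.univ.map (Fin.castLEEmb h4)
  have hd : d.card = 4 := by simp [d]
  have e : (⨅ i : Fin 4, MulAction.stabilizer ↥(alternatingGroup (Fin n)) (Fin.castLE h4 i : Fin n)) = AS dᶜ := by
    ext k
    simp only [mem_iInf, MulAction.mem_stabilizer_iff, mem_AS, Finset.mem_compl, not_not]
    constructor
    · intro h x hx
      obtain ⟨i, -, rfl⟩ := Finset.mem_map.mp hx
      exact h i
    · intro h i
      exact h _ (Finset.mem_map.mpr ⟨i, Finset.mem_univ _, rfl⟩)
  rw [e]
  apply standard_AS
  · rw [Finset.card_compl, hd]; simp; omega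
  · rw [compl_compl, hd]

end Cfsg.Agent.S1323
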