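import Cfsg.Statements.S1339
import Cfsg.Agent.H7.FStar
import Cfsg.Agent.L0.Core

set_option autoImplicit false
open Cfsg

namespace Cfsg.Agent.S1339

/-- Let F be a field with 2 elements, n ≥ 3, and t ∈ SL(n, F) a transvection (t = 1 + E_{ij}, i ≠ j). Then the generalized Fitting subgroup of C(t) is O_2(C(t)). -/
theorem result {F : Type*} [Field F] [Fintype F] [DecidableEq F] (hF : Fintype.card F = 2) (n : ℕ) (hn : 3 ≤ n) (i j : Fin n) (hij : i ≠ j) (t : Matrix.SpecialLinearGroup (Fin n) F) (ht : (t : Matrix (Fin n) (Fin n) F) = Matrix.transvection i j 1) : Cfsg.generalizedFittingSubgroup ↥(Subgroup.centralizer ({t} : Set (Matrix.SpecialLinearGroup (Fin n) F))) = Cfsg.pCore 2 ↥(Subgroup.centralizer ({t} : Set (Matrix.SpecialLinearGroup (Fin n) F))) := by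
  haveI : Fact (Nat.Prime 2) := ⟨Nat.prime_two⟩
  have h2 : (2 : F) = 0 := by have := FiniteField.cast_card_eq_zero F; rw [hF] at this; exact_mod_cast this
  set E : Matrix (Fin n) (Fin n) F := Matrix.single i j 1 with hE
  have hEE : E * E = 0 := Matrix.single_mul_single_of_ne _ _ _ _ hij.symm _
  set C := Subgroup.centralizer ({t} : Set (Matrix.SpecialLinearGroup (Fin n) F)) with hC
  have hmem : ∀ g : Matrix.SpecialLinearGroup (Fin n) F, g ∈ C ↔ g.1 * E = E * g.1 := fun g => by
    rw [hC, Subgroup.mem_centralizer_singleton_iff]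
    refine (Subtype.ext_iff (a1 := g * t) (a2 := t * g)).trans ?_
    change g.1 * t.1 = t.1 * g.1 ↔ _
    rw [show t.1 = 1 + E from ht, mul_add, add_mul, mul_one, one_mul, add_right_inj]
  have hinv : ∀ g : C, g.1.1 * (g⁻¹ : C).1.1 = 1 := fun g => congrArg (fun x : C => x.1.1) (mul_inv_cancel g)
  let Q : Subgroup C :=
    { carrier := {g | ∃ M, g.1.1 = 1 + E * M}
      mul_mem' := by
        rintro a b ⟨M, hM⟩ ⟨N, hN⟩
        refine ⟨M * b.1.1 + N, ?_⟩
        change a.1.1 * b.1.1 = _
        rw [hM, add_mul, one_mul, mul_add, mul_assoc]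
        nth_rewrite 1 [hN]
        abel
      one_mem' := ⟨0, by simp⟩
      inv_mem' := by
        rintro a ⟨M, hM⟩
        refine ⟨-(M * (a⁻¹ : C).1.1), ?_⟩
        have := hinv a
        rw [hM, add_mul, one_mul, mul_assoc] at this
        rw [mul_neg, ← this]; abel }
  have hQn : Q.Normal := ⟨by
    rintro a ⟨M, hM⟩ c
    refine ⟨c.1.1 * M * (c⁻¹ : C).1.1, ?_⟩
    change c.1.1 * a.1.1 * (c⁻¹ : C).1.1 = _
    rw [hM, mul_add, add_mul, mul_one, hinv, ← mul_assoc, (hmem _).1 c.2]
    simp only [mul_assoc]⟩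
  have hQp : IsPGroup 2 Q := by
    rintro ⟨a, M, hM⟩
    refine ⟨1, Subtype.ext (Subtype.ext (Subtype.ext ?_))⟩
    change (a ^ 2 ^ 1).1.1 = 1
    have h1 := (hmem _).1 a.2
    rw [hM, add_mul, mul_add, one_mul, mul_one, ← mul_assoc, hEE, zero_mul, add_right_inj] at h1
    rw [pow_one, sq]
    change a.1.1 * a.1.1 = 1
    rw [hM, mul_add, mul_one, add_mul, one_mul, ← mul_assoc (E * M), h1, zero_mul, add_zero, add_assoc, ← two_smul F,
      h2, zero_smul, add_zero]
  have hQ : Q ≤ pCore 2 C := Cfsg.Agent.L0.le_pCore hQn hQp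
  refine Cfsg.Agent.H7.fstar_eq_pCore_iff_centralizer_le.2 fun g hg => hQ ?_
  have h3 : ∀ k, k ≠ i → ∀ b, g.1.1 k b = if k = b then g.1.1 i i else 0 := fun k hk b => by
    let s : Matrix.SpecialLinearGroup (Fin n) F := ⟨Matrix.transvection i k 1, Matrix.det_transvection_of_ne i k hk.symm 1⟩
    have hs : s ∈ C := (hmem s).2 (by
      change (1 + Matrix.single i k 1) * E = E * (1 + Matrix.single i k 1)
      rw [add_mul, mul_add, one_mul, mul_one, hE, Matrix.single_mul_single_of_ne _ _ _ _ hk,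
        Matrix.single_mul_single_of_ne _ _ _ _ hij.symm])
    have h4 := congrArg (fun x : C => x.1.1 i b) (hg ⟨s, hs⟩ (hQ ⟨Matrix.single j k 1, by
      rw [hE, Matrix.single_mul_single_same, mul_one]; rfl⟩))
    change ((1 + Matrix.single i k 1) * g.1.1 : Matrix (Fin n) (Fin n) F) i b =
      (g.1.1 * (1 + Matrix.single i k 1) : Matrix (Fin n) (Fin n) F) i b at h4
    rw [add_mul, mul_add, one_mul, mul_one, Matrix.add_apply, Matrix.add_apply, add_right_inj,
      Matrix.single_mul_apply_same, one_mul] at h4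
    rw [h4]
    split_ifs with e
    · rw [← e, Matrix.mul_single_apply_same, mul_one]
    · exact Matrix.mul_single_apply_of_ne _ _ _ _ _ (Ne.symm e) _
  have h4 : g.1.1 i i = 1 := by
    have h5 : g.1.1 i i ≠ 0 := fun e => by
      have := Matrix.det_eq_zero_of_row_eq_zero (A := g.1.1) j fun b => by rw [h3 j hij.symm, e, ite_self]
      rw [g.1.2] at this
      exact one_ne_zero this
    simpa [hF] using FiniteField.pow_card_sub_one_eq_one _ h5
  refine ⟨Matrix.single j i 1 * (g.1.1 - 1), ?_⟩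
  rw [← mul_assoc, hE, Matrix.single_mul_single_same, mul_one]
  ext a b
  by_cases ha : a = i
  · rw [ha, Matrix.add_apply, Matrix.single_mul_apply_same, one_mul, Matrix.sub_apply, add_sub_cancel]
  · rw [Matrix.add_apply, Matrix.single_mul_apply_of_ne _ _ _ _ _ ha, add_zero, h3 a ha, h4, Matrix.one_apply]

end Cfsg.Agent.S1339
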