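import Cfsg.Statements.S1340
import Cfsg.Agent.H1.SLn
import Cfsg.Agent.L0.Core

set_option autoImplicit false
open Cfsg

namespace Cfsg.Agent.S1340

open Matrix Matrix.SpecialLinearGroup Subgroup H1.SLn

theorem two_ne {F : Type*} [Field F] [Fintype F] (hF : Odd (Fintype.card F)) : (2 : F) ≠ 0 := by
  intro h
  have h2 : ringChar F = 2 := by
    have : ringChar F ∣ 2 := ringChar.dvd (by exact_mod_cast h)
    rcases (Nat.dvd_prime Nat.prime_two).mp this with h1 | h1
    · exact absurd h1 (CharP.ringChar_ne_one)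
    · exact h1
  have := FiniteField.even_card_iff_char_two.mp h2
  rw [Nat.odd_iff] at hF
  omega

theorem main {ι F : Type*} [Field F] [Fintype F] [DecidableEq F] [DecidableEq ι] [Fintype ι] (h2 : (2 : F) ≠ 0) (i₀ : ι)
    (hg : Good {i // i ≠ i₀} F) :
    ∃ t : GeneralLinearGroup ι F, orderOf t = 2 ∧ t ∉ center (GeneralLinearGroup ι F) ∧
      HasComponent (↥(centralizer ({t} : Set (GeneralLinearGroup ι F))) ⧸
        oddCore ↥(centralizer ({t} : Set (GeneralLinearGroup ι F)))) := by
  have hnt := hg.nontrivial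
  obtain ⟨⟨i, hi⟩, ⟨j, hj⟩, hij⟩ := exists_pair_ne {i // i ≠ i₀}
  have hij' : i ≠ j := fun h => hij (Subtype.ext h)
  have hm1 : (-1 : F) ≠ 1 := fun h => h2 (by linear_combination -h)
  let t : GeneralLinearGroup ι F := ⟨tdiag F i₀, tdiag F i₀, tdiag_mul_self i₀, tdiag_mul_self i₀⟩
  have hC : ∀ g : GeneralLinearGroup ι F, g ∈ centralizer ({t} : Set (GeneralLinearGroup ι F)) ↔
      Blk i₀ (g : Matrix ι ι F) := by
    intro g
    rw [mem_centralizer_singleton_iff, ← tdiag_comm_iff h2, Units.ext_iff, eq_comm]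
    rfl
  refine ⟨t, ?_, ?_, ?_⟩
  · apply orderOf_eq_prime
    · rw [sq]; exact Units.ext (tdiag_mul_self i₀)
    · intro h
      have := congrArg (fun g : GeneralLinearGroup ι F => (g : Matrix ι ι F) i i) h
      simp [t, tdiag, hi] at this
      exact hm1 this
  · intro h
    have := (hC (toGL (SpecialLinearGroup.transvection hi 1))).mp
      (mem_centralizer_singleton_iff.mpr (mem_center_iff.mp h _))
    have := (this i hi).2
    simp [transvection_coe, hi] at this
  · set C := centralizer ({t} : Set (GeneralLinearGroup ι F))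
    let L0 : Subgroup (GeneralLinearGroup ι F) := (embSL i₀).range.map toGL
    have hL0 : ∀ g : GeneralLinearGroup ι F, g ∈ L0 ↔
        Blk i₀ (g : Matrix ι ι F) ∧ (g : Matrix ι ι F) i₀ i₀ = 1 ∧ (g : Matrix ι ι F).det = 1 := by
      intro g
      constructor
      · rintro ⟨A, hA, rfl⟩
        exact ⟨(mem_range_embSL.mp hA).1, (mem_range_embSL.mp hA).2, A.2⟩
      · rintro ⟨h1, h3, h4⟩
        exact ⟨⟨g, h4⟩, mem_range_embSL.mpr ⟨h1, h3⟩, Units.ext rfl⟩
    have hle : L0 ≤ C := fun g hg => (hC g).mpr ((hL0 g).mp hg).1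
    have hq : IsQuasisimple L0 :=
      H7.QS.map_of_injective (isQuasisimple_range_embSL hg) toGL_injective
    have hq' : IsQuasisimple (L0.subgroupOf C) := (H7.QS.subgroupOf_iff hle).mpr hq
    have hn : (L0.subgroupOf C).Normal := by
      rw [normal_subgroupOf_iff hle]
      intro x g hx hg
      rw [hL0] at hx ⊢
      have hb := (hC g).mp hg
      refine ⟨(hC _).mp (mul_mem (mul_mem hg ((hC x).mpr hx.1)) (inv_mem hg)), ?_, ?_⟩
      · have e1 : Blk i₀ ((g * x : GeneralLinearGroup ι F) : Matrix ι ι F) :=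
          (hC _).mp (mul_mem hg ((hC x).mpr hx.1))
        have e2 := hb.mul_apply ((g⁻¹ : GeneralLinearGroup ι F) : Matrix ι ι F)
        rw [← Units.val_mul, mul_inv_cancel, Units.val_one, one_apply_eq] at e2
        rw [Units.val_mul, e1.mul_apply, Units.val_mul, hb.mul_apply, hx.2.1, mul_one, ← e2]
      · rw [Units.val_mul, Units.val_mul, det_mul, det_mul, hx.2.2, mul_one, ← det_mul,
          ← Units.val_mul, mul_inv_cancel, Units.val_one, det_one]
    refine ⟨(L0.subgroupOf C).map (QuotientGroup.mk' _), ?_, H7.QS.map hq' _ ?_⟩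
    · exact (hn.map _ (QuotientGroup.mk'_surjective _)).isSubnormal
    · rw [Ne, Subgroup.map_eq_bot_iff, QuotientGroup.ker_mk']
      intro hO
      let d : GeneralLinearGroup ι F := toGL (diag2n hij' (-1 : F) (by simp))
      have hd : d ∈ L0 := by
        rw [hL0]
        refine ⟨fun k hk => ?_, ?_, (diag2n hij' (-1 : F) (by simp)).2⟩
        · simp [d, diag2n_coe, hk, hk.symm]
        · simp [d, diag2n_coe, hi.symm, hj.symm]
      have ho : orderOf d = 2 := by
        apply orderOf_eq_prime
        · rw [sq]; apply Units.ext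
          change diagonal _ * diagonal _ = 1
          rw [diagonal_mul_diagonal, ← diagonal_one]
          congr 1; ext k; split_ifs <;> simp
        · intro h
          have := congrArg (fun g : GeneralLinearGroup ι F => (g : Matrix ι ι F) i i) h
          simp [d, diag2n_coe] at this
          exact hm1 this
      have hmem : (⟨d, hle hd⟩ : C) ∈ oddCore C := hO hd
      apply Cfsg.Agent.L0.not_dvd_card_pPrimeCore (p := 2) (G := C)
      have := orderOf_dvd_natCard (⟨⟨d, hle hd⟩, hmem⟩ : oddCore C)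
      rwa [← orderOf_coe, ← orderOf_coe, ho] at this

/-- Let F be a finite field of odd order and n ≥ 3 with (n, |F|) ≠ (3, 3). Then GL(n, F) has a non-central involution t such that C(t) / O(C(t)) has a component. -/
theorem result {F : Type*} [Field F] [Fintype F] [DecidableEq F] (hF : Odd (Fintype.card F)) (n : ℕ) (hn : 3 ≤ n) (h33 : ¬ (n = 3 ∧ Fintype.card F = 3)) : ∃ t : Matrix.GeneralLinearGroup (Fin n) F, orderOf t = 2 ∧ t ∉ Subgroup.center (Matrix.GeneralLinearGroup (Fin n) F) ∧ Cfsg.HasComponent (↥(Subgroup.centralizer ({t} : Set (Matrix.GeneralLinearGroup (Fin n) F))) ⧸ Cfsg.oddCore ↥(Subgroup.centralizer ({t} : Set (Matrix.GeneralLinearGroup (Fin n) F)))) := by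
  apply main (two_ne hF) (⟨0, by omega⟩ : Fin n)
  rw [Good, card_ne, Fintype.card_fin]
  by_cases h3 : n = 3
  · right
    refine ⟨by omega, exists_sq_ne_one ?_⟩
    have h1 : 1 < Fintype.card F := Fintype.one_lt_card
    have h4 : Fintype.card F ≠ 3 := fun h => h33 ⟨h3, h⟩
    rw [Nat.odd_iff] at hF
    rw [Nat.card_eq_fintype_card]
    omega
  · left; omega

end Cfsg.Agent.S1340
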