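import Cfsg.Statements.S1348
import Cfsg.Agent.H1.SLn
import Cfsg.Agent.L0.Core
import Cfsg.Agent.S1340

set_option autoImplicit false
open Cfsg

namespace Cfsg.Agent.S1348

open Matrix Matrix.SpecialLinearGroup Subgroup H1.SLn
open scoped commutatorElement

theorem main {ι F : Type*} [Field F] [Fintype F] [DecidableEq F] [DecidableEq ι] [Fintype ι]
    (h2 : (2 : F) ≠ 0) (i₀ : ι) (hg : Good {i // i ≠ i₀} F) (hodd : Odd (Fintype.card ι))
    (t : SpecialLinearGroup ι F) (ht : (t : Matrix ι ι F) = tdiag F i₀) :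
    IsStandardSubgroup (H7.layerOf (centralizer ({t} : Set (SpecialLinearGroup ι F)))) := by
  have hnt := hg.nontrivial
  have hm1 : (-1 : F) ≠ 1 := fun h => h2 (by linear_combination -h)
  have hC : ∀ g : SpecialLinearGroup ι F, g ∈ centralizer ({t} : Set (SpecialLinearGroup ι F)) ↔
      Blk i₀ (g : Matrix ι ι F) := by
    intro g
    rw [mem_centralizer_singleton_iff, ← tdiag_comm_iff h2, ← ht]
    exact ⟨fun h => (congrArg Subtype.val h).symm, fun h => Subtype.ext h.symm⟩
  set C := centralizer ({t} : Set (SpecialLinearGroup ι F)) with hCdef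
  set L : Subgroup (SpecialLinearGroup ι F) := (embSL i₀).range with hLdef
  have hle : L ≤ C := fun g hg => (hC g).mpr (mem_range_embSL.mp hg).1
  have hq : IsQuasisimple L := isQuasisimple_range_embSL hg
  have hmul : ∀ g ∈ C, ∀ h : SpecialLinearGroup ι F,
      (g * h).1 i₀ i₀ = g.1 i₀ i₀ * h.1 i₀ i₀ := fun g hg h => ((hC g).mp hg).mul_apply _
  have hinv : ∀ g ∈ C, g.1 i₀ i₀ * (g⁻¹).1 i₀ i₀ = 1 := by
    intro g hg
    rw [← hmul g hg, mul_inv_cancel]; exact one_apply_eq _
  have hcomm : ⁅C, C⁆ ≤ L := by
    rw [commutator_le]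
    intro g hg h hh
    rw [mem_range_embSL, commutatorElement_def]
    refine ⟨(hC _).mp (mul_mem (mul_mem (mul_mem hg hh) (inv_mem hg)) (inv_mem hh)), ?_⟩
    rw [hmul _ (mul_mem (mul_mem hg hh) (inv_mem hg)), hmul _ (mul_mem hg hh), hmul _ hg]
    linear_combination (h.1 i₀ i₀ * (h⁻¹).1 i₀ i₀) * hinv g hg + hinv h hh
  have hCN : C ≤ normalizer (L : Set (SpecialLinearGroup ι F)) :=
    le_normalizer_iff_commutator_le_left.mpr ((commutator_mono hle le_rfl).trans hcomm)
  have hE : H7.layerOf C = L := by
    apply le_antisymm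
    · rw [H7.layerOf_le_iff]
      intro K hK
      rw [← hK.perfect]
      exact (commutator_mono hK.le hK.le).trans hcomm
    · exact H7.CompOf.le_layerOf ⟨H7.SN.of_normalizer hle hCN, hq⟩
  rw [hE]
  have htt : t * t = 1 := Subtype.ext (by
    change t.1 * t.1 = 1
    rw [ht]; exact tdiag_mul_self i₀)
  obtain ⟨⟨i, hi⟩, ⟨j, hj⟩, hij⟩ := exists_pair_ne {i // i ≠ i₀}
  have ho : orderOf t = 2 := by
    apply orderOf_eq_prime
    · rw [sq, htt]
    · intro h
      have := congrArg (fun g : SpecialLinearGroup ι F => (g : Matrix ι ι F) i i) h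
      simp only [ht] at this
      simp [tdiag, hi] at this
      exact hm1 this
  have htL : t ∈ L := by
    rw [mem_range_embSL, ← hC]
    refine ⟨mem_centralizer_singleton_iff.mpr rfl, ?_⟩
    rw [ht]; simp [tdiag]
  set K := centralizer (L : Set (SpecialLinearGroup ι F)) with hK
  have htK : t ∈ K := fun g hg => (mem_centralizer_singleton_iff.mp (hle hg))
  have hKC : K ≤ C := fun g hg => mem_centralizer_singleton_iff.mpr (hg t htL).symm
  -- unique involution
  have huniq : ∀ s ∈ K, orderOf s = 2 → s = t := by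
    intro s hs hso
    have hb := (hC s).mp (hKC hs)
    have key : ∀ a b : ι, a ≠ i₀ → b ≠ i₀ → a ≠ b → s.1 a a = s.1 b b ∧ s.1 a b = 0 := by
      intro a b ha hb hab
      have := of_comm_transvection hab (M := s.1)
        (congrArg Subtype.val (hs _ (transvection_mem_range ha hb hab 1)))
      have h' := of_comm_transvection hab.symm (M := s.1)
        (congrArg Subtype.val (hs _ (transvection_mem_range hb ha hab.symm 1)))
      exact ⟨this.1, h'.2.2 a hab⟩
    have hd : s.1 = diagonal fun k => if k = i₀ then s.1 i₀ i₀ else s.1 i i := by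
      ext k l
      by_cases hkl : k = l
      · subst hkl
        rw [diagonal_apply_eq]
        split_ifs with hk
        · rw [hk]
        · by_cases hki : k = i
          · rw [hki]
          · exact (key k i hk hi hki).1
      · rw [diagonal_apply_ne _ hkl]
        by_cases hk : k = i₀
        · subst hk; exact (hb l (Ne.symm hkl)).1
        · by_cases hl : l = i₀
          · subst hl; exact (hb k hk).2
          · exact (key k l hk hl hkl).2
    have hss : s * s = 1 := by rw [← sq, ← hso, pow_orderOf_eq_one]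
    have hss' : s.1 * s.1 = 1 := congrArg Subtype.val hss
    have hl2 : s.1 i i * s.1 i i = 1 := by
      have := congrFun (congrFun hss' i) i
      rw [hd, diagonal_mul_diagonal, diagonal_apply_eq, one_apply_eq] at this
      simpa [hi] using this
    have hdet := s.2
    rw [hd, det_diagonal, ← Finset.mul_prod_erase _ _ (Finset.mem_univ i₀), if_pos rfl,
      Finset.prod_congr rfl (g := fun _ => s.1 i i) (fun k hk => if_neg (Finset.ne_of_mem_erase hk)),
      Finset.prod_const, Finset.card_erase_of_mem (Finset.mem_univ _), Finset.card_univ] at hdet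
    obtain ⟨m, hm⟩ := hodd
    rw [hm, Nat.add_sub_cancel, pow_mul, sq, hl2, one_pow, mul_one] at hdet
    rcases mul_self_eq_one_iff.mp hl2 with h1 | h1
    · exfalso
      have : s = 1 := Subtype.ext (by
        rw [hd, hdet, h1]; simp)
      rw [this, orderOf_one] at hso
      omega
    · apply Subtype.ext
      rw [hd, hdet, h1, ht]; rfl
  have hNK : normalizer (K : Set (SpecialLinearGroup ι F)) ≤ C := by
    intro g hg
    have h1 : g * t * g⁻¹ = t := by
      apply huniq _ ((mem_normalizer_iff.mp hg t).mp htK)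
      rw [← ho]; exact (MulAut.conj g).orderOf_eq t
    rw [mem_centralizer_singleton_iff]
    rw [← mul_inv_eq_iff_eq_mul, h1]
  refine ⟨hq, ⟨?_, ?_⟩, ?_, ?_⟩
  · have := orderOf_dvd_natCard (⟨t, htK⟩ : K)
    rw [← orderOf_coe, ho] at this
    exact even_iff_two_dvd.mpr this
  · intro g hg
    rw [← Nat.not_even_iff_odd, even_iff_two_dvd]
    intro hdvd
    apply hg
    obtain ⟨⟨s, hs1, u, hu, hs2⟩, hso⟩ := exists_prime_orderOf_dvd_card' 2 hdvd
    rw [← orderOf_coe] at hso
    have e1 : s = t := huniq s hs1 hso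
    have e2 : u = t := by
      apply huniq u hu
      rw [← hso]
      change _ = orderOf s
      rw [← hs2]
      exact ((MulAut.conj g).orderOf_eq u).symm
    have hgC : g ∈ C := by
      rw [mem_centralizer_singleton_iff, ← mul_inv_eq_iff_eq_mul]
      rw [e1, e2] at hs2
      exact hs2
    exact H7.normalizer_le_normalizer_centralizer L (hCN hgC)
  · intro g _ hc
    have hq' : IsQuasisimple (L.map (MulAut.conj g).toMonoidHom) :=
      H7.QS.map_of_injective hq (MulAut.conj g).injective
    have h1 : L.map (MulAut.conj g).toMonoidHom ≤ K := fun x hx y hy =>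
      H7.comm_eq_bot_iff.mp hc y hy x hx
    have h3 : L.map (MulAut.conj g).toMonoidHom ≤ L := by
      rw [← H7.QS.perfect hq']
      exact (commutator_mono (h1.trans hKC) (h1.trans hKC)).trans hcomm
    exact H7.QS.comm_ne_bot hq' (H7.comm_eq_bot_of_le hc h3 le_rfl)
  · exact le_antisymm (H7.normalizer_le_normalizer_centralizer L) (hNK.trans hCN)

/-- Let F be a finite field of odd order, n ≥ 7 odd, and t ∈ SL(n, F) the diagonal matrix with entries −1, …, −1, 1. Then E(C(t)) is a standard subgroup of SL(n, F). -/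
theorem result {F : Type*} [Field F] [Fintype F] [DecidableEq F] (hF : Odd (Fintype.card F)) (n : ℕ) (hn : 7 ≤ n) (hodd : Odd n) (t : Matrix.SpecialLinearGroup (Fin n) F) (ht : (t : Matrix (Fin n) (Fin n) F) = Matrix.diagonal (fun i : Fin n => if (i : ℕ) + 1 = n then (1 : F) else -1)) : Cfsg.IsStandardSubgroup ((Cfsg.layer ↥(Subgroup.centralizer ({t} : Set (Matrix.SpecialLinearGroup (Fin n) F)))).map (Subgroup.centralizer ({t} : Set (Matrix.SpecialLinearGroup (Fin n) F))).subtype) := by
  have hn0 : n - 1 < n := by omega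
  apply main (S1340.two_ne hF) (⟨n - 1, hn0⟩ : Fin n)
  · left; rw [card_ne, Fintype.card_fin]; omega
  · simpa using hodd
  · rw [ht, tdiag]
    congr 1
    ext i
    have : ((i : ℕ) + 1 = n) ↔ i = ⟨n - 1, hn0⟩ := by
      rw [Fin.ext_iff]; constructor <;> intro h <;> simp at * <;> omega
    simp only [this]

end Cfsg.Agent.S1348
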