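import Cfsg.Statements.S3099
import Cfsg.Agent.H5.GWc2
import Cfsg.Agent.S0984

set_option autoImplicit false
open Cfsg

namespace Cfsg.Agent.S3099

open Subgroup GW H5

/-- Let X be a finite perfect group of 2-rank exactly 1 (X has even order and contains no Klein four-group). Then X modulo its largest normal subgroup of odd order is isomorphic to the special linear group of dimension 2 over a field with q elements for some odd q > 3, or is a non-split double cover of the alternating group of degree 7. -/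
theorem result {X : Type*} [Group X] [Finite X] (hP : Group.IsPerfect X) (h1 : Cfsg.PRankLE 2 1 X) (h2 : Even (Nat.card X)) :
    (∃ (F : Type) (_ : Field F) (_ : Fintype F), Odd (Fintype.card F) ∧ 3 < Fintype.card F ∧
        Nonempty (X ⧸ Cfsg.oddCore X ≃* Matrix.SpecialLinearGroup (Fin 2) F)) ∨
      Cfsg.IsNonsplitDoubleCover (X ⧸ Cfsg.oddCore X) ↥(alternatingGroup (Fin 7)) := by
  obtain ⟨P⟩ := (inferInstance : Nonempty (Sylow 2 X))
  obtain ⟨z, hn, h⟩ := exists_dc P (unique_of_pRankLE h1 P) (even_iff_two_dvd.1 h2)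
  have hp : commutator (X ⧸ oddCore X) = ⊤ :=
    commutator_eq_top_of_surjective (QuotientGroup.mk'_surjective _) hP.commutator_eq_top
  have hp' := commutator_eq_top_of_surjective h.surj hp
  have hz : z ∈ center (X ⧸ oddCore X) := mem_center_iff.2 h.comm
  haveI : Nontrivial ((X ⧸ oddCore X) ⧸ zpowers z) := QuotientGroup.nontrivial_iff.2 fun e => by
    have hc : center (X ⧸ oddCore X) = ⊤ := top_le_iff.1 (e ▸ zpowers_le.2 hz)
    rw [← commutator_eq_bot_iff_center_eq_top, hp] at hc
    exact h.ne ((mem_bot).1 (hc ▸ mem_top z))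
  obtain ⟨hs, hc⟩ := simple_of_ds h.ds hp' (h.pPrimeCore_eq_bot L0.pPrimeCore_quotient_pPrimeCore)
  rcases gw_psl hc h.ds with ⟨F, i1, i2, h3, ⟨e⟩⟩ | h3
  · exact Or.inl ⟨F, i1, i2, h3, three_lt_card hc h3 e,
      h.equiv_SL (two_ne_zero_of_odd_card h3) e hp' (two_dvd_card_of_simple hc)⟩
  obtain ⟨e⟩ := S0984.result h3
  have h4 : center (X ⧸ oddCore X) = zpowers z := le_antisymm (fun x hx => by
    have : QuotientGroup.mk' (zpowers z) x ∈ center _ := mem_center_iff.2 fun g => by
      obtain ⟨g, rfl⟩ := h.surj g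
      rw [← map_mul, ← map_mul, mem_center_iff.1 hx g]
    rw [(hs.eq_bot_or_eq_top_of_normal (center _) inferInstance).resolve_right fun e =>
      hc ⟨⟨fun a b => (mem_center_iff.1 (e ▸ mem_top b) a)⟩⟩] at this
    exact (QuotientGroup.eq_one_iff x).1 this) (zpowers_le.2 hz)
  refine Or.inr ⟨by rw [h4, Nat.card_zpowers, h.ord],
    ⟨(QuotientGroup.quotientMulEquivOfEq h4).trans e⟩, fun L hL => ?_⟩
  exact H6.index_ne_two_of_perfect hp L (by rw [hL.index_eq_card, h4, Nat.card_zpowers, h.ord])

end Cfsg.Agent.S3099
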