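import Cfsg.Statements.S3171
import Cfsg.Agent.H1.M24
import Cfsg.Agent.H1.F4
import Cfsg.Agent.H1.Heis
import Cfsg.Agent.H5.PBasic
import Cfsg.Agent.L0.PiCore

set_option autoImplicit false
open Cfsg

namespace Cfsg.Agent.S3171

open Cfsg.Agent.H1 Equiv

@[ext] structure U where
  a1 : ZMod 2
  a2 : ZMod 2
  a3 : ZMod 2
  a4 : ZMod 2
  b1 : ZMod 2
  b2 : ZMod 2
  b3 : ZMod 2
  c1 : ZMod 2
  c2 : ZMod 2
  d : ZMod 2
  deriving DecidableEq

instance mulU : Mul U := ⟨fun u v => ⟨u.a1 + v.a1,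
  u.a2 + v.a2,
  u.a3 + v.a3,
  u.a4 + v.a4,
  u.b1 + v.b1 + u.a1 * v.a2,
  u.b2 + v.b2 + u.a2 * v.a3,
  u.b3 + v.b3 + u.a3 * v.a4,
  u.c1 + v.c1 + u.a1 * v.b2 + u.b1 * v.a3,
  u.c2 + v.c2 + u.a2 * v.b3 + u.b2 * v.a4,
  u.d + v.d + u.a1 * v.c2 + u.b1 * v.b3 + u.c1 * v.a4⟩⟩
instance oneU : One U := ⟨⟨0, 0, 0, 0, 0, 0, 0, 0, 0, 0⟩⟩
instance invU : Inv U := ⟨fun u => ⟨-u.a1,
  -u.a2,
  -u.a3,
  -u.a4,
  -u.b1 + u.a1 * u.a2,
  -u.b2 + u.a2 * u.a3,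
  -u.b3 + u.a3 * u.a4,
  -u.c1 + u.a1 * u.b2 + u.b1 * u.a3 - u.a1 * u.a2 * u.a3,
  -u.c2 + u.a2 * u.b3 + u.b2 * u.a4 - u.a2 * u.a3 * u.a4,
  -u.d + u.a1 * u.c2 + u.b1 * u.b3 + u.c1 * u.a4 - u.a1 * u.a2 * u.b3 - u.a1 * u.b2 * u.a4 - u.b1 * u.a3 * u.a4 + u.a1 * u.a2 * u.a3 * u.a4⟩⟩
theorem U.mul_def (u v : U) : u * v = ⟨u.a1 + v.a1,
  u.a2 + v.a2,
  u.a3 + v.a3,
  u.a4 + v.a4,
  u.b1 + v.b1 + u.a1 * v.a2,
  u.b2 + v.b2 + u.a2 * v.a3,
  u.b3 + v.b3 + u.a3 * v.a4,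
  u.c1 + v.c1 + u.a1 * v.b2 + u.b1 * v.a3,
  u.c2 + v.c2 + u.a2 * v.b3 + u.b2 * v.a4,
  u.d + v.d + u.a1 * v.c2 + u.b1 * v.b3 + u.c1 * v.a4⟩ := rfl
theorem U.one_def : (1 : U) = ⟨0, 0, 0, 0, 0, 0, 0, 0, 0, 0⟩ := rfl
theorem U.inv_def (u : U) : u⁻¹ = ⟨-u.a1,
  -u.a2,
  -u.a3,
  -u.a4,
  -u.b1 + u.a1 * u.a2,
  -u.b2 + u.a2 * u.a3,
  -u.b3 + u.a3 * u.a4,
  -u.c1 + u.a1 * u.b2 + u.b1 * u.a3 - u.a1 * u.a2 * u.a3,
  -u.c2 + u.a2 * u.b3 + u.b2 * u.a4 - u.a2 * u.a3 * u.a4,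
  -u.d + u.a1 * u.c2 + u.b1 * u.b3 + u.c1 * u.a4 - u.a1 * u.a2 * u.b3 - u.a1 * u.b2 * u.a4 - u.b1 * u.a3 * u.a4 + u.a1 * u.a2 * u.a3 * u.a4⟩ := rfl
instance grpU : Group U := Group.ofLeftAxioms
  (fun u v w => by ext <;> simp only [U.mul_def] <;> ring)
  (fun u => by ext <;> simp only [U.mul_def, U.one_def] <;> ring)
  (fun u => by ext <;> simp only [U.mul_def, U.one_def, U.inv_def] <;> ring)

def U.equiv : U ≃ ZMod 2 × ZMod 2 × ZMod 2 × ZMod 2 × ZMod 2 × ZMod 2 × ZMod 2 × ZMod 2 × ZMod 2 × ZMod 2 where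
  toFun u := (u.a1, u.a2, u.a3, u.a4, u.b1, u.b2, u.b3, u.c1, u.c2, u.d)
  invFun p := ⟨p.1, p.2.1, p.2.2.1, p.2.2.2.1, p.2.2.2.2.1, p.2.2.2.2.2.1, p.2.2.2.2.2.2.1, p.2.2.2.2.2.2.2.1, p.2.2.2.2.2.2.2.2.1, p.2.2.2.2.2.2.2.2.2⟩
  left_inv _ := rfl
  right_inv _ := rfl

instance finU : Fintype U := Fintype.ofEquiv _ U.equiv.symm

theorem U.card : Nat.card U = 2 ^ 10 := by
  rw [Nat.card_congr U.equiv]; simp only [Nat.card_prod, Nat.card_zmod]; norm_num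

theorem U.forall {P : U → Prop} (h : ∀ a1 a2 a3 a4 b1 b2 b3 c1 c2 d, P ⟨a1, a2, a3, a4, b1, b2, b3, c1, c2, d⟩) (u : U) : P u :=
  h u.a1 u.a2 u.a3 u.a4 u.b1 u.b2 u.b3 u.c1 u.c2 u.d

@[ext] structure T where
  a1 : ZMod 2
  a2 : ZMod 2
  a3 : ZMod 2
  a4 : ZMod 2
  b1 : ZMod 2
  b2 : ZMod 2
  b3 : ZMod 2
  c1 : ZMod 2
  c2 : ZMod 2
  deriving DecidableEq

instance mulT : Mul T := ⟨fun u v => ⟨u.a1 + v.a1,
  u.a2 + v.a2,
  u.a3 + v.a3,
  u.a4 + v.a4,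
  u.b1 + v.b1 + u.a1 * v.a2,
  u.b2 + v.b2 + u.a2 * v.a3,
  u.b3 + v.b3 + u.a3 * v.a4,
  u.c1 + v.c1 + u.a1 * v.b2 + u.b1 * v.a3,
  u.c2 + v.c2 + u.a2 * v.b3 + u.b2 * v.a4⟩⟩
instance oneT : One T := ⟨⟨0, 0, 0, 0, 0, 0, 0, 0, 0⟩⟩
instance invT : Inv T := ⟨fun u => ⟨-u.a1,
  -u.a2,
  -u.a3,
  -u.a4,
  -u.b1 + u.a1 * u.a2,
  -u.b2 + u.a2 * u.a3,
  -u.b3 + u.a3 * u.a4,
  -u.c1 + u.a1 * u.b2 + u.b1 * u.a3 - u.a1 * u.a2 * u.a3,
  -u.c2 + u.a2 * u.b3 + u.b2 * u.a4 - u.a2 * u.a3 * u.a4⟩⟩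
theorem T.mul_def (u v : T) : u * v = ⟨u.a1 + v.a1,
  u.a2 + v.a2,
  u.a3 + v.a3,
  u.a4 + v.a4,
  u.b1 + v.b1 + u.a1 * v.a2,
  u.b2 + v.b2 + u.a2 * v.a3,
  u.b3 + v.b3 + u.a3 * v.a4,
  u.c1 + v.c1 + u.a1 * v.b2 + u.b1 * v.a3,
  u.c2 + v.c2 + u.a2 * v.b3 + u.b2 * v.a4⟩ := rfl
theorem T.one_def : (1 : T) = ⟨0, 0, 0, 0, 0, 0, 0, 0, 0⟩ := rfl
theorem T.inv_def (u : T) : u⁻¹ = ⟨-u.a1,
  -u.a2,
  -u.a3,
  -u.a4,
  -u.b1 + u.a1 * u.a2,
  -u.b2 + u.a2 * u.a3,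
  -u.b3 + u.a3 * u.a4,
  -u.c1 + u.a1 * u.b2 + u.b1 * u.a3 - u.a1 * u.a2 * u.a3,
  -u.c2 + u.a2 * u.b3 + u.b2 * u.a4 - u.a2 * u.a3 * u.a4⟩ := rfl
instance grpT : Group T := Group.ofLeftAxioms
  (fun u v w => by ext <;> simp only [T.mul_def] <;> ring)
  (fun u => by ext <;> simp only [T.mul_def, T.one_def] <;> ring)
  (fun u => by ext <;> simp only [T.mul_def, T.one_def, T.inv_def] <;> ring)

def T.equiv : T ≃ ZMod 2 × ZMod 2 × ZMod 2 × ZMod 2 × ZMod 2 × ZMod 2 × ZMod 2 × ZMod 2 × ZMod 2 where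
  toFun u := (u.a1, u.a2, u.a3, u.a4, u.b1, u.b2, u.b3, u.c1, u.c2)
  invFun p := ⟨p.1, p.2.1, p.2.2.1, p.2.2.2.1, p.2.2.2.2.1, p.2.2.2.2.2.1, p.2.2.2.2.2.2.1, p.2.2.2.2.2.2.2.1, p.2.2.2.2.2.2.2.2⟩
  left_inv _ := rfl
  right_inv _ := rfl

instance finT : Fintype T := Fintype.ofEquiv _ T.equiv.symm

theorem T.card : Nat.card T = 2 ^ 9 := by
  rw [Nat.card_congr T.equiv]; simp only [Nat.card_prod, Nat.card_zmod]; norm_num

theorem T.forall {P : T → Prop} (h : ∀ a1 a2 a3 a4 b1 b2 b3 c1 c2, P ⟨a1, a2, a3, a4, b1, b2, b3, c1, c2⟩) (u : T) : P u :=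
  h u.a1 u.a2 u.a3 u.a4 u.b1 u.b2 u.b3 u.c1 u.c2

def ka1 : ℕ := 706340198882273078924625473399003190
def ka2 : ℕ := 517023499080225148177629658867730482
def ka3 : ℕ := 748543984665490743989212579656715926
def ka4 : ℕ := 984159739662526352166722481920720096
def kb1 : ℕ := 943866234167123598184735047803340849
def kb2 : ℕ := 597990897407283662728202707882116177
def kb3 : ℕ := 984266143084858087375752989286682240
def kc1 : ℕ := 517489421391690793019038749942225232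
def kc2 : ℕ := 984330238668445353307680420861740096
def kd : ℕ := 984106537951624291307853224808683840
def ua1 : U := ⟨1, 0, 0, 0, 0, 0, 0, 0, 0, 0⟩
def ua2 : U := ⟨0, 1, 0, 0, 0, 0, 0, 0, 0, 0⟩
def ua3 : U := ⟨0, 0, 1, 0, 0, 0, 0, 0, 0, 0⟩
def ua4 : U := ⟨0, 0, 0, 1, 0, 0, 0, 0, 0, 0⟩
def ub1 : U := ⟨0, 0, 0, 0, 1, 0, 0, 0, 0, 0⟩
def ub2 : U := ⟨0, 0, 0, 0, 0, 1, 0, 0, 0, 0⟩
def ub3 : U := ⟨0, 0, 0, 0, 0, 0, 1, 0, 0, 0⟩
def uc1 : U := ⟨0, 0, 0, 0, 0, 0, 0, 1, 0, 0⟩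
def uc2 : U := ⟨0, 0, 0, 0, 0, 0, 0, 0, 1, 0⟩
def ud : U := ⟨0, 0, 0, 0, 0, 0, 0, 0, 0, 1⟩
def ta1 : T := ⟨1, 0, 0, 0, 0, 0, 0, 0, 0⟩
def ta2 : T := ⟨0, 1, 0, 0, 0, 0, 0, 0, 0⟩
def ta3 : T := ⟨0, 0, 1, 0, 0, 0, 0, 0, 0⟩
def ta4 : T := ⟨0, 0, 0, 1, 0, 0, 0, 0, 0⟩
def tb1 : T := ⟨0, 0, 0, 0, 1, 0, 0, 0, 0⟩
def tb2 : T := ⟨0, 0, 0, 0, 0, 1, 0, 0, 0⟩
def tb3 : T := ⟨0, 0, 0, 0, 0, 0, 1, 0, 0⟩
def tc1 : T := ⟨0, 0, 0, 0, 0, 0, 0, 1, 0⟩
def tc2 : T := ⟨0, 0, 0, 0, 0, 0, 0, 0, 1⟩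

noncomputable def pm (c : ℕ) : Perm GolayPt := if h : inM24 c = true then (in_M24 h).choose else 1

theorem pm_mem (c : ℕ) : pm c ∈ M24 := by
  unfold pm; split_ifs with h
  · exact (in_M24 h).choose_spec.1
  · exact one_mem _

theorem pm_rep {c : ℕ} (h : inM24 c = true) : H1.Rep (pm c) c := by
  unfold pm; rw [dif_pos h]; exact (in_M24 h).choose_spec.2

noncomputable def pb (c : ℕ) (b : ZMod 2) : Perm GolayPt := if b = 1 then pm c else 1

def ab (c : ℕ) (b : ZMod 2) (i : ℕ) : ℕ := if b = 1 then ap c i else i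

theorem pb_mem (c : ℕ) (b : ZMod 2) : pb c b ∈ M24 := by
  unfold pb; split_ifs
  · exact pm_mem c
  · exact one_mem _

theorem ix_pb {c : ℕ} (h : inM24 c = true) (b : ZMod 2) (p : GolayPt) : ix (pb c b p) = ab c b (ix p) := by
  unfold pb ab; split_ifs
  · exact pm_rep h p
  · rfl

noncomputable def FF (u : U) : Perm GolayPt := pb ka4 u.a4 * (pb ka3 u.a3 * (pb kb3 u.b3 * (pb ka2 u.a2 * (pb kb2 u.b2 * (pb kc2 u.c2 * (pb ka1 u.a1 * (pb kb1 u.b1 * (pb kc1 u.c1 * (pb kd u.d)))))))))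

def img (u : U) (i : ℕ) : ℕ := ab ka4 u.a4 (ab ka3 u.a3 (ab kb3 u.b3 (ab ka2 u.a2 (ab kb2 u.b2 (ab kc2 u.c2 (ab ka1 u.a1 (ab kb1 u.b1 (ab kc1 u.c1 (ab kd u.d i)))))))))

theorem FF_mem (u : U) : FF u ∈ M24 := by
  unfold FF
  repeat' apply mul_mem
  all_goals exact pb_mem _ _

theorem ix_FF (u : U) (p : GolayPt) : ix (FF u p) = img u (ix p) := by
  simp only [FF, img, Perm.mul_apply]
  rw [ix_pb (c := ka4) (by decide +kernel)]
  rw [ix_pb (c := ka3) (by decide +kernel)]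
  rw [ix_pb (c := kb3) (by decide +kernel)]
  rw [ix_pb (c := ka2) (by decide +kernel)]
  rw [ix_pb (c := kb2) (by decide +kernel)]
  rw [ix_pb (c := kc2) (by decide +kernel)]
  rw [ix_pb (c := ka1) (by decide +kernel)]
  rw [ix_pb (c := kb1) (by decide +kernel)]
  rw [ix_pb (c := kc1) (by decide +kernel)]
  rw [ix_pb (c := kd) (by decide +kernel)]

theorem eq_of_base {g h : Perm GolayPt} (hg : g ∈ M24) (hh : h ∈ M24)
    (e : ∀ i ∈ [5, 7, 4, 3, 2, 1, 0], ix (g (pt i)) = ix (h (pt i))) : g = h := by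
  have := eq_one_of_fix7 (g := h⁻¹ * g) ⟨mul_mem (inv_mem hh) hg, fun p hp => by
    obtain ⟨i, hi, rfl⟩ := List.mem_map.mp hp
    rw [Perm.mul_apply, ix_injective (e i hi), Perm.inv_eq_iff_eq]⟩
  exact (inv_mul_eq_one.mp this).symm

theorem base_lt : ∀ i ∈ [5, 7, 4, 3, 2, 1, 0], i < 24 := by decide

def Good (v : U) : Prop := ∀ u, FF (v * u) = FF v * FF u

theorem good_of (v : U) (h : ∀ u, ([5, 7, 4, 3, 2, 1, 0].all fun i => img (v * u) i == img v (img u i)) = true) :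
    Good v := fun u => eq_of_base (FF_mem _) (mul_mem (FF_mem _) (FF_mem _)) fun i hi => by
  rw [Perm.mul_apply, ix_FF, ix_FF, ix_FF, ix_pt (base_lt i hi)]
  simpa using List.all_eq_true.mp (h u) i hi

theorem Good.mul {v w : U} (hv : Good v) (hw : Good w) : Good (v * w) := fun u => by
  rw [mul_assoc, hv, hw, hv, mul_assoc]

theorem FF_one : FF 1 = 1 := by simp [FF, pb, U.one_def]

theorem good_one : Good 1 := fun u => by rw [one_mul, FF_one, one_mul]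

theorem good_a1 : Good ua1 := good_of _ (U.forall (by decide +kernel))
theorem good_a2 : Good ua2 := good_of _ (U.forall (by decide +kernel))
theorem good_a3 : Good ua3 := good_of _ (U.forall (by decide +kernel))
theorem good_a4 : Good ua4 := good_of _ (U.forall (by decide +kernel))
theorem good_b1 : Good ub1 := by
  rw [show ub1 = ua1 * (ua2 * (ua1 * ua2)) by decide]
  exact good_a1.mul (good_a2.mul (good_a1.mul good_a2))
theorem good_b2 : Good ub2 := by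
  rw [show ub2 = ua2 * (ua3 * (ua2 * ua3)) by decide]
  exact good_a2.mul (good_a3.mul (good_a2.mul good_a3))
theorem good_b3 : Good ub3 := by
  rw [show ub3 = ua3 * (ua4 * (ua3 * ua4)) by decide]
  exact good_a3.mul (good_a4.mul (good_a3.mul good_a4))
theorem good_c1 : Good uc1 := by
  rw [show uc1 = ua1 * (ub2 * (ua1 * ub2)) by decide]
  exact good_a1.mul (good_b2.mul (good_a1.mul good_b2))
theorem good_c2 : Good uc2 := by
  rw [show uc2 = ua2 * (ub3 * (ua2 * ub3)) by decide]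
  exact good_a2.mul (good_b3.mul (good_a2.mul good_b3))
theorem good_d : Good ud := by
  rw [show ud = ua1 * (uc2 * (ua1 * uc2)) by decide]
  exact good_a1.mul (good_c2.mul (good_a1.mul good_c2))

theorem Good.ite {v : U} (hv : Good v) (b : ZMod 2) : Good (if b = 1 then v else 1) := by
  split_ifs
  · exact hv
  · exact good_one

theorem good_all (v : U) : Good v := by
  have : v = (if v.a4 = 1 then ua4 else 1) * ((if v.a3 = 1 then ua3 else 1) * ((if v.b3 = 1 then ub3 else 1) * ((if v.a2 = 1 then ua2 else 1) * ((if v.b2 = 1 then ub2 else 1) * ((if v.c2 = 1 then uc2 else 1) * ((if v.a1 = 1 then ua1 else 1) * ((if v.b1 = 1 then ub1 else 1) * ((if v.c1 = 1 then uc1 else 1) * ((if v.d = 1 then ud else 1)))))))))) := by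
    revert v; exact U.forall (by decide +kernel)
  rw [this]
  exact (good_a4.ite _).mul ((good_a3.ite _).mul ((good_b3.ite _).mul ((good_a2.ite _).mul ((good_b2.ite _).mul ((good_c2.ite _).mul ((good_a1.ite _).mul ((good_b1.ite _).mul ((good_c1.ite _).mul (good_d.ite _)))))))))

noncomputable def fU : U →* M24 := MonoidHom.mk' (fun u => ⟨FF u, FF_mem u⟩) fun a b => Subtype.ext (good_all a b)

theorem fU_inj : Function.Injective fU := by
  rw [injective_iff_map_eq_one]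
  intro u hu
  have h1 : FF u = 1 := congrArg Subtype.val hu
  have h2 : ∀ u : U, ([5, 7, 4, 3, 2, 1, 0].all fun i => img u i == i) = true → u = 1 :=
    U.forall (by decide +kernel)
  refine h2 u (List.all_eq_true.mpr fun i hi => ?_)
  have := ix_FF u (pt i)
  rw [h1, Perm.one_apply, ix_pt (base_lt i hi)] at this
  simpa using this.symm

theorem sylow_equiv (P : Sylow 2 M24) : Nonempty (P ≃* U) := by
  have hc : Nat.card fU.range = 2 ^ 10 := by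
    rw [← Nat.card_congr (MonoidHom.ofInjective fU_inj).toEquiv, U.card]
  have h2 : ¬ 2 ∣ fU.range.index := by
    have := fU.range.index_mul_card
    rw [hc, card_M24] at this
    omega
  exact ⟨(Sylow.equiv P ((IsPGroup.of_card hc).toSylow h2)).trans (MonoidHom.ofInjective fU_inj).symm⟩

def proj : U →* T := MonoidHom.mk' (fun u => ⟨u.a1, u.a2, u.a3, u.a4, u.b1, u.b2, u.b3, u.c1, u.c2⟩) fun _ _ => rfl

theorem center_U : Subgroup.center U = proj.ker := by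
  ext u
  rw [Subgroup.mem_center_iff, MonoidHom.mem_ker]
  constructor
  · intro h
    have : ∀ u : U, ua1 * u = u * ua1 → ua2 * u = u * ua2 → ua3 * u = u * ua3 → ua4 * u = u * ua4 →
        proj u = 1 := U.forall (by decide +kernel)
    exact this u (h _) (h _) (h _) (h _)
  · intro h g
    have e := T.ext_iff.mp h
    simp only [proj, MonoidHom.mk'_apply, T.one_def] at e
    ext <;> simp [U.mul_def, e, add_comm]

theorem quot_equiv (P : Sylow 2 M24) : Nonempty (P ⧸ Subgroup.center P ≃* T) := by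
  obtain ⟨e⟩ := sylow_equiv P
  exact ⟨(QuotientGroup.congr _ _ e (map_center_eq e)).trans
    ((QuotientGroup.quotientMulEquivOfEq center_U).trans
      (QuotientGroup.quotientKerEquivOfSurjective proj fun t =>
        ⟨⟨t.a1, t.a2, t.a3, t.a4, t.b1, t.b2, t.b3, t.c1, t.c2, 0⟩, rfl⟩))⟩

theorem card_le {G : Type*} [Group G] (e : G ≃* T) (H : Subgroup G) (P : T → Prop) [DecidablePred P]
    (h : ∀ x ∈ H, P (e x)) : Nat.card H ≤ (Finset.univ.filter P).card := by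
  rw [← Fintype.card_subtype, ← Nat.card_eq_fintype_card]
  exact Nat.card_le_card_of_injective (fun x : H => (⟨e x, h x x.2⟩ : {t // P t}))
    fun a b hab => Subtype.ext (e.injective (congrArg Subtype.val hab))

def cc (x z : T) : Bool := x * z == z * x

def cond (m1 m2 m3 m4 : Bool) (z : T) : Bool :=
  cc tb1 z && cc tb2 z && cc tb3 z && (!m1 || cc ta1 z) && (!m2 || cc ta2 z) && (!m3 || cc ta3 z) &&
  (!m4 || cc ta4 z) && (m1 || m2 || cc (ta1 * ta2) z) && (m1 || m3 || cc (ta1 * ta3) z) &&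
  (m1 || m4 || cc (ta1 * ta4) z) && (m2 || m3 || cc (ta2 * ta3) z) && (m2 || m4 || cc (ta2 * ta4) z) &&
  (m3 || m4 || cc (ta3 * ta4) z)

theorem cond_card : ∀ m1 m2 m3 m4 : Bool,
    (Finset.univ.filter fun z => cond m1 m2 m3 m4 z = true).card ≤ 8 := by decide +kernel

theorem part1 {G : Type*} [Group G] (e : G ≃* T) (M : Subgroup G) (hM : IsCoatom M) :
    Nat.card (Subgroup.center M) ≤ 8 := by
  classical
  haveI : Finite G := Finite.of_equiv _ e.toEquiv.symm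
  have hi : M.index = 2 := H5.index_eq_prime_of_isCoatom
    (IsPGroup.of_card (n := 9) (by rw [Nat.card_congr e.toEquiv, T.card])) hM
  rw [← Subgroup.card_map_of_injective (f := M.subtype) Subtype.val_injective]
  refine (card_le e _ (fun z => cond (decide (e.symm ta1 ∈ M)) (decide (e.symm ta2 ∈ M))
    (decide (e.symm ta3 ∈ M)) (decide (e.symm ta4 ∈ M)) z = true) ?_).trans (cond_card _ _ _ _)
  rintro _ ⟨z, hz, rfl⟩
  have k : ∀ x : T, e.symm x ∈ M → cc x (e (M.subtype z)) = true := by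
    intro x hx
    have := congrArg (fun y : M => e y) (Subgroup.mem_center_iff.mp hz ⟨_, hx⟩)
    simpa [cc] using this
  have k1 : ∀ x : T, (!decide (e.symm x ∈ M) || cc x (e (M.subtype z))) = true := by
    intro x
    by_cases hx : e.symm x ∈ M
    · simp only [k x hx, Bool.or_true]
    · simp [hx]
  have k2 : ∀ x y : T, (decide (e.symm x ∈ M) || decide (e.symm y ∈ M) || cc (x * y) (e (M.subtype z))) = true := by
    intro x y
    by_cases hx : e.symm x ∈ M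
    · simp [hx]
    by_cases hy : e.symm y ∈ M
    · simp [hy]
    rw [k _ (by rw [map_mul, Subgroup.mul_mem_iff_of_index_two hi]; exact iff_of_false hx hy), Bool.or_true]
  have k3 : ∀ x y : T, y = x * x → cc y (e (M.subtype z)) = true := by
    rintro x y rfl
    exact k _ (by rw [map_mul]; exact Subgroup.mul_self_mem_of_index_two hi _)
  simp only [cond, k1, k2, k3 (ta1 * ta2) tb1 (by decide), k3 (ta2 * ta3) tb2 (by decide),
    k3 (ta3 * ta4) tb3 (by decide), Bool.and_self]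

def pD : T →* Heis.HS (ZMod 2) := MonoidHom.mk' (fun u => ⟨u.a2, u.a3, u.b2⟩) fun _ _ => rfl

def rp (a b c : ZMod 2) : T := ⟨0, a, b, 0, 0, c, 0, 0, 0⟩

theorem mem_ker_pD {u : T} : u ∈ pD.ker ↔ u.a2 = 0 ∧ u.a3 = 0 ∧ u.b2 = 0 := by
  rw [MonoidHom.mem_ker, Heis.HS.ext_iff]; rfl

theorem comm_ker {u v : T} (hu : u ∈ pD.ker) (hv : v ∈ pD.ker) : u * v = v * u := by
  rw [mem_ker_pD] at hu hv
  ext <;> simp [T.mul_def, hu, hv, add_comm]

theorem card_ker : Nat.card pD.ker = 64 := by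
  have a1 := Subgroup.card_eq_card_quotient_mul_card_subgroup pD.ker
  rw [Nat.card_congr (QuotientGroup.quotientKerEquivOfSurjective pD (fun p =>
    ⟨rp p.a p.b p.c, rfl⟩)).toEquiv, T.card, Heis.card_HS, Nat.card_zmod] at a1
  omega

theorem comm_rp {g v : T} (hv : v ∈ pD.ker) (h : g * v = v * g) :
    cc (rp g.a2 g.a3 g.b2) v = true := by
  have h1 : (rp g.a2 g.a3 g.b2)⁻¹ * g ∈ pD.ker := by
    rw [MonoidHom.mem_ker, map_mul, map_inv, inv_mul_eq_one]; rfl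
  have h2 := comm_ker h1 hv
  simp only [cc, beq_iff_eq]
  set r := rp g.a2 g.a3 g.b2
  calc r * v = r * (v * (r⁻¹ * g)) * g⁻¹ * r := by group
    _ = g * v * g⁻¹ * r := by rw [← h2]; group
    _ = v * r := by rw [h]; group

theorem cnt1 : ∀ a b c : ZMod 2, ¬ (a = 0 ∧ b = 0 ∧ c = 0) → (Finset.univ.filter fun v : T =>
    (v.a2 = 0 ∧ v.a3 = 0 ∧ v.b2 = 0) ∧ cc (rp a b c) v = true).card ≤ 16 := by decide +kernel

theorem cnt2 : ∀ a b c a' b' c' : ZMod 2, ¬ (a = 0 ∧ b = 0 ∧ c = 0) → ¬ (a' = 0 ∧ b' = 0 ∧ c' = 0) →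
    ¬ (a = a' ∧ b = b' ∧ c = c') → (Finset.univ.filter fun v : T =>
    (v.a2 = 0 ∧ v.a3 = 0 ∧ v.b2 = 0) ∧ cc (rp a b c) v = true ∧ cc (rp a' b' c') v = true).card ≤ 8 := by
  decide +kernel

theorem part3 (A : Subgroup T) (hA : IsMulCommutative A) (hc : Nat.card A = 64) : A = pD.ker := by
  have hcomm : ∀ x ∈ A, ∀ y ∈ A, x * y = y * x := fun x hx y hy =>
    congrArg Subtype.val (hA.is_comm.comm ⟨x, hx⟩ ⟨y, hy⟩)
  apply Subgroup.eq_of_le_of_card_ge _ (by rw [hc, card_ker])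
  intro g hg
  by_contra hgk
  have e := L0.card_eq_card_inf_ker_mul_card_map pD A
  have h1 := (card_le (MulEquiv.refl T) (A ⊓ pD.ker) _ (fun x hx => ⟨mem_ker_pD.mp hx.2,
    comm_rp hx.2 (hcomm g hg x hx.1)⟩)).trans (cnt1 _ _ _ (fun h => hgk (mem_ker_pD.mpr h)))
  have h3 : 3 ≤ Nat.card (A.map pD) := by rw [hc] at e; nlinarith
  obtain ⟨h, hh, hh1, hh2⟩ : ∃ h ∈ A, pD h ≠ 1 ∧ pD g ≠ pD h := by
    by_contra hne
    push Not at hne
    have : (A.map pD : Set (Heis.HS (ZMod 2))) ⊆ {1, pD g} := by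
      rintro _ ⟨h, hh, rfl⟩
      by_cases h1 : pD h = 1
      · exact Or.inl h1
      · exact Or.inr (hne h hh h1).symm
    have h4 := (Set.ncard_le_ncard this).trans (Set.ncard_insert_le _ _)
    rw [Set.ncard_singleton, ← Nat.card_coe_set_eq] at h4
    change Nat.card (A.map pD) ≤ _ at h4
    omega
  have h2 := (card_le (MulEquiv.refl T) (A ⊓ pD.ker) _ (fun x hx => ⟨mem_ker_pD.mp hx.2,
    comm_rp hx.2 (hcomm g hg x hx.1), comm_rp hx.2 (hcomm h hh x hx.1)⟩)).trans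
    (cnt2 _ _ _ _ _ _ (fun h => hgk (mem_ker_pD.mpr h)) (fun h => hh1 (mem_ker_pD.mpr h))
      (fun h => hh2 (Heis.HS.ext h.1 h.2.1 h.2.2)))
  have h5 : A.map pD = ⊤ := Subgroup.eq_top_of_le_card _ (by
    rw [Heis.card_HS, Nat.card_zmod]; rw [hc] at e; nlinarith)
  obtain ⟨x, hx, ex⟩ : (⟨1, 0, 0⟩ : Heis.HS (ZMod 2)) ∈ A.map pD := h5 ▸ Subgroup.mem_top _
  obtain ⟨y, hy, ey⟩ : (⟨0, 1, 0⟩ : Heis.HS (ZMod 2)) ∈ A.map pD := h5 ▸ Subgroup.mem_top _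
  have := congrArg (fun t => (pD t).c) (hcomm x hx y hy)
  simp [ex, ey] at this


/-- Let P be a Sylow 2-subgroup of the Mathieu group of degree 24 and S the quotient of P by its centre. Then the centre of every maximal subgroup of S has order at most 8; S has an elementary abelian subgroup of order 64; and S has only one abelian subgroup of order 64. -/
theorem result (P : Sylow 2 ↥Cfsg.M24) :
    (∀ M : Subgroup (↥(P : Subgroup ↥Cfsg.M24) ⧸ Subgroup.center ↥(P : Subgroup ↥Cfsg.M24)), IsCoatom M →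
        Nat.card ↥(Subgroup.center ↥M) ≤ 8) ∧
      (∃ A : Subgroup (↥(P : Subgroup ↥Cfsg.M24) ⧸ Subgroup.center ↥(P : Subgroup ↥Cfsg.M24)),
        Cfsg.IsElementaryAbelian 2 A ∧ Nat.card ↥A = 64) ∧
      ∀ A B : Subgroup (↥(P : Subgroup ↥Cfsg.M24) ⧸ Subgroup.center ↥(P : Subgroup ↥Cfsg.M24)),
        IsMulCommutative ↥A → Nat.card ↥A = 64 → IsMulCommutative ↥B → Nat.card ↥B = 64 → A = B := by
  obtain ⟨e⟩ := quot_equiv P
  refine ⟨part1 e, ⟨pD.ker.comap e.toMonoidHom, ⟨⟨⟨fun a b => Subtype.ext (e.injective ?_)⟩⟩, ?_⟩, ?_⟩, ?_⟩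
  · simp only [Subgroup.coe_mul, map_mul]; exact comm_ker a.2 b.2
  · intro a ha
    apply e.injective
    have : ∀ u : T, u.a2 = 0 ∧ u.a3 = 0 ∧ u.b2 = 0 → u ^ 2 = 1 := by
      intro u hu
      have h2 : ∀ x : ZMod 2, x + x = 0 := by decide
      rw [sq]; ext <;> simp [T.mul_def, T.one_def, hu, h2]
    rw [map_pow, map_one]; exact this _ (mem_ker_pD.mp ha)
  · rw [Subgroup.comap_equiv_eq_map_symm', Subgroup.card_map_of_injective e.symm.injective, card_ker]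
  · have k : ∀ A : Subgroup (↥(P : Subgroup ↥Cfsg.M24) ⧸ Subgroup.center ↥(P : Subgroup ↥Cfsg.M24)),
        IsMulCommutative A → Nat.card A = 64 → A.map e.toMonoidHom = pD.ker := fun A h1 h2 =>
      part3 _ inferInstance (by rw [Subgroup.card_map_of_injective e.injective, h2])
    intro A B a1 a2 b1 b2
    exact Subgroup.map_injective e.injective ((k A a1 a2).trans (k B b1 b2).symm)

end Cfsg.Agent.S3171
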