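import Cfsg.Statements.S3189
import Cfsg.Agent.L0.E8Char
import Cfsg.Agent.L0.ElemAb
import Cfsg.Agent.L0.PSolvable
import Cfsg.Agent.H6.Count
import Cfsg.Agent.H6.Transfer
import Cfsg.Agent.H7.ZStar

set_option autoImplicit false
open Cfsg

namespace Cfsg.Agent.S3189

open Subgroup

theorem exists_pelt {G : Type*} [Group G] [Finite G] {C N : Subgroup G} {q : ℕ} [Fact q.Prime]
    (h : q ∣ C.relIndex N) : ∃ y ∈ N, y ∉ C ∧ ∃ k, y ^ q ^ k = 1 := by
  obtain ⟨P⟩ : Nonempty (Sylow q N) := inferInstance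
  have h1 : ¬ (P : Subgroup N) ≤ C.subgroupOf N := fun hle =>
    P.not_dvd_index (h.trans (index_dvd_of_le hle))
  obtain ⟨y, hy, hy'⟩ := SetLike.not_le_iff_exists.1 h1
  obtain ⟨k, hk⟩ := P.isPGroup' ⟨y, hy⟩
  exact ⟨y, y.2, hy', k, congrArg (fun x : (P : Subgroup N) => ((x : N) : G)) hk⟩

theorem exists_fixed {G : Type*} [Group G] [Finite G] {S A : Subgroup G} (hS8 : Nat.card S = 8)
    (hA : IsPGroup 3 A) (hAS : A ≤ normalizer (S : Set G)) :
    ∃ t ∈ S, t ≠ 1 ∧ t ∈ centralizer (A : Set G) := by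
  have : Fact (Nat.Prime 3) := ⟨Nat.prime_three⟩
  have h := Agent.H5.card_modEq_card_inf_centralizer hA hAS
  have h1 : S ⊓ centralizer (A : Set G) ≠ ⊥ := fun h1 => by
    rw [h1, card_bot, hS8] at h
    exact absurd h (by decide)
  obtain ⟨⟨t, ht⟩, h2⟩ := ne_bot_iff_exists_ne_one.1 h1
  exact ⟨t, ht.1, fun h => h2 (Subtype.ext h), ht.2⟩

theorem isPGroup_zpowers {G : Type*} [Group G] {y : G} {q k : ℕ} [Fact q.Prime]
    (h : y ^ q ^ k = 1) : IsPGroup q (zpowers y) := by
  rintro ⟨_, n, rfl⟩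
  exact ⟨k, Subtype.ext (by
    change (y ^ n) ^ q ^ k = 1
    rw [← zpow_natCast, ← zpow_mul, mul_comm, zpow_mul, zpow_natCast, h, one_zpow])⟩

theorem conj_of_seven {G : Type*} [Group G] [Finite G] {S : Subgroup G} (hS8 : Nat.card S = 8)
    {u : G} (hu : u ∈ normalizer (S : Set G)) (hu' : u ∉ centralizer (S : Set G)) {k : ℕ}
    (hk : u ^ 7 ^ k = 1) {t : G} (ht : t ∈ S) (ht1 : t ≠ 1) : ∀ s ∈ S, s ≠ 1 → IsConj t s := by
  have : Fact (Nat.Prime 7) := ⟨by norm_num⟩
  have := Fintype.ofFinite G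
  have hA := isPGroup_zpowers hk
  have hAS : zpowers u ≤ normalizer (S : Set G) := zpowers_le.2 hu
  have h := Agent.H5.card_modEq_card_inf_centralizer hA hAS
  rw [Agent.L0.centralizer_zpowers_eq, hS8] at h
  have h4 : Nat.card ↥(S ⊓ centralizer {u}) ∣ 8 := hS8 ▸ card_dvd_of_le inf_le_left
  have h5 : Nat.card ↥(S ⊓ centralizer {u}) ≠ 8 := fun h => hu' fun q hq => by
    have : S ⊓ centralizer {u} = S := eq_of_le_of_card_ge inf_le_left (by rw [h, hS8])
    exact mem_centralizer_singleton_iff.1 (this.ge hq).2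
  have h6 : S ⊓ centralizer {u} = ⊥ := by
    rw [← card_eq_one]
    have := Nat.le_of_dvd (by norm_num) h4
    unfold Nat.ModEq at h
    interval_cases Nat.card ↥(S ⊓ centralizer {u}) <;> omega
  letI : MulAction (zpowers u) G :=
    MulAction.compHom G ((MulAut.conj : G →* MulAut G).comp (zpowers u).subtype)
  have hsm : ∀ (q : zpowers u) (g : G), q • g = q * g * (q : G)⁻¹ := fun _ _ => rfl
  obtain ⟨m, hm⟩ := hA.card_orbit t
  have hsub : MulAction.orbit (zpowers u) t ⊆ (S : Set G) \ {1} := by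
    rintro _ ⟨q, rfl⟩
    refine ⟨(mem_normalizer_iff.1 (hAS q.2) t).1 ht, fun h => ht1 ?_⟩
    have : (q : G) * t * (q : G)⁻¹ = 1 := h
    simpa using this
  have hc : ((S : Set G) \ {1}).ncard = 7 := by
    rw [Set.ncard_diff_singleton_of_mem S.one_mem]
    change Nat.card S - 1 = 7
    rw [hS8]
  have hm' : (MulAction.orbit (zpowers u) t).ncard = 7 ^ m := hm
  have h7 : m ≠ 0 := by
    rintro rfl
    rw [pow_zero, Set.ncard_eq_one] at hm'
    obtain ⟨a, ha⟩ := hm'
    have h8 : (⟨u, mem_zpowers u⟩ : zpowers u) • t = t := by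
      have e1 := MulAction.mem_orbit t (⟨u, mem_zpowers u⟩ : zpowers u)
      have e2 := MulAction.mem_orbit_self (M := zpowers u) t
      rw [ha] at e1 e2
      exact e1.trans e2.symm
    rw [hsm, mul_inv_eq_iff_eq_mul] at h8
    exact ht1 (mem_bot.1 (h6 ▸ (⟨ht, mem_centralizer_singleton_iff.2 h8.symm⟩ :
      t ∈ S ⊓ centralizer {u})))
  have h8 := Set.eq_of_subset_of_ncard_le hsub (by
    rw [hc, hm']; exact Nat.le_self_pow h7 7)
  intro s hs hs1
  obtain ⟨q, hq⟩ := h8.ge ⟨hs, hs1⟩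
  exact isConj_iff.2 ⟨q, hq⟩

/-- Let G be a non-abelian finite simple group whose Sylow 2-subgroup S is elementary abelian of order 8, and suppose the centralizer of every involution of G is solvable. Then the normalizer of S modulo the centralizer of S has order 7. -/
theorem result {G : Type*} [Group G] [Finite G]
    [IsSimpleGroup G] (hG : ¬ IsMulCommutative G) (S : Sylow 2 G)
    (hS : Cfsg.IsElementaryAbelian 2 (S : Subgroup G)) (hS8 : Nat.card ↥(S : Subgroup G) = 8)
    (hC : ∀ t : G, orderOf t = 2 → Group.IsSolvable ↥(Subgroup.centralizer ({t} : Set G))) :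
    (Subgroup.centralizer ((S : Subgroup G) : Set G)).relIndex (Subgroup.normalizer ((S : Subgroup G) : Set G)) = 7 := by
  have : Fact (Nat.Prime 3) := ⟨Nat.prime_three⟩
  have : Fact (Nat.Prime 7) := ⟨by norm_num⟩
  have hcomm := hS.1
  have hSC : (S : Subgroup G) ≤ centralizer ((S : Subgroup G) : Set G) := le_centralizer _
  have hord : ∀ t ∈ (S : Subgroup G), t ≠ 1 → orderOf t = 2 := fun t ht h1 =>
    orderOf_eq_prime (hS.2 t ht) h1
  generalize hr : (centralizer ((S : Subgroup G) : Set G)).relIndex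
    (normalizer ((S : Subgroup G) : Set G)) = r
  have h168 : r ∣ 168 := by
    have := Agent.H6.relIndex_centralizer_dvd_card_mulAut (S : Subgroup G)
    rwa [hr, Agent.L0.card_mulAut_of_elementary (p := 2) (n := 3)
      (fun x => Subtype.ext (hS.2 x x.2)) hS8] at this
  have hodd : ¬ 2 ∣ r := fun h => S.not_dvd_index (h.trans (hr ▸
    (relIndex_dvd_index_of_le (centralizer_le_normalizer _)).trans (index_dvd_of_le hSC)))
  have h21 : r ∣ 21 := (Nat.Coprime.pow_right 3
    ((Nat.Prime.coprime_iff_not_dvd Nat.prime_two).2 hodd).symm).dvd_of_dvd_mul_left h168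
  have h7 : 7 ∣ r := by
    by_contra h7
    have h3 : r ∣ 3 := ((Nat.Prime.coprime_iff_not_dvd (by norm_num)).2 h7).symm.dvd_of_dvd_mul_right
      h21
    obtain ⟨P⟩ : Nonempty (Sylow 3 (normalizer ((S : Subgroup G) : Set G))) := inferInstance
    obtain ⟨t, ht, ht1, htc⟩ := exists_fixed hS8 (P.isPGroup'.map (Subgroup.subtype _))
      (map_subtype_le _)
    have h1 : (centralizer ({t} : Set G)).subgroupOf (normalizer ((S : Subgroup G) : Set G)) = ⊤ := by
      rw [← index_eq_one]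
      refine Nat.eq_one_of_dvd_coprimes ((Nat.Prime.coprime_iff_not_dvd Nat.prime_three).2
        P.not_dvd_index) (Dvd.dvd.trans ?_ h3) (index_dvd_of_le fun x hx => ?_)
      · rw [← hr]
        exact index_dvd_of_le (subgroupOf_mono _ (centralizer_le (Set.singleton_subset_iff.2 ht)))
      · exact mem_centralizer_singleton_iff.2 (htc _ ⟨x, hx, rfl⟩)
    have h2 := Agent.H7.Isolated.of_sylow S (t := t) (by rw [← pow_two, hS.2 t ht]) fun g hg => by
      obtain ⟨n, hn, h3⟩ := Agent.H6.burnside_fusion S (x := t) (g := g)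
        (fun s hs => hSC ht s hs) (fun s hs => hSC hg s hs)
      have h4 : n * t = t * n := mem_centralizer_singleton_iff.1 (h1.ge (mem_top ⟨n, hn⟩))
      rw [← h3, h4, mul_inv_cancel_right]
    exact h2.eq_one_or_comm.elim ht1 hG
  by_contra hne
  have h3 : 3 ∣ r := by
    have := Nat.le_of_dvd (by norm_num) h21
    interval_cases r <;> omega
  obtain ⟨u, hu, hu', j, hj⟩ := exists_pelt (hr ▸ h7)
  obtain ⟨y, hy, hy', k, hk⟩ := exists_pelt (hr ▸ h3)
  obtain ⟨t, ht, ht1, htc⟩ := exists_fixed hS8 (isPGroup_zpowers hk) (zpowers_le.2 hy)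
  have hyt : y ∈ centralizer ({t} : Set G) :=
    mem_centralizer_singleton_iff.2 (htc y (mem_zpowers y))
  have hsol := hC t (hord t ht ht1)
  have hSt : (S : Subgroup G) ≤ centralizer ({t} : Set G) :=
    hSC.trans (centralizer_le (Set.singleton_subset_iff.2 ht))
  set K := pPrimeCore 2 (centralizer ({t} : Set G)) with hK
  have hK2 : ¬ 2 ∣ Nat.card K := Agent.L0.not_dvd_card_pPrimeCore
  set Q := pCore 2 (centralizer ({t} : Set G) ⧸ K) with hQ
  have hQC : centralizer (Q : Set (centralizer ({t} : Set G) ⧸ K)) ≤ Q := by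
    have := Agent.L0.centralizer_fitting_le (G := centralizer ({t} : Set G) ⧸ K)
    rwa [Agent.L0.fitting_eq_pCore_of_pPrimeCore_eq_bot (p := 2)
      Agent.L0.pPrimeCore_quotient_pPrimeCore] at this
  let T := (S.subtype hSt).mapSurjective (QuotientGroup.mk'_surjective K)
  have hQT : Q ≤ T := Agent.L0.pCore_le_sylow T
  have hTQ : (T : Subgroup _) = Q := by
    refine le_antisymm (le_trans ?_ hQC) hQT
    rintro _ ⟨a, ha, rfl⟩ q hq
    obtain ⟨b, hb, rfl⟩ := hQT hq
    rw [← map_mul, ← map_mul]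
    exact congrArg _ (Subtype.ext (hSC ha b hb))
  have hSK : ∀ a : centralizer ({t} : Set G), (a : G) ∈ (S : Subgroup G) → a ∈ K → a = 1 := by
    intro a ha haK
    by_contra h
    have h1 := hord a ha fun h1 => h (Subtype.ext h1)
    rw [orderOf_coe] at h1
    exact hK2 (h1 ▸ K.orderOf_dvd_natCard haK)
  have hQ8 : Nat.card Q = 8 := by
    rw [← hTQ, ← hS8, ← Nat.card_congr (subgroupOfEquivOfLe hSt).toEquiv]
    refine (Nat.card_congr (Equiv.ofBijective ((QuotientGroup.mk' K).subgroupMap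
      ((S : Subgroup G).subgroupOf _)) ⟨?_, MonoidHom.subgroupMap_surjective _ _⟩)).symm
    rw [injective_iff_map_eq_one]
    intro a ha
    exact Subtype.ext (hSK a a.2 ((QuotientGroup.eq_one_iff _).1 (congrArg Subtype.val ha)))
  let y' : centralizer ({t} : Set G) := ⟨y, hyt⟩
  have hy'k : y' ^ 3 ^ k = 1 := Subtype.ext hk
  have hyQ : (y' : centralizer ({t} : Set G) ⧸ K) ∉ Q := fun h => by
    have h1 : (y' : centralizer ({t} : Set G) ⧸ K) = 1 := by
      obtain ⟨m, hm⟩ := Agent.L0.pCore_isPGroup (p := 2) ⟨_, h⟩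
      have h2 : (y' : centralizer ({t} : Set G) ⧸ K) ^ 2 ^ m = 1 := congrArg Subtype.val hm
      have h3 : (y' : centralizer ({t} : Set G) ⧸ K) ^ 3 ^ k = 1 := by
        rw [← QuotientGroup.mk_pow, hy'k, QuotientGroup.mk_one]
      exact orderOf_eq_one_iff.1 (Nat.eq_one_of_dvd_coprimes
        (Nat.Coprime.pow m k (by norm_num)) (orderOf_dvd_of_pow_eq_one h2)
        (orderOf_dvd_of_pow_eq_one h3))
    have h2 : y' ∈ K := (QuotientGroup.eq_one_iff _).1 h1
    refine hy' fun s hs => ?_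
    let s' : centralizer ({t} : Set G) := ⟨s, hSt hs⟩
    have h3 := hSK (s' * y' * s'⁻¹ * y'⁻¹) (by
      change s * y * s⁻¹ * y⁻¹ ∈ (S : Subgroup G)
      rw [mul_assoc, mul_assoc, ← mul_assoc y]
      exact mul_mem hs ((mem_normalizer_iff.1 hy _).1 (inv_mem hs)))
      (mul_mem (Normal.conj_mem inferInstance _ h2 _) (inv_mem h2))
    have h4 : s * y * s⁻¹ * y⁻¹ = 1 := congrArg Subtype.val h3
    rwa [mul_inv_eq_one, mul_inv_eq_iff_eq_mul] at h4
  have hQcomm : IsMulCommutative Q := by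
    rw [← hTQ]
    refine ⟨⟨?_⟩⟩
    rintro ⟨_, a, ha, rfl⟩ ⟨_, b, hb, rfl⟩
    refine Subtype.ext ?_
    change QuotientGroup.mk' K a * QuotientGroup.mk' K b =
      QuotientGroup.mk' K b * QuotientGroup.mk' K a
    rw [← map_mul, ← map_mul]
    exact congrArg _ (Subtype.ext (hSC hb a ha))
  have hQe : ∀ x : Q, x ^ 2 = 1 := by
    rw [← hTQ]
    rintro ⟨_, a, ha, rfl⟩
    refine Subtype.ext ?_
    change QuotientGroup.mk' K a ^ 2 = 1
    rw [← map_pow, show a ^ 2 = 1 from Subtype.ext (hS.2 a ha), map_one]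
  have hQi : Q.index = 3 := by
    have h1 := Agent.H6.relIndex_centralizer_dvd_card_mulAut Q
    rw [Agent.L0.card_mulAut_of_elementary (p := 2) (n := 3) hQe hQ8, normalizer_eq_top,
      relIndex_top_right, le_antisymm hQC (le_centralizer Q)] at h1
    have h2 : ¬ 2 ∣ Q.index := hTQ ▸ T.not_dvd_index
    have h3 : ¬ 7 ∣ Q.index := fun h => by
      obtain ⟨w, -, hw, m, hm⟩ := exists_pelt (C := Q) (N := ⊤) (q := 7) (by rwa [relIndex_top_right])
      let z : centralizer ({t} : Set G) := ⟨t, mem_centralizer_singleton_iff.2 rfl⟩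
      have hz : ∀ g : centralizer ({t} : Set G) ⧸ K, g * z = z * g := fun g => by
        obtain ⟨g, rfl⟩ := QuotientGroup.mk_surjective g
        rw [← QuotientGroup.mk_mul, ← QuotientGroup.mk_mul]
        exact congrArg _ (Subtype.ext (mem_centralizer_singleton_iff.1 g.2))
      have hz1 : (z : centralizer ({t} : Set G) ⧸ K) ≠ 1 := fun h =>
        ht1 (congrArg Subtype.val (hSK z ht ((QuotientGroup.eq_one_iff _).1 h)))
      have h4 := conj_of_seven hQ8 (by rw [normalizer_eq_top]; exact mem_top w)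
        (fun h => hw (hQC h)) hm (hQC fun q _ => hz q) hz1
      have h5 : (Q : Set (centralizer ({t} : Set G) ⧸ K)) ⊆ {1, (z : centralizer ({t} : Set G) ⧸ K)} := by
        intro s hs
        by_cases h : s = 1
        · exact Or.inl h
        · obtain ⟨c, rfl⟩ := isConj_iff.1 (h4 s hs h)
          rw [hz c, mul_inv_cancel_right]
          exact Or.inr rfl
      have h6 := (Set.ncard_le_ncard h5).trans (Set.ncard_insert_le _ _)
      rw [Set.ncard_singleton] at h6
      have h7 : Nat.card Q ≤ 2 := h6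
      omega
    have h4 : Q.index ≠ 1 := fun h => hyQ (index_eq_one.1 h ▸ mem_top _)
    have h5 : Q.index ∣ 168 := h1
    have := Nat.le_of_dvd (by norm_num) h5
    have h6 : Q.index ∣ 3 :=
      ((Nat.Prime.coprime_iff_not_dvd (by norm_num)).2 h3).symm.dvd_of_dvd_mul_right
        ((Nat.Coprime.pow_right 3
          ((Nat.Prime.coprime_iff_not_dvd Nat.prime_two).2 h2).symm).dvd_of_dvd_mul_left h5)
    exact ((Nat.dvd_prime Nat.prime_three).1 h6).resolve_left h4
  exact Agent.L0.E8.char_part hG (hord t ht ht1) S hS8 (conj_of_seven hS8 hu hu' hj ht ht1) K hK2 Q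
    hQC hQ8 hQi y' k hy'k hyQ

end Cfsg.Agent.S3189
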