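import Cfsg.Statements.S3193
import Cfsg.Agent.H7.It9

set_option autoImplicit false
open Cfsg

namespace Cfsg.Agent.S3193

/-- Simple groups of conjugate type rank four. For a finite group G consider the set of indices of the centralizers of the non-central elements of G. Then G is a non-abelian simple group for which this set has exactly four members if and only if G is isomorphic to PSL(2, q) for some odd prime power q ≥ 7. -/
theorem result (G : Type*) [Group G] [Finite G] :
    (IsSimpleGroup G ∧ ¬ IsMulCommutative G ∧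
        Set.ncard {m : ℕ | ∃ x : G, x ∉ Subgroup.center G ∧ m = (Subgroup.centralizer ({x} : Set G)).index} = 4) ↔
      ∃ (F : Type) (_ : Field F) (_ : Fintype F), Odd (Fintype.card F) ∧ 7 ≤ Fintype.card F ∧
        Nonempty (G ≃* Matrix.ProjectiveSpecialLinearGroup (Fin 2) F) := by
  rw [H7.CA.ncard_index_eq]
  constructor
  · rintro ⟨hs, hG, h4⟩
    simp only [H7.CA.center_bot hG, Subgroup.mem_bot] at h4
    rcases H7.CA.lst_of_four hG h4 with ⟨F, _, _, h3, ⟨e⟩⟩ | ⟨⟨e⟩⟩ | ⟨-, X, hX⟩ | ⟨⟨e⟩, hC, hab⟩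
    · obtain ⟨h1, h2⟩ := (H7.CA.psl_ncard hG h3 e).2 h4
      exact ⟨F, _, _, h1, h2, ⟨e⟩⟩
    · have := H7.CA.six_le_A7
      rw [← H7.CA.vals_equiv e] at this
      exact absurd (this.trans h4.le) (by norm_num)
    · exact (H7.CA.sz_ne_four X hX h4).elim
    · obtain ⟨f⟩ := H1.M21.nonempty_equiv_F4
      exact (H7.CA.cit_ne_four hG hC hab
        ((Nat.card_congr (e.trans f.symm).toEquiv).trans H1.card_fix3) h4).elim
  · rintro ⟨F, _, _, ho, h7, ⟨e⟩⟩
    rw [← Nat.card_eq_fintype_card] at h7
    have hs : IsSimpleGroup G := by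
      have := H1.SLn.isSimpleGroup_PSL (ι := Fin 2) (F := F)
        (Or.inr ⟨by simp, H1.SLn.exists_sq_ne_one (by omega)⟩)
      exact e.isSimpleGroup
    have h4 := H7.CA.ncard_co_PSL (H5.two_ne_zero_of_odd_card ho) h7
    rw [← H7.CA.vals_equiv e] at h4
    have hG : ¬ IsMulCommutative G := fun hG => by
      have := Set.ncard_le_ncard (s := {c | ∃ x : G, x ≠ 1 ∧ c = H7.CA.co x}) (t := {Nat.card G}) (by
        rintro _ ⟨x, -, rfl⟩
        have : Subgroup.centralizer ({x} : Set G) = ⊤ :=
          eq_top_iff.mpr fun y _ => H7.CA.mem_cen.mpr (hG.is_comm.comm y x)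
        rw [H7.CA.co, this, Subgroup.card_top]; rfl)
      rw [h4, Set.ncard_singleton] at this
      omega
    refine ⟨hs, hG, ?_⟩
    simp only [H7.CA.center_bot hG, Subgroup.mem_bot]
    exact h4

end Cfsg.Agent.S3193
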