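import Cfsg.Statements.S3194
import Cfsg.Agent.H7.It9
import Cfsg.Agent.H7.It17

set_option autoImplicit false
open Cfsg

namespace Cfsg.Agent.S3194

/-- Simple groups of conjugate type rank five that are not three-headed. Let G be a non-abelian finite simple group and let I be the set of indices of the centralizers of the non-central elements of G. Suppose I has exactly five members, and that the number of members a of I that no other member of I divides is not three. Then G is isomorphic to a Suzuki group over the field with 2^(2n+1) elements for some n ≥ 1, or to PSL(3, 4). -/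
theorem result {G : Type*} [Group G] [Finite G]
    [IsSimpleGroup G] (hG : ¬ IsMulCommutative G)
    (h5 : Set.ncard {m : ℕ | ∃ x : G, x ∉ Subgroup.center G ∧ m = (Subgroup.centralizer ({x} : Set G)).index} = 5)
    (h3 : Set.ncard {a : ℕ | a ∈ {m : ℕ | ∃ x : G, x ∉ Subgroup.center G ∧ m = (Subgroup.centralizer ({x} : Set G)).index} ∧
      ∀ c ∈ {m : ℕ | ∃ x : G, x ∉ Subgroup.center G ∧ m = (Subgroup.centralizer ({x} : Set G)).index}, c ∣ a → c = a} ≠ 3) :
    (∃ (n : ℕ) (F : Type) (_ : Field F) (_ : Fintype F), 1 ≤ n ∧ Fintype.card F = 2 ^ (2 * n + 1) ∧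
        Nonempty (G ≃* ↥(Cfsg.Lie.Sz F (2 ^ (n + 1))))) ∨
      ∃ (F : Type) (_ : Field F) (_ : Fintype F), Fintype.card F = 4 ∧
        Nonempty (G ≃* Matrix.ProjectiveSpecialLinearGroup (Fin 3) F) := by
  have h3' : {c | ∃ x : G, (x ≠ 1 ∧ H7.CA.Hd x) ∧ c = H7.CA.co x}.ncard ≠ 3 := by
    rw [← H7.CA.ncard_index_eq]
    convert h3 using 2
    simp only [H7.CA.center_bot hG, Subgroup.mem_bot]
    ext a
    constructor
    · rintro ⟨x, ⟨hx, hh⟩, rfl⟩
      refine ⟨⟨x, hx, rfl⟩, ?_⟩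
      rintro _ ⟨y, hy, rfl⟩ hd
      refine H7.CA.index_eq_of_co (hh y hy ?_)
      obtain ⟨k, hk⟩ := hd
      have h1 := (Subgroup.centralizer ({x} : Set G)).index_mul_card.trans
        (Subgroup.centralizer ({y} : Set G)).index_mul_card.symm
      rw [hk, mul_assoc] at h1
      exact Dvd.intro_left k (Nat.eq_of_mul_eq_mul_left
        (Nat.pos_of_ne_zero Subgroup.index_ne_zero_of_finite) h1)
    · rintro ⟨⟨x, hx, rfl⟩, h⟩
      exact ⟨x, ⟨hx, fun y hy hd =>
        H7.CA.co_eq_of_index (h _ ⟨y, hy, rfl⟩ (H7.CA.index_dvd_of_co hd))⟩, rfl⟩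
  rw [H7.CA.ncard_index_eq] at h5
  simp only [H7.CA.center_bot hG, Subgroup.mem_bot] at h5
  rcases H7.CA.lst_of_five hG h5 h3' with
    ⟨F, _, _, h3, ⟨e⟩⟩ | ⟨⟨e⟩⟩ | ⟨⟨F, _, _, n, h⟩, -⟩ | ⟨e, -⟩
  · exact absurd (h5.ge.trans (H7.CA.psl_ncard hG h3 e).1) (by norm_num)
  · have := H7.CA.six_le_A7
    rw [← H7.CA.vals_equiv e] at this
    exact absurd (this.trans h5.le) (by norm_num)
  · exact .inl ⟨n, F, _, _, h⟩
  · exact .inr ⟨H1.F4, _, _, rfl, e⟩

end Cfsg.Agent.S3194
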