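import Cfsg.Statements.S3199
import Cfsg.Agent.H1.IcG

set_option autoImplicit false
open Cfsg

namespace Cfsg.Agent.S3199

open Subgroup Cfsg.Agent.FT Cfsg.Agent.L0 Cfsg.Agent.H8 Cfsg.Agent.H1.JR Cfsg.Agent.H1.Ico

/-- Let G be a finite group with no normal subgroup of index 2 whose Sylow 2-subgroups are isomorphic to those of the Hall–Janko group J₂, and let z be an involution central in a Sylow 2-subgroup of G. Then the centralizer of z modulo its largest normal subgroup of odd order is isomorphic to the centralizer of a 2-central involution in J₂ or to the centralizer of a 2-central involution in the third Janko group J₃. -/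
theorem result {G : Type*} [Group G] [Finite G]
    (S : Sylow 2 G) (P : Sylow 2 Cfsg.Spor.J2) (hS : Nonempty (↥(S : Subgroup G) ≃* ↥(P : Subgroup Cfsg.Spor.J2)))
    (h2 : ∀ H : Subgroup G, H.Normal → H.index ≠ 2)
    (z : G) (hz : orderOf z = 2) (hzS : z ∈ (S : Subgroup G)) (hzc : ∀ s ∈ (S : Subgroup G), s * z = z * s) :
    (∃ (z' : Cfsg.Spor.J2) (Q : Sylow 2 Cfsg.Spor.J2), orderOf z' = 2 ∧ z' ∈ (Q : Subgroup Cfsg.Spor.J2) ∧
        (∀ s ∈ (Q : Subgroup Cfsg.Spor.J2), s * z' = z' * s) ∧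
        Nonempty ((↥(Subgroup.centralizer ({z} : Set G)) ⧸ Cfsg.oddCore ↥(Subgroup.centralizer ({z} : Set G))) ≃*
          ↥(Subgroup.centralizer ({z'} : Set Cfsg.Spor.J2)))) ∨
      (∃ (F : Type) (_ : Field F) (_ : Fintype F) (ω : F), Fintype.card F = 4 ∧ ω ^ 2 + ω + 1 = 0 ∧
        ∃ (z' : Cfsg.Spor.J3 F ω) (Q : Sylow 2 (Cfsg.Spor.J3 F ω)), orderOf z' = 2 ∧ z' ∈ (Q : Subgroup (Cfsg.Spor.J3 F ω)) ∧
          (∀ s ∈ (Q : Subgroup (Cfsg.Spor.J3 F ω)), s * z' = z' * s) ∧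
          Nonempty ((↥(Subgroup.centralizer ({z} : Set G)) ⧸ Cfsg.oddCore ↥(Subgroup.centralizer ({z} : Set G))) ≃*
            ↥(Subgroup.centralizer ({z'} : Set (Cfsg.Spor.J3 F ω))))) := by
  haveI : Fact (Nat.Prime 2) := Nat.fact_prime_two
  obtain ⟨φ, m, hC, cC, g, hg, hr⟩ := H1.Ico.main
  obtain ⟨Q, hQ⟩ : ∃ Q : Sylow 2 Cfsg.Spor.J2, (Q : Subgroup _) = φ.range :=
    ⟨⟨φ.range, hC.pgroup, fun hp h => (m.syl_top hC).max _ le_top hp h⟩, rfl⟩
  obtain ⟨c1, ψ, K, f1⟩ := m.quot hC hg hr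
  have hO : pPrimeCore 2 (centralizer {J [0]}) = ⊥ := by
    have := card_eq_card_quotient_mul_card_subgroup (pPrimeCore 2 (centralizer {J [0]}))
    rw [c1, cC] at this
    exact card_eq_one.mp (by omega)
  obtain ⟨i⟩ := hS
  let j : R ≃* S := ((MonoidHom.ofInjective m.inj).trans (MulEquiv.subgroupCongr hQ.symm)).trans ((Q.equiv P).trans i.symm)
  let χ : R →* G := (S : Subgroup G).subtype.comp j.toMonoidHom
  have r : χ.range = S := by
    rw [MonoidHom.range_comp, MonoidHom.range_eq_top.mpr j.surjective, ← MonoidHom.range_eq_map, range_subtype]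
  have n : Em χ (χ z0) := ⟨Subtype.val_injective.comp j.injective, rfl⟩
  obtain rfl := n.cen (r ▸ hzS) (fun e => by simp [e] at hz) (r ▸ hzc)
  obtain ⟨h, hh, hr'⟩ := n.mv S r fun K e => h2 K (K.normal_of_index_eq_two e) e
  obtain ⟨-, ψ', K', f2⟩ := n.quot (n.syl (r ▸ isSylowIn_top S)) hh hr'
  obtain ⟨k⟩ := f2.iso f1
  exact Or.inl ⟨_, Q, orderOf_eq_prime ((pow_two _).trans m.z2) m.z1, hQ.ge ⟨_, m.hz⟩,
    fun s hs => mem_centralizer_singleton_iff.mp (hC.le (hQ.le hs)),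
    ⟨k.trans ((QuotientGroup.quotientMulEquivOfEq hO).trans QuotientGroup.quotientBot)⟩⟩

end Cfsg.Agent.S3199
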