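import Cfsg.Statements.S3216
import Cfsg.Agent.H7.ReePSL

set_option autoImplicit false
open Cfsg

namespace Cfsg.Agent.S3216

open Subgroup Cfsg.Agent.H7
open scoped commutatorElement

theorem mul_eq_one_z2 : ∀ a b : Multiplicative (ZMod 2), a ≠ 1 → b ≠ 1 → a * b = 1 := by
  decide


/-- Let G be a finite non-abelian simple group and t an involution of G; write C = C_G(t) and C̄ = C/O(C). If the subgroup of C̄ generated by its 2-elements (the smallest normal subgroup of C̄ of odd index) is isomorphic to Z₂ × PSL₂(q) for some prime power q > 3, then the Sylow 2-subgroups of G are elementary abelian of order 8. -/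
theorem result {G : Type*} [Group G] [Finite G] [IsSimpleGroup G]
    (hG : ¬ IsMulCommutative G) (t : G) (ht : orderOf t = 2) {F : Type*} [Field F] [Fintype F] (hF : 3 < Fintype.card F)
    (hL : Nonempty (↥(Subgroup.closure {x : (↥(Subgroup.centralizer ({t} : Set G)) ⧸ Cfsg.oddCore ↥(Subgroup.centralizer ({t} : Set G))) | ∃ k : ℕ, orderOf x = 2 ^ k}) ≃*
      (Multiplicative (ZMod 2) × Matrix.ProjectiveSpecialLinearGroup (Fin 2) F))) (S : Sylow 2 G) :
    Nat.card ↥(S : Subgroup G) = 8 ∧ ∀ x ∈ (S : Subgroup G), x ^ 2 = 1 := by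
  have : Fact (Nat.Prime 2) := ⟨Nat.prime_two⟩
  obtain ⟨e⟩ := hL
  set C := centralizer ({t} : Set G) with hC
  let π := QuotientGroup.mk' (oddCore C)
  set H := closure {x : C ⧸ oddCore C | ∃ k : ℕ, orderOf x = 2 ^ k} with hH
  have hHn : H.Normal := ⟨fun x hx g => H9.conj_mem_of_mem_normalizer
    (normalizer_le_normalizer_closure _ (fun y => by
      simp only [Set.mem_ofPred_eq, H9.orderOf_conj])) hx⟩
  have h2 : ∀ x : C, (∃ k, (x : G) ^ 2 ^ k = 1) → π x ∈ H := by
    rintro x ⟨k, hk⟩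
    obtain ⟨j, -, hj⟩ := (Nat.dvd_prime_pow Nat.prime_two).1 (orderOf_dvd_of_pow_eq_one
      (x := π x) (n := 2 ^ k) (by rw [← map_pow, show x ^ 2 ^ k = 1 from Subtype.ext hk, map_one]))
    exact subset_closure ⟨j, hj⟩
  have hK : ∀ x : H, (x : C ⧸ oddCore C) ∈ ⁅H, H⁆ ↔ (e x).1 = 1 := fun x => by
    have h1 : (commutator H).map e.toMonoidHom = (⊥ : Subgroup _).prod ⊤ := by
      rw [map_commutator_eq, MonoidHom.range_eq_top.mpr e.surjective, ← top_prod_top,
        commutator_prod_prod, ← commutator_def, ← commutator_def, PSL2_perfect hF,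
        commutator_eq_bot]
    have h3 : e x ∈ (commutator H).map e.toMonoidHom ↔ x ∈ commutator H :=
      mem_map_iff_mem e.injective
    rw [← map_commutator_subtype, ← coe_subtype, mem_map_iff_mem H.subtype_injective, ← h3, h1,
      mem_prod, mem_bot]
    simp
  let K : Subgroup G := ((⁅H, H⁆ : Subgroup _).comap π).map C.subtype
  have hKm : ∀ x : C, (x : G) ∈ K ↔ π x ∈ ⁅H, H⁆ := fun x => mem_map_iff_mem C.subtype_injective
  have hKC : K ≤ C := map_subtype_le _
  have hodd : ∀ x : C, π x = 1 → Odd (orderOf (x : G)) := fun x hx => by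
    have h1 := orderOf_dvd_natCard _ ((QuotientGroup.eq_one_iff x).1 hx)
    rw [orderOf_coe, ← Nat.not_even_iff_odd, even_iff_two_dvd]
    exact fun h3 => L0.not_dvd_card_pPrimeCore (h3.trans h1)
  have t2 := H4.mul_self_of_orderOf_two ht
  let t' : C := ⟨t, mem_centralizer_singleton_iff.2 rfl⟩
  have htH : π t' ∈ H := h2 t' ⟨1, by rw [pow_one, pow_two]; exact t2⟩
  have hsimp : IsSimpleGroup (Matrix.ProjectiveSpecialLinearGroup (Fin 2) F) :=
    Matrix.ProjectiveSpecialLinearGroup.rank_two_simple (by rw [Nat.card_eq_fintype_card]; omega)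
  have ht1 : (e ⟨_, htH⟩).1 ≠ 1 := fun h1 => by
    have h3 : (e ⟨_, htH⟩).2 = 1 := by
      by_contra h3
      have := H9.isMulCommutative_of_central h3 fun g => by
        obtain ⟨⟨y, hy⟩, e'⟩ := e.surjective (1, g)
        obtain ⟨y, rfl⟩ := QuotientGroup.mk'_surjective _ y
        have h4 : (⟨_, hy⟩ * ⟨_, htH⟩ : H) = ⟨_, htH⟩ * ⟨_, hy⟩ := Subtype.ext (by
          change π y * π t' = π t' * π y
          rw [← map_mul, ← map_mul,
            show y * t' = t' * y from Subtype.ext (mem_centralizer_singleton_iff.1 y.2)])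
        have := congrArg (fun z => (e z).2) h4
        simpa only [map_mul, e', Prod.snd_mul] using this
      have h5 := PSL2_perfect hF
      rw [commutator_eq_bot] at h5
      exact bot_ne_top h5
    have h4 : π t' = 1 := congrArg Subtype.val
      (e.injective ((Prod.ext h1 h3).trans (map_one e).symm))
    have := hodd t' h4
    rw [show orderOf (t' : G) = 2 from ht] at this
    exact absurd this (by decide)
  have h : RK t K :=
    { t2 := t2
      tK := fun h1 => ht1 ((hK ⟨_, htH⟩).1 ((hKm t').1 h1))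
      le := hKC
      norm := fun x hx => H9.mem_normalizer_of_conj_mem fun y hy =>
        (hKm (⟨x, hx⟩ * ⟨y, hKC hy⟩ * ⟨x, hx⟩⁻¹)).2 (by
          rw [map_mul, map_mul, map_inv]
          exact Normal.conj_mem inferInstance _ ((hKm ⟨y, hKC hy⟩).1 hy) _)
      split := fun x hx hx2 => by
        have h1 := h2 ⟨x, hx⟩ hx2
        by_cases h3 : (e ⟨_, h1⟩).1 = 1
        · exact Or.inl ((hKm ⟨x, hx⟩).2 ((hK ⟨_, h1⟩).2 h3))
        · refine Or.inr ((hKm (t' * ⟨x, hx⟩)).2 ?_)
          rw [map_mul]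
          refine (hK (⟨_, htH⟩ * ⟨_, h1⟩)).2 ?_
          rw [map_mul, Prod.fst_mul]
          exact mul_eq_one_z2 _ _ ht1 h3 }
  have hKH : ∀ x : K, π ⟨x, hKC x.2⟩ ∈ H := fun x =>
    H.commutator_le_self ((hKm ⟨x, hKC x.2⟩).1 x.2)
  let ψ : K →* Matrix.ProjectiveSpecialLinearGroup (Fin 2) F :=
    MonoidHom.mk' (fun x => (e ⟨_, hKH x⟩).2) fun x y => by
      rw [← Prod.snd_mul, ← map_mul]; rfl
  have hψ : Function.Surjective ψ := fun g => by
    obtain ⟨⟨y, hy⟩, e'⟩ := e.surjective (1, g)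
    obtain ⟨y, rfl⟩ := QuotientGroup.mk'_surjective _ y
    exact ⟨⟨y, (hKm y).2 ((hK ⟨_, hy⟩).2 (by rw [e']))⟩, congrArg Prod.snd e'⟩
  have hker : ∀ x, ψ x = 1 → Odd (orderOf x) := fun x hx => by
    have h1 := (hK ⟨_, hKH x⟩).1 ((hKm ⟨x, hKC x.2⟩).1 x.2)
    rw [← orderOf_coe]
    exact hodd ⟨x, hKC x.2⟩ (congrArg Subtype.val
      (e.injective ((Prod.ext h1 hx).trans (map_one e).symm)))
  obtain ⟨T, hT, hT8, hT2⟩ : ∃ T : Subgroup G, H8.IsSylowIn 2 T ⊤ ∧ Nat.card T = 8 ∧
      ∀ x ∈ T, x * x = 1 := by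
    by_cases hc : ringChar F = 2
    · have : CharP F 2 := ringChar.of_eq hc
      let ι := MulEquiv.ofBijective
        (QuotientGroup.mk' (center (Matrix.SpecialLinearGroup (Fin 2) F)))
        ⟨(injective_iff_map_eq_one _).2 fun a ha => by
          rcases SL2_mem_center_iff.1 ((QuotientGroup.eq_one_iff a).1 ha) with h1 | h1
          · exact h1
          · rw [h1]
            apply H4.SL2.ext4 <;> rw [H4.SL2.neg_apply, CharTwo.neg_eq],
          QuotientGroup.mk'_surjective _⟩
      exact h.even hG hF hc (ι.symm.toMonoidHom.comp ψ) (ι.symm.surjective.comp hψ)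
        fun x hx => hker x (ι.symm.injective (hx.trans (map_one _).symm))
    · exact h.odd hG hF (Nat.odd_iff.2 (FiniteField.odd_card_of_char_ne_two hc)) ψ hψ hker
  obtain ⟨g, -, hg⟩ := hT.exists_cj_eq (H8.isSylowIn_top S)
  rw [← hg, H8.card_cj]
  exact ⟨hT8, fun x hx => by rw [pow_two, RD.sq_cj hT2 g x hx]⟩

end Cfsg.Agent.S3216
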