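import Cfsg.Statements.S3261
import Cfsg.Agent.H9.D8
import Cfsg.Agent.H6.O168
import Cfsg.Agent.H6.ZLine

set_option autoImplicit false
open Cfsg

namespace Cfsg.Agent.S3261

open Subgroup Cfsg.Agent.H9 Equiv

def a0 : Perm (Fin 6) := swap 0 1 * swap 2 3
def w0 : Perm (Fin 6) := swap 0 1 * swap 0 2 * swap 1 3 * swap 4 5
def s0 : Perm (Fin 6) := swap 0 1 * swap 4 5

theorem f1 : w0 * w0 = a0 ∧ s0 * s0 = 1 ∧ s0 * w0 * s0⁻¹ = w0⁻¹ ∧ w0 ^ 4 = 1 ∧ a0 ≠ 1 ∧
    Perm.sign w0 = 1 ∧ Perm.sign s0 = 1 ∧ s0 * a0 = a0 * s0 ∧ s0 * w0 ≠ w0 * s0 := by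
  decide +kernel

theorem f2 : ∀ c : Perm (Fin 6), c * a0 = a0 * c → Perm.sign c = 1 →
    ∃ k : Fin 4, c = w0 ^ (k : ℕ) ∨ c * s0 = w0 ^ (k : ℕ) := by decide +kernel

theorem f3 : a0.cycleType = {2, 2} := by decide +kernel

/-- Let α̃ be an involution of the alternating group A₆ that is a product of two disjoint transpositions (it lies in the centre of a Sylow 2-subgroup of A₆; its centralizer is dihedral of order 8). Let G be a finite group that has no subgroup of index 2 and contains an involution α, central in some Sylow 2-subgroup of G, with C_G(α) ≅ C_{A₆}(α̃). Then G is isomorphic to A₆ or to PSL₂(7). -/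
theorem result {G : Type*} [Group G] [Finite G]
    (hG : ∀ H : Subgroup G, H.index ≠ 2)
    (αt : ↥(alternatingGroup (Fin 6))) (hαt : orderOf αt = 2) (hsupp : (αt : Equiv.Perm (Fin 6)).support.card = 4)
    (α : G) (hα : orderOf α = 2) (S : Sylow 2 G) (hαS : α ∈ (S : Subgroup G)) (hαc : ∀ s ∈ (S : Subgroup G), s * α = α * s)
    (e : ↥(Subgroup.centralizer ({α} : Set G)) ≃* ↥(Subgroup.centralizer ({αt} : Set ↥(alternatingGroup (Fin 6))))) :
    Nonempty (G ≃* ↥(alternatingGroup (Fin 6))) ∨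
      (∃ (F : Type) (_ : Field F) (_ : Fintype F), Fintype.card F = 7 ∧ Nonempty (G ≃* Matrix.ProjectiveSpecialLinearGroup (Fin 2) F)) := by
  obtain ⟨g1, g2, g3, g4, g5, g6, g7, g8, g9⟩ := f1
  obtain ⟨c, hc⟩ : IsConj a0 (αt : Perm (Fin 6)) := by
    have h1 : orderOf (αt : Perm (Fin 6)) = 2 := by rw [orderOf_coe, hαt]
    obtain ⟨n, hn⟩ := Perm.cycleType_prime_order (σ := (αt : Perm (Fin 6))) (h1 ▸ Nat.prime_two)
    have h2 := Perm.sum_cycleType (αt : Perm (Fin 6))
    rw [hn, hsupp, h1, Multiset.sum_replicate, smul_eq_mul] at h2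
    rw [Perm.isConj_iff_cycleType_eq, f3, hn, h1, show n = 1 by omega]
    rfl
  replace hc : (c : Perm (Fin 6)) * a0 * (c : Perm (Fin 6))⁻¹ = αt := by
    rw [mul_inv_eq_iff_eq_mul]; exact hc
  obtain ⟨g, hg⟩ : ∃ g : Perm (Fin 6), g = c := ⟨_, rfl⟩
  rw [← hg] at hc
  have mk : ∀ b : Perm (Fin 6), Perm.sign b = 1 → b * a0 = a0 * b →
      ∃ x : centralizer ({αt} : Set (alternatingGroup (Fin 6))), x.1.1 = g * b * g⁻¹ :=
    fun b h1 h2 => ⟨⟨⟨g * b * g⁻¹, (alternatingGroup.normal).conj_mem b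
      (Perm.mem_alternatingGroup.mpr h1) g⟩, mem_centralizer_singleton_iff.mpr (Subtype.ext (by
        show g * b * g⁻¹ * αt = αt * (g * b * g⁻¹)
        rw [← hc]
        calc _ = g * (b * a0) * g⁻¹ := by group
          _ = _ := by rw [h2]; group))⟩, rfl⟩
  obtain ⟨w, hw⟩ := mk w0 g6 (by rw [← g1, mul_assoc])
  obtain ⟨s, hs⟩ := mk s0 g7 g8
  let φ : centralizer ({αt} : Set (alternatingGroup (Fin 6))) →* Perm (Fin 6) :=
    (MulAut.conj g⁻¹).toMonoidHom.comp ((alternatingGroup (Fin 6)).subtype.comp (Subgroup.subtype _))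
  have hφ : ∀ x, φ x = g⁻¹ * x.1.1 * g := fun x => by simp [φ]
  have hφi : Function.Injective φ := (MulAut.conj g⁻¹).injective.comp
    (Subtype.val_injective.comp Subtype.val_injective)
  have hw' : φ w = w0 := by rw [hφ, hw]; group
  have hs' : φ s = s0 := by rw [hφ, hs]; group
  have hS : (S : Subgroup G) ≤ centralizer ({α} : Set G) := fun x hx =>
    mem_centralizer_singleton_iff.mpr (hαc x hx)
  haveI := Fact.mk Nat.prime_two
  have h := D8C.of_hom ((centralizer ({α} : Set G)).subtype.comp e.symm.toMonoidHom)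
    (Subtype.val_injective.comp e.symm.injective) (w := w) (s := s)
    (by
      rw [← orderOf_injective φ hφi, hw']
      exact orderOf_eq_prime_pow (p := 2) (n := 1) (by rw [pow_one, pow_two, g1]; exact g5) g4)
    (hφi (by rw [map_mul, hs', g2, map_one]))
    (hφi (by rw [map_mul, map_mul, map_inv, map_inv, hs', hw', g3]))
    (by
      rintro ⟨k, hk⟩
      apply g9
      rw [← hs', ← hw', ← map_mul, ← map_mul, ← hk]
      exact congrArg φ ((Commute.refl w).zpow_left k))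
    hα (mem_centralizer_singleton_iff.mp (e.symm w).2)
    (fun c hc' => ⟨e ⟨c, mem_centralizer_singleton_iff.mpr hc'⟩, by simp, by
      obtain ⟨b, hb⟩ : ∃ b, b = e ⟨c, mem_centralizer_singleton_iff.mpr hc'⟩ := ⟨_, rfl⟩
      rw [← hb]
      have h1 : b.1.1 * αt = αt * b.1.1 :=
        congrArg Subtype.val (mem_centralizer_singleton_iff.mp b.2)
      obtain ⟨k, hk⟩ := f2 (φ b) (by
        rw [hφ]
        calc _ = g⁻¹ * (b.1.1 * (g * a0 * g⁻¹)) * g := by group
          _ = g⁻¹ * ((g * a0 * g⁻¹) * b.1.1) * g := by rw [hc, h1]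
          _ = _ := by group) (by
        rw [hφ]; simp [Perm.mem_alternatingGroup.mp b.1.2])
      rw [← hw', ← hs', ← map_pow, ← map_mul, hφi.eq_iff, hφi.eq_iff] at hk
      rcases hk with hk | hk
      · left; rw [hk]; exact npow_mem_zpowers _ _
      · right; rw [hk]; exact npow_mem_zpowers _ _⟩)
    ((H6.sylow_two_index_odd S).of_dvd_nat (index_dvd_of_le hS))
  haveI := h.simple hG
  rcases h.card hG with h1 | h1
  · haveI := Fact.mk Nat.prime_seven
    exact Or.inr ⟨ZMod 7, inferInstance, inferInstance, ZMod.card 7,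
      H6.psl_of_card_sylow (p := 7) (ZMod.card 7) (H6.O168.na h1) (H6.O168.n7 h1) (by rw [h1])⟩
  · obtain ⟨x, hx, hxt⟩ := h.exists_three hG
    obtain ⟨H, hH, -⟩ := h.exists_sixty hG h1 hx h.ht hxt
    refine Or.inl (nonempty_equiv_alternating_six h1 hH
      ((normalCore_normal H).eq_bot_or_eq_top.resolve_right fun h2 => ?_))
    have h3 := card_le_of_le (h2 ▸ normalCore_le H)
    rw [card_top] at h3; omega

end Cfsg.Agent.S3261
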