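import Cfsg.Statements.S3221
import Cfsg.Agent.H3.Jan3

set_option autoImplicit false
open Cfsg

namespace Cfsg.Agent.S3221

/-- Let F be the field with 3 elements and t₀ an involution of PSp₄(3) = PSp₄(F) lying in the centre of a Sylow 2-subgroup. If G is a finite group of even order that has no subgroup of index 2 and contains an involution t whose centralizer C_G(t) is isomorphic to C_{PSp₄(3)}(t₀), then G ≅ PSp₄(3). -/
theorem result {G : Type*} [Group G] [Finite G] (hev : Even (Nat.card G))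
    (hG : ∀ H : Subgroup G, H.index ≠ 2) {F : Type*} [Field F] [Fintype F] (hF : Fintype.card F = 3)
    (U : Sylow 2 (Cfsg.PSp 2 F)) (t₀ : Cfsg.PSp 2 F) (ht₀ : orderOf t₀ = 2) (ht₀U : t₀ ∈ (U : Subgroup (Cfsg.PSp 2 F)))
    (ht₀c : ∀ u ∈ (U : Subgroup (Cfsg.PSp 2 F)), u * t₀ = t₀ * u) (t : G) (ht : orderOf t = 2)
    (e : ↥(Subgroup.centralizer ({t} : Set G)) ≃* ↥(Subgroup.centralizer ({t₀} : Set (Cfsg.PSp 2 F)))) :
    Nonempty (G ≃* Cfsg.PSp 2 F) := by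
  have : Fact (Nat.Prime 3) := ⟨by norm_num⟩
  let e0 : ZMod 3 ≃+* F := ZMod.ringEquivOfPrime F (by norm_num) hF
  have : Finite (Matrix.symplecticGroup (Fin 2) (ZMod 3)) := Subtype.finite
  have : Finite (Cfsg.PSp 2 (ZMod 3)) := Quotient.finite _
  have : Finite (Cfsg.PSp 2 F) := Finite.of_equiv _ (H3.pspEquiv e0).toEquiv
  obtain ⟨h, hh⟩ := (H3.frPSp.map (H3.pspEquiv e0)).exists_conj_central H3.P4.isPGroup_P0
    H3.P4.t_mem_P0 H3.P4.central U ht₀ ht₀c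
  have h1 : ((H3.frPSp.map (H3.pspEquiv e0)).conj h⁻¹).ψ H3.P4.t = t₀ := by
    rw [H3.Frm.conj_apply, ← hh]; group
  subst h1
  obtain ⟨F1⟩ := H3.Frm.nonempty_of_equiv _ ht
    (fun x h1 h2 h3 => H3.P4.central x h1 h2 fun y _ => h3 y) e
  obtain ⟨e1⟩ := H3.Jan.nonempty_equiv' F1 hG
  obtain ⟨e2⟩ := H3.Jan.nonempty_equiv H3.frPSp H3.frPSp_isConj
  exact ⟨e1.trans (e2.symm.trans (H3.pspEquiv e0))⟩

end Cfsg.Agent.S3221
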