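import Cfsg.Statements.S3222
import Cfsg.Agent.H9.Z2S4
import Cfsg.Agent.L0.Char5

set_option autoImplicit false
open Cfsg

namespace Cfsg.Agent.S3222

open Subgroup Cfsg.Agent.H9 Cfsg.Agent.H9.ZS Equiv

variable {G : Type*} [Group G]

structure Hyp (f : Gam →* G) : Prop where
  inj : Function.Injective f
  cent : ∀ c, c * f τ = f τ * c → ∃ γ, f γ = c
  cz : ∀ c, c * f ζ = f ζ * c → c * f τ = f τ * c
  odd : Odd (centralizer ({f ζ} : Set G)).index

namespace Hyp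

variable {f : Gam →* G} (h : Hyp f)
include h

theorem twist : Hyp (f.comp θ) := by
  obtain ⟨h1, h2, h3, -⟩ := F8
  refine ⟨h.inj.comp (Function.LeftInverse.injective h1), fun c hc => ?_, ?_, ?_⟩
  · rw [MonoidHom.comp_apply, h2] at hc
    obtain ⟨γ, rfl⟩ := h.cent c hc
    exact ⟨θ γ, by rw [MonoidHom.comp_apply, h1]⟩
  · simpa only [MonoidHom.comp_apply, h2, h3] using h.cz
  · simpa only [MonoidHom.comp_apply, h3] using h.odd

omit h in
theorem comm (γ : Gam) : f γ * f τ = f τ * f γ := by rw [← map_mul, F10.1, map_mul]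

omit h in
theorem conj_comm {g a b : G} (hab : a * b = b * a) :
    g⁻¹ * a * g * (g⁻¹ * b * g) = g⁻¹ * b * g * (g⁻¹ * a * g) := by
  calc _ = g⁻¹ * (a * b) * g := by group
    _ = _ := by rw [hab]; group

theorem exists_of_z {c : G} (hc : c * f ζ = f ζ * c) : ∃ γ, f γ = c ∧ γ * ζ = ζ * γ := by
  obtain ⟨γ, rfl⟩ := h.cent c (h.cz c hc)
  exact ⟨γ, rfl, h.inj (by rw [map_mul, map_mul, hc])⟩

theorem comm_of_conj_z {g : G} {δ : Gam} (hg : f δ * (g⁻¹ * f ζ * g) * (f δ)⁻¹ = f ζ) :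
    g⁻¹ * f τ * g = f τ := by
  have h1 := h.cz (g * (f δ)⁻¹) (by nth_rewrite 1 [← hg]; group)
  calc g⁻¹ * f τ * g = g⁻¹ * (f τ * (g * (f δ)⁻¹)) * f δ := by group
    _ = (f δ)⁻¹ * (f τ * f δ) := by rw [← h1]; group
    _ = _ := by rw [← comm]; group

theorem tz {g : G} : g⁻¹ * f τ * g ≠ f ζ := fun hg => by
  obtain ⟨γ, h1, h2⟩ := h.exists_of_z (hg ▸ conj_comm (g := g) (comm (1, ξ0)))
  have h3 : γ * γ * (γ * γ) = 1 := by
    rcases F2 γ h2 with h3 | h3 <;> rw [h3]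
    exacts [mul_one _, F10.2.2.2.1]
  have h4 : γ * γ * (γ * γ) = γ := h.inj (by
    calc f _ = g⁻¹ * f ((1, ξ0) * (1, ξ0) * ((1, ξ0) * (1, ξ0))) * g := by
          simp only [map_mul, h1]; group
      _ = _ := by rw [h1, Prod.mk_mul_mk, Prod.mk_mul_mk, F11.2.2.2.2.2.2.2.2.2]; simp)
  rw [← h4, h3, map_one] at h1
  have h5 : f (1, ξ0) = 1 := by
    simpa [mul_inv_eq_one, inv_mul_eq_iff_eq_mul, mul_assoc] using h1.symm
  exact F11.2.1 (congrArg Prod.snd ((map_eq_one_iff f h.inj).mp h5))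

omit h in
theorem sq_conj {g : G} {γ : Gam} (h1 : f γ = g⁻¹ * f (1, ω0) * g) :
    f (γ * γ) = g⁻¹ * f ζ * g := by
  rw [map_mul, h1, ← F10.2.2.2.2.2.2.2.1, map_mul]; group

theorem conj_ne_one {g : G} {γ : Gam} (hγ : γ ≠ 1) : g⁻¹ * f γ * g ≠ 1 := fun h1 =>
  hγ ((map_eq_one_iff f h.inj).mp (by
    simpa [mul_inv_eq_one, inv_mul_eq_iff_eq_mul, mul_assoc] using h1))

omit h in
theorem ωτζ : f (1, ω0) * f (τ * ζ) = f (τ * ζ) * f (1, ω0) := by
  rw [← map_mul, ← map_mul, ← mul_assoc, F10.1, ← F10.2.2.2.2.2.2.2.1]; simp only [mul_assoc]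

theorem ztz {g : G} : g⁻¹ * f (τ * ζ) * g ≠ f ζ := fun hg => by
  obtain ⟨γ, h1, h2⟩ := h.exists_of_z (hg ▸ conj_comm (g := g) ωτζ)
  have h3 := sq_conj h1
  rcases F2 γ h2 with h4 | h4 <;> rw [h4] at h3
  · exact h.conj_ne_one F10.2.2.2.2.1 (h3.symm.trans (map_one f))
  · exact F10.2.2.1 (mul_eq_right.mp (h.inj (mul_left_cancel (mul_right_cancel
      (h3.symm.trans hg.symm))).symm))

theorem ttz {g : G} : g⁻¹ * f (τ * ζ) * g ≠ f τ := fun hg => by
  obtain ⟨γ, h1⟩ := h.cent _ (hg ▸ conj_comm (g := g) ωτζ)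
  have h3 := sq_conj h1
  obtain ⟨δ, hδ⟩ := F3 γ (fun h4 => h.conj_ne_one F10.2.2.2.2.1 (by rw [← h3, h4, map_one]))
    (h.inj (by
      rw [map_mul, h3, map_one]
      calc _ = g⁻¹ * f (ζ * ζ) * g := by rw [map_mul]; group
        _ = 1 := by rw [F10.2.2.2.1, map_one]; group))
  have h5 := h.comm_of_conj_z (g := g) (δ := δ) (by rw [← h3, ← map_inv, ← map_mul, ← map_mul, hδ])
  exact F10.2.2.2.2.1 (mul_eq_left.mp (h.inj (mul_left_cancel (mul_right_cancel
    (hg.trans h5.symm)))))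

omit h in
theorem conj_of {γ δ ε : Gam} {g a : G} (h1 : f γ = g⁻¹ * a * g) (h2 : δ * γ * δ⁻¹ = ε) :
    (f δ * g⁻¹)⁻¹ * f ε * (f δ * g⁻¹) = a := by
  rw [← h2, map_mul, map_mul, map_inv, h1]; group

theorem not_both {g k : G} (hg : g⁻¹ * f σ * g = f τ) (hk : k⁻¹ * f (τ * σ) * k = f τ) : False := by
  obtain ⟨γ, h1⟩ := h.cent _ (hg ▸ conj_comm (g := g) (a := f ζ)
    (by rw [← map_mul, F10.2.2.2.2.2.2.1, map_mul]))
  rcases F1 γ (h.inj (by
    rw [map_mul, h1, map_one]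
    calc _ = g⁻¹ * f (ζ * ζ) * g := by rw [map_mul]; group
      _ = 1 := by rw [F10.2.2.2.1, map_one]; group)) with rfl | rfl | ⟨δ, h2 | h2 | h2 | h2⟩
  · exact h.conj_ne_one F10.2.2.2.2.1 (h1.symm.trans (map_one f))
  · exact h.tz (g := g⁻¹) (by rw [h1]; group)
  · have h3 := h.comm_of_conj_z (g := g) (δ := δ) (by rw [← h1, ← map_inv, ← map_mul, ← map_mul, h2])
    exact F10.2.2.2.2.2.1 (h.inj (mul_left_cancel (mul_right_cancel (hg.trans h3.symm))))
  · exact h.ztz (conj_of h1 h2)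
  · exact h.tz (g := g⁻¹ * (f δ * g⁻¹)) (by rw [← conj_of h1 h2, ← hg]; group)
  · exact h.tz (g := k⁻¹ * (f δ * g⁻¹)) (by rw [← conj_of h1 h2, ← hk]; group)

theorem conj_t {g : G} {γ : Gam} (h1 : f γ = g⁻¹ * f τ * g) :
    γ = τ ∨ ∃ δ, δ * γ * δ⁻¹ = σ ∨ δ * γ * δ⁻¹ = τ * σ := by
  rcases F1 γ (h.inj (by
    rw [map_mul, h1, map_one]
    calc _ = g⁻¹ * f (τ * τ) * g := by rw [map_mul]; group
      _ = 1 := by rw [F10.2.1, map_one]; group)) with rfl | rfl | ⟨δ, h2 | h2 | h2 | h2⟩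
  · exact absurd (h1.symm.trans (map_one f)) (h.conj_ne_one F10.2.2.1)
  · exact Or.inl rfl
  · exact absurd (by rw [← conj_of h1 h2]; group) (h.tz (g := (f δ * g⁻¹)⁻¹))
  · exact absurd (conj_of h1 h2) h.ttz
  · exact Or.inr ⟨δ, Or.inl h2⟩
  · exact Or.inr ⟨δ, Or.inr h2⟩

theorem exists_index_two [Finite G] (hs : ∀ g, g⁻¹ * f σ * g ≠ f τ) :
    ∃ K : Subgroup G, K.index = 2 ∧ f τ ∉ K := by
  have ht : f τ ^ 2 = 1 := by rw [pow_two, ← map_mul, F10.2.1, map_one]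
  refine H6.exists_index_two_of_not_conj h.odd (M := (f.comp (MonoidHom.inr _ _)).range)
    (relIndex_eq_two_of (b := f τ) (mem_centralizer_singleton_iff.mpr (comm ζ).symm) ?_ ?_)
    ⟨1, ht⟩ ?_ ?_
  · rintro ⟨π, hπ⟩
    exact (by decide : 1 ≠ τ.1) (congrArg Prod.fst (h.inj hπ))
  · intro c hc hcM
    obtain ⟨γ, rfl, -⟩ := h.exists_of_z (mem_centralizer_singleton_iff.mp hc)
    rcases F10.2.2.2.2.2.2.2.2 γ with h1 | h1
    · exact absurd ⟨γ.2, congrArg f h1.symm⟩ hcM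
    · exact ⟨γ.2, by rw [← map_mul, h1]; rfl⟩
  · rintro g ⟨π, hπ⟩
    rcases h.conj_t (γ := (1, π)) hπ with h1 | ⟨δ, h1 | h1⟩
    · exact (by decide : 1 ≠ τ.1) (congrArg Prod.fst h1)
    · exact hs _ (conj_of hπ h1)
    · have := congrArg Prod.fst h1
      simp only [Prod.fst_mul, Prod.fst_inv, mul_one, mul_inv_cancel] at this
      exact absurd this (by decide)
  · intro k g hk _
    obtain ⟨j, rfl⟩ : ∃ j, k = j + 1 := ⟨k - 1, by omega⟩
    rw [pow_succ', pow_mul, ht, one_pow]; simp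

theorem card_cent : Nat.card (centralizer ({f τ} : Set G)) = 48 := by
  rw [show centralizer ({f τ} : Set G) = f.range from Subgroup.ext fun c =>
    ⟨fun hc => h.cent c (mem_centralizer_singleton_iff.mp hc), by
      rintro ⟨γ, rfl⟩; exact mem_centralizer_singleton_iff.mpr (comm γ)⟩,
    ← Nat.card_congr (MonoidHom.ofInjective h.inj).toEquiv, Nat.card_eq_fintype_card]
  decide +kernel

theorem card_eq [Finite G] (hs : ∀ g, g⁻¹ * f σ * g ≠ f τ) (hG : Nat.card G ≤ 336) :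
    Nat.card G = 48 := by
  classical
  have hn := H6.ncard_cl_mul_card_centralizer (f τ)
  rw [h.card_cent] at hn
  have hcl : ∀ a, a ∈ H6.cl (f τ) ↔ ∃ g, a = g⁻¹ * f τ * g := fun a =>
    ⟨fun ha => by obtain ⟨c, rfl⟩ := H6.mem_cl_iff.mp ha; exact ⟨c⁻¹, by rw [inv_inv]⟩,
      fun ⟨g, hg⟩ => H6.mem_cl_iff.mpr ⟨g⁻¹, by rw [hg, inv_inv]⟩⟩
  have hB : ∀ a ∈ H6.cl (f τ), a * f τ = f τ * a → a = f τ := by
    intro a ha hc
    obtain ⟨γ, rfl⟩ := h.cent a hc
    obtain ⟨g, hg⟩ := (hcl _).mp ha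
    rcases h.conj_t hg with h1 | ⟨δ, h1 | h1⟩
    · rw [h1]
    · exact absurd (conj_of hg h1) (hs _)
    exfalso
    have h2 := conj_of hg h1
    obtain ⟨k, hk⟩ : ∃ k, k = f δ * g⁻¹ := ⟨_, rfl⟩
    rw [← hk] at h2
    have h3 : ∀ ε : Gam, f (ε * (τ * σ) * ε⁻¹) ∈ H6.cl (f τ) := fun ε =>
      (hcl _).mpr ⟨k⁻¹ * (f ε)⁻¹, by rw [← h2, map_mul, map_mul, map_inv]; group⟩
    have h4 : f '' (Finset.univ.filter fun γ : Gam => γ = τ ∨ ∃ δ, δ * (τ * σ) * δ⁻¹ = γ : Finset Gam) =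
        H6.cl (f τ) := by
      refine Set.eq_of_subset_of_ncard_le ?_ ?_
      · rintro _ ⟨ε, hε, rfl⟩
        rcases (Finset.mem_filter.mp hε).2 with rfl | ⟨δ, rfl⟩
        exacts [H6.self_mem_cl _, h3 δ]
      · rw [Set.ncard_image_of_injective _ h.inj, Set.ncard_coe_finset, F9]; omega
    obtain ⟨ε, hε⟩ := F14.2.2.2
    obtain ⟨b, hb⟩ := (hcl _).mp (h3 ε)
    obtain ⟨η, -, hη⟩ := h4.ge ((hcl (k⁻¹ * f (ε * (τ * σ) * ε⁻¹) * k)).mpr
      ⟨b * k, by rw [hb]; group⟩)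
    have h5 := conj_comm (g := k⁻¹) (comm (f := f) η)
    rw [hη, ← h2] at h5
    refine hε (h.inj ?_)
    rw [map_mul, map_mul f (τ * σ)]
    convert h5 using 1 <;> group
  obtain ⟨V, hV⟩ : ∃ V : Subgroup G, V = (centralizer ({ζ0} : Set (Perm (Fin 4))) ⊓
    centralizer {ζ1}).map (f.comp (MonoidHom.inr _ _)) := ⟨_, rfl⟩
  have hVm : ∀ v, v ∈ V ↔ ∃ π, (π * ζ0 = ζ0 * π ∧ π * ζ1 = ζ1 * π) ∧ f (1, π) = v := fun v => by
    simp [hV, mem_centralizer_singleton_iff]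
  have hV4 : Nat.card V = 4 := by
    rw [hV, card_map_of_injective (f := f.comp (MonoidHom.inr _ _))
      (fun a b hab => congrArg Prod.snd (h.inj hab))]
    exact (Nat.card_congr (Equiv.subtypeEquivRight fun π => by
      simp [mem_centralizer_singleton_iff])).trans (Nat.card_eq_fintype_card.trans F14.1)
  have hS : ∀ γ : Gam, ∀ x ∈ H6.cl (f τ) \ {f τ}, f γ * x * (f γ)⁻¹ ∈ H6.cl (f τ) \ {f τ} := by
    rintro γ x ⟨hx, hxt⟩
    obtain ⟨g, rfl⟩ := (hcl x).mp hx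
    refine ⟨(hcl _).mpr ⟨g * (f γ)⁻¹, by group⟩, fun h1 => hxt ?_⟩
    calc _ = (f γ)⁻¹ * (f γ * (g⁻¹ * f τ * g) * (f γ)⁻¹) * f γ := by group
      _ = (f γ)⁻¹ * (f τ * f γ) := by rw [h1]; group
      _ = _ := by rw [← comm]; group
  have hfree : ∀ v ∈ V, ∀ x ∈ H6.cl (f τ) \ {f τ}, v * x = x * v → v = 1 := by
    intro v hv x hx hc
    obtain ⟨π, hπ, rfl⟩ := (hVm v).mp hv
    rcases F14.2.1 π hπ.1 hπ.2 with rfl | ⟨-, ρ, hρ⟩
    · exact map_one f
    have h1 := hS (1, ρ) x hx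
    refine absurd (hB _ h1.1 (h.cz _ ?_)) h1.2
    have h2 : f ζ = f (1, ρ) * f (1, π) * (f (1, ρ))⁻¹ := by
      rw [← map_inv, ← map_mul, ← map_mul, ζ, ← hρ]; simp
    rw [h2]
    calc _ = f (1, ρ) * (x * f (1, π)) * (f (1, ρ))⁻¹ := by group
      _ = _ := by rw [← hc]; group
  have h4 := card_dvd_ncard_of_conj_free V _ (fun v hv x hx => by
    obtain ⟨π, -, rfl⟩ := (hVm v).mp hv; exact hS _ x hx) hfree
  have h5 := Set.ncard_sdiff_singleton_add_one (H6.self_mem_cl (f τ))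
  by_contra hne
  rw [hV4] at h4
  have h6 : (H6.cl (f τ) \ {f τ}).ncard = 4 := by omega
  haveI := Fact.mk Nat.prime_three
  obtain ⟨y, hy, hxy⟩ := exists_conj_fixed_of_not_dvd (p := 3) (isPGroup_zpowers (a := f (1, ξ0))
    ⟨1, by rw [pow_one, ← map_pow, Prod.pow_mk, F11.1, one_pow]; exact map_one f⟩)
    (H6.cl (f τ) \ {f τ}) (by
      rintro _ ⟨k, rfl⟩ x hx
      simp only [← map_zpow]
      exact hS _ x hx) (by rw [Nat.card_coe_set_eq, h6]; omega)
  have hx := hxy _ (mem_zpowers _)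
  have h7 : (fun v => v * y * v⁻¹) '' (V : Set G) = H6.cl (f τ) \ {f τ} := by
    refine Set.eq_of_subset_of_ncard_le ?_ ?_
    · rintro _ ⟨v, hv, rfl⟩
      obtain ⟨π, -, rfl⟩ := (hVm v).mp hv; exact hS _ y hy
    · rw [Set.InjOn.ncard_image, H6.ncard_subgroup, hV4, h6]
      intro v hv v' hv' h1
      refine (inv_mul_eq_one.mp (hfree _ (mul_mem (inv_mem hv') hv) y hy ?_)).symm
      calc _ = v'⁻¹ * (v * y * v⁻¹) * v := by group
        _ = _ := by rw [show v * y * v⁻¹ = v' * y * v'⁻¹ from h1]; group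
  obtain ⟨v, hv, h8⟩ := h7.ge (hS τ y hy)
  obtain ⟨π, hπ, rfl⟩ := (hVm v).mp hv
  simp only at h8
  rcases F14.2.1 π hπ.1 hπ.2 with rfl | ⟨h9, -⟩
  · refine hy.2 (hB y hy.1 (mul_inv_eq_iff_eq_mul.mp ?_).symm)
    rw [← h8, show ((1 : Multiplicative (ZMod 2)), (1 : Perm (Fin 4))) = 1 from rfl, map_one]; group
  have h10 : f (1, ξ0 * π * ξ0⁻¹) = f (1, ξ0) * f (1, π) * (f (1, ξ0))⁻¹ := by
    rw [← map_inv, ← map_mul, ← map_mul]; simp
  have h11 := hfree _ (mul_mem (inv_mem hv) ((hVm _).mpr ⟨_, F14.2.2.1 π hπ.1 hπ.2, rfl⟩)) y hy (by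
    obtain ⟨x, hx'⟩ : ∃ x, x = f (1, ξ0) := ⟨_, rfl⟩
    have e : x * f τ = f τ * x := hx' ▸ comm _
    rw [h10, ← hx']
    rw [← hx'] at hx
    have e1 : x⁻¹ * y * x = y := by rw [mul_assoc, ← hx]; group
    have e2 : x * (f τ * y * (f τ)⁻¹) * x⁻¹ = f τ * y * (f τ)⁻¹ := by
      calc _ = (x * f τ) * y * (x * f τ)⁻¹ := by group
        _ = f τ * (x * y) * x⁻¹ * (f τ)⁻¹ := by rw [e]; group
        _ = _ := by rw [hx]; group
    rw [← h8] at e2
    calc _ = (f (1, π))⁻¹ * (x * (f (1, π) * (x⁻¹ * y * x) * (f (1, π))⁻¹) * x⁻¹) *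
          (x * f (1, π) * x⁻¹) := by group
      _ = _ := by rw [e1, e2]; group)
  rw [inv_mul_eq_one] at h11
  exact h9 (mul_inv_eq_iff_eq_mul.mp (congrArg Prod.snd (h.inj h11)).symm)

theorem main [Finite G] {K : Subgroup G} (hK : K.index = 2) (htK : f τ ∉ K) (hsK : f σ ∈ K) :
    Nat.card G = 48 ∨ Nonempty (G ≃* Perm (Fin 6)) := by
  haveI hKn : K.Normal := normal_of_index_eq_two hK
  have hs : ∀ g, g⁻¹ * f σ * g ≠ f τ := fun g hg => htK (hg ▸ hKn.conj_mem' _ hsK g)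
  have hGK := K.card_mul_index
  rw [hK] at hGK
  have hmul : ∀ a b : Perm (Fin 4), f (1, a * b) = f (1, a) * f (1, b) := fun a b => by
    rw [← map_mul]; simp
  have hS4 : ∀ π, f (1, π) ∈ K := fun π => by
    obtain ⟨ρ, rfl | rfl⟩ := F7 π
    · rw [hmul]; exact mul_self_mem_of_index_two hK _
    · rw [hmul, hmul]; exact mul_mem (mul_self_mem_of_index_two hK _) hsK
  let ψ : Perm (Fin 4) →* K := (f.comp (MonoidHom.inr _ _)).codRestrict K hS4
  have hψ : ∀ π, (ψ π : G) = f (1, π) := fun π => rfl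
  have hψi : Function.Injective ψ := fun a b hab =>
    congrArg Prod.snd (h.inj (congrArg Subtype.val hab))
  have hKt : ∀ c : K, (c : G) * f τ = f τ * c → ∃ π, ψ π = c := fun c hc => by
    obtain ⟨γ, hγ⟩ := h.cent c hc
    rcases F10.2.2.2.2.2.2.2.2 γ with h1 | h1
    · exact ⟨γ.2, Subtype.ext (by rw [hψ, ← h1, hγ])⟩
    · exact absurd ((mul_mem_cancel_left c.2).mp (by rw [← hγ, ← map_mul, h1]; exact hS4 _)) htK
  have hKz : ∀ c : K, c * ψ ζ0 = ψ ζ0 * c → ∃ π, ψ π = c ∧ π * ζ0 = ζ0 * π := fun c hc => by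
    obtain ⟨π, rfl⟩ := hKt c (h.cz c (congrArg Subtype.val hc))
    exact ⟨π, rfl, hψi (by rw [map_mul, map_mul, hc])⟩
  obtain ⟨g1, g2, g3, g4, g5, g6, g7, g8, g9, g10⟩ := F11
  have hz : orderOf (ψ ζ0) = 2 := by rw [orderOf_injective ψ hψi, orderOf_two_of g6 g9]
  have hodd : Odd (centralizer ({ψ ζ0} : Set K)).index := by
    rw [show centralizer ({ψ ζ0} : Set K) = (centralizer ({f ζ} : Set G)).subgroupOf K from
      Subgroup.ext fun c => by
        rw [mem_subgroupOf, mem_centralizer_singleton_iff, mem_centralizer_singleton_iff,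
          Subtype.ext_iff]; rfl]
    have h1 := relIndex_mul_index (inf_le_right (a := centralizer ({f ζ} : Set G)) (b := K))
    have h2 := relIndex_mul_index (inf_le_left (a := centralizer ({f ζ} : Set G)) (b := K))
    rw [inf_relIndex_right, hK] at h1
    rw [inf_relIndex_left, ← h1] at h2
    have h3 := h.odd
    rcases (Nat.dvd_prime Nat.prime_two).mp
      (hK ▸ relIndex_dvd_index_of_normal K (centralizer ({f ζ} : Set G))) with h4 | h4 <;>
      rw [h4] at h2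
    · exact absurd (h.cz _ (comm ζ).symm) fun _ => by obtain ⟨j, hj⟩ := h3; omega
    · rwa [show (centralizer ({f ζ} : Set G)).index = (centralizer ({f ζ} : Set G)).relIndex K by
        omega] at h3
  haveI := Fact.mk Nat.prime_two
  by_cases hL : ∃ L : Subgroup K, L.index = 2
  · left
    obtain ⟨L, hL⟩ := hL
    have hsq : ∀ a, ψ (a * a) ∈ L := fun a => by rw [map_mul]; exact mul_self_mem_of_index_two hL _
    obtain ⟨k1, ⟨a, ha⟩, b, hb⟩ := F13
    have hz0 : ψ ζ0 ∈ L := g4 ▸ hsq ω0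
    have hz1 : ψ ζ1 ∈ L := by
      rw [← ha, map_mul, map_mul, map_inv]; exact mul_mem (mul_mem (hsq a) hz0) (inv_mem (hsq a))
    obtain ⟨j, hj, hj'⟩ := card_of_four (G := L) (a := ⟨_, hz0⟩) (b := ⟨_, hz1⟩)
      (by rw [← orderOf_coe]; exact hz)
      (isConj_iff.mpr ⟨⟨_, hsq a⟩, Subtype.ext (by
        show ψ _ * ψ _ * (ψ _)⁻¹ = ψ _
        rw [← map_inv, ← map_mul, ← map_mul, ha])⟩)
      (isConj_iff.mpr ⟨⟨_, hsq b⟩, Subtype.ext (by
        show ψ _ * ψ _ * (ψ _)⁻¹ = ψ _ * ψ _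
        rw [← map_inv, ← map_mul, ← map_mul, hb, map_mul])⟩)
      (fun c hc => by
        obtain ⟨π, hπ, h1⟩ := hKz c (congrArg Subtype.val hc)
        rcases k1 π h1 with (rfl | rfl | rfl | rfl) | h2
        · left; exact Subtype.ext (hπ.symm.trans (map_one ψ))
        · right; left; exact Subtype.ext hπ.symm
        · right; right; left; exact Subtype.ext hπ.symm
        · right; right; right; exact Subtype.ext (hπ.symm.trans (map_mul ψ _ _))
        exfalso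
        have h3 : centralizer ({ψ ζ0} : Set K) ≤ L := fun d hd => by
          obtain ⟨ρ, rfl, -⟩ := hKz d (mem_centralizer_singleton_iff.mp hd)
          obtain ⟨a, rfl | rfl⟩ := h2 ρ
          · exact hsq a
          · rw [map_mul, hπ]; exact mul_mem (hsq a) c.2
        have h4 := hodd.of_dvd_nat (index_dvd_of_le h3)
        rw [hL] at h4; exact absurd h4 (by decide))
    have h1 := L.card_mul_index
    exact h.card_eq hs (by rw [hL] at h1; omega)
  have hL' : ∀ L : Subgroup K, L.index ≠ 2 := fun L h1 => hL ⟨L, h1⟩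
  have hD := D8C.of_hom ψ hψi (w := ω0) (s := swap 0 1)
    (orderOf_eq_prime_pow (p := 2) (n := 1) (by rw [pow_one, pow_two, g4]; exact g6) g5)
    (swap_mul_self _ _) g7 (by
      rintro ⟨k, hk⟩
      exact g8 (hk ▸ (Commute.refl ω0).zpow_left k)) hz
    (by rw [← map_mul, ← map_mul, ← g4, mul_assoc]) (fun c hc => by
      obtain ⟨π, hπ, h1⟩ := hKz c hc
      obtain ⟨k, hk | hk⟩ := F12 π h1
      · exact ⟨π, hπ, Or.inl (hk ▸ npow_mem_zpowers _ _)⟩
      · exact ⟨π, hπ, Or.inr (hk ▸ npow_mem_zpowers _ _)⟩) hodd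
  haveI := hD.simple hL'
  rcases hD.card hL' with h1 | h1
  · exact Or.inl (h.card_eq hs (by omega))
  right
  haveI := Fact.mk Nat.prime_three
  have hx : orderOf (ψ ξ0) = 3 := by rw [orderOf_injective ψ hψi, orderOf_eq_prime g1 g2]
  have hxz : (ψ ξ0 * ψ ζ0) ^ 3 = 1 := by rw [← map_mul, ← map_pow, g3, map_one]
  obtain ⟨H, hH, hxH, hzH⟩ := hD.exists_sixty hL' h1 hx hz hxz
  obtain ⟨V, hV4, -, -, -, hV⟩ := exists_four_of_rel hx hz hxz
  have hfix : ∀ π, ψ π ∈ H → ψ π ∈ H ⊓ H.map (MulAut.conjNormal (f τ)).toMonoidHom := fun π hπ =>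
    ⟨hπ, ψ π, hπ, Subtype.ext (by
      show f τ * f (1, π) * (f τ)⁻¹ = f (1, π)
      rw [← comm, mul_inv_cancel_right])⟩
  obtain ⟨k, hk⟩ := exists_conj_of_index_six (H' := H.map (MulAut.conjNormal (f τ)).toMonoidHom) h1 hH
    ((card_map_of_injective (MulAut.conjNormal (f τ)).injective).trans hH)
    (Nat.Coprime.mul_dvd_of_dvd_of_dvd (m := 3) (n := 4) (by decide)
      (hx ▸ orderOf_dvd_natCard _ (hfix _ hxH)) 
      (hV4.symm.dvd.trans (card_dvd_of_le (hV _ (hfix _ hxH) (hfix _ hzH)))))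
  obtain ⟨N, hN⟩ : ∃ N, N = normalizer ((H.map K.subtype : Subgroup G) : Set G) := ⟨_, rfl⟩
  have hgN : (k : G)⁻¹ * f τ ∈ N := hN ▸ mem_normalizer_of_conj_mem (by
    rintro _ ⟨a, ha, rfl⟩
    refine ⟨_, hk _ (mem_map_of_mem _ ha), ?_⟩
    show (k : G)⁻¹ * (f τ * a * (f τ)⁻¹) * k = (k : G)⁻¹ * f τ * a * ((k : G)⁻¹ * f τ)⁻¹
    group)
  refine nonempty_equiv_perm_six (H := N) (by omega) ?_ ?_
  · have h2 := card_inf_mul_relIndex K N
    have h3 : K.relIndex N = 2 := ((Nat.dvd_prime Nat.prime_two).mp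
      (hK ▸ relIndex_dvd_index_of_normal K N)).resolve_left fun h4 =>
        htK ((mul_mem_cancel_left (inv_mem k.2)).mp (relIndex_eq_one.mp h4 hgN))
    obtain ⟨m, hm⟩ := card_dvd_of_le (le_inf (map_subtype_le H) (hN ▸ le_normalizer) :
      H.map K.subtype ≤ K ⊓ N)
    have h4 := N.card_mul_index
    rw [card_map_of_injective K.subtype_injective, hH] at hm
    rw [← h2, hm, h3, ← hGK, h1] at h4
    exact ⟨m, by linarith⟩
  rcases ((normalCore_normal N).subgroupOf K).eq_bot_or_eq_top with h2 | h2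
  · rw [eq_bot_iff]
    intro c hc
    have h3 : ∀ a : K, a * c = c * a := fun a => by
      have h4 : (⟨a * (c * (a : G)⁻¹ * c⁻¹), mul_mem a.2 (hKn.conj_mem _ (inv_mem a.2) c)⟩ : K) ∈
          N.normalCore.subgroupOf K := by
        rw [mem_subgroupOf]
        show a * (c * (a : G)⁻¹ * c⁻¹) ∈ N.normalCore
        rw [← mul_assoc, ← mul_assoc]
        exact mul_mem ((normalCore_normal N).conj_mem c hc a) (inv_mem hc)
      rw [h2, mem_bot] at h4
      have h5 : (a : G) * (c * (a : G)⁻¹ * c⁻¹) = 1 := congrArg Subtype.val h4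
      calc (a : G) * c = a * (c * (a : G)⁻¹ * c⁻¹) * (c * a) := by group
        _ = _ := by rw [h5, one_mul]
    obtain ⟨γ, rfl⟩ := h.cent c (h.cz c (h3 (ψ ζ0)).symm)
    rcases F4 γ (fun π => h.inj (by rw [map_mul, map_mul]; exact h3 (ψ π))) with rfl | rfl
    · exact map_one f
    · have h4 := card_le_of_le (show K ≤ centralizer ({f τ} : Set G) from fun a ha =>
        mem_centralizer_singleton_iff.mpr (h3 ⟨a, ha⟩))
      rw [h.card_cent] at h4; omega
  · have h3 : H.Normal := ⟨fun a ha b => by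
      have h4 : (b : G) ∈ N := normalCore_le N (mem_subgroupOf.mp (h2 ▸ mem_top b))
      obtain ⟨d, hd, h5⟩ := conj_mem_of_mem_normalizer (hN ▸ h4) (mem_map_of_mem K.subtype ha)
      exact (show d = b * a * b⁻¹ from Subtype.ext h5) ▸ hd⟩
    rcases h3.eq_bot_or_eq_top with h4 | h4 <;> rw [h4] at hH
    · rw [card_bot] at hH; omega
    · rw [card_top] at hH; omega

theorem main' [Finite G] : Nat.card G = 48 ∨ Nonempty (G ≃* Perm (Fin 6)) := by
  obtain ⟨-, h2, -, h4⟩ := F8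
  obtain ⟨K, hK, htK⟩ : ∃ K : Subgroup G, K.index = 2 ∧ f τ ∉ K := by
    by_cases hs : ∀ g, g⁻¹ * f σ * g ≠ f τ
    · exact h.exists_index_two hs
    · simp only [not_forall, not_not] at hs
      obtain ⟨g, hg⟩ := hs
      simpa only [MonoidHom.comp_apply, h2] using h.twist.exists_index_two fun k hk =>
        h.not_both hg (k := k) (by simpa only [MonoidHom.comp_apply, h2, h4] using hk)
  by_cases hs : f σ ∈ K
  · exact h.main hK htK hs
  · refine h.twist.main hK (by simpa only [MonoidHom.comp_apply, h2] using htK) ?_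
    rw [MonoidHom.comp_apply, h4, map_mul, mul_mem_iff_of_index_two hK]
    simp [hs, htK]

end Hyp

/-- Let G be a finite group of even order such that (1) some involution t lying in the centre of a Sylow 2-subgroup of G has C_G(t) ≅ Z₂ × S₄, and (2) every Sylow 2-subgroup S of G satisfies C_G(S′) = S, where S′ is the derived subgroup of S. Then G = C_G(t) if G is solvable, and G ≅ S₆ otherwise. -/
theorem result {G : Type*} [Group G] [Finite G] (hev : Even (Nat.card G))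
    (t : G) (ht : orderOf t = 2) (T : Sylow 2 G) (htT : t ∈ (T : Subgroup G)) (htc : ∀ s ∈ (T : Subgroup G), s * t = t * s)
    (e : ↥(Subgroup.centralizer ({t} : Set G)) ≃* (Multiplicative (ZMod 2) × Equiv.Perm (Fin 4)))
    (h2 : ∀ S : Sylow 2 G, Subgroup.centralizer ((⁅(S : Subgroup G), (S : Subgroup G)⁆ : Subgroup G) : Set G) = (S : Subgroup G)) :
    (Group.IsSolvable G → Subgroup.centralizer ({t} : Set G) = ⊤) ∧
      (¬ Group.IsSolvable G → Nonempty (G ≃* Equiv.Perm (Fin 6))) := by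
  haveI := Fact.mk Nat.prime_two
  let f : Gam →* G := (centralizer ({t} : Set G)).subtype.comp e.symm.toMonoidHom
  have hf : Function.Injective f := Subtype.val_injective.comp e.symm.injective
  have hr : ∀ c, c * t = t * c → ∃ γ, f γ = c := fun c hc =>
    ⟨e ⟨c, mem_centralizer_singleton_iff.mpr hc⟩, by simp [f]⟩
  have hc : ∀ γ, f γ * t = t * f γ := fun γ => mem_centralizer_singleton_iff.mp (e.symm γ).2
  have hft : f τ = t := by
    obtain ⟨γ, hγ⟩ := hr t rfl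
    rcases F4 γ (fun π => hf (by rw [map_mul, map_mul, hγ, hc])) with h1 | h1
    · exact absurd (by rw [← hγ, h1, map_one]) (ne_one_of_orderOf_two ht)
    · rw [← h1, hγ]
  have h48 : Nat.card (centralizer ({t} : Set G)) = 48 := by
    rw [Nat.card_congr e.toEquiv, Nat.card_eq_fintype_card]; decide +kernel
  have h16 : Nat.card ((centralizer ({ζ} : Set Gam)).map f) = 2 ^ 4 := by
    rw [card_map_of_injective hf, show 2 ^ 4 = 16 from rfl, ← F5, ← Nat.card_eq_fintype_card]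
    exact Nat.card_congr (Equiv.subtypeEquivRight fun γ => mem_centralizer_singleton_iff)
  obtain ⟨S, hS⟩ := (IsPGroup.of_card h16).exists_le_sylow
  have hS' : (centralizer ({ζ} : Set Gam)).map f = S := by
    refine eq_of_le_of_card_ge hS ?_
    obtain ⟨n, hn⟩ := T.isPGroup'.exists_card_eq
    have h1 := card_dvd_of_le (show (T : Subgroup G) ≤ centralizer ({t} : Set G) from fun s hs =>
      mem_centralizer_singleton_iff.mpr (htc s hs))
    rw [h16, H6.sylow_card_eq S T, hn]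
    rw [hn, h48] at h1
    refine Nat.pow_le_pow_right (by omega) (not_lt.mp fun h3 => ?_)
    exact absurd ((pow_dvd_pow 2 h3).trans h1) (by decide)
  have h : Hyp f := by
    refine ⟨hf, hft ▸ hr, fun c hcz => ?_, (H6.sylow_two_index_odd S).of_dvd_nat (index_dvd_of_le ?_)⟩
    · have h1 : c ∈ (S : Subgroup G) := by
        rw [← h2 S]
        refine centralizer_le (show _ ⊆ ((zpowers (f ζ) : Subgroup G) : Set G) from
          commutator_le.mpr ?_) ?_
        · rw [← hS']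
          rintro _ ⟨a, ha, rfl⟩ _ ⟨b, hb, rfl⟩
          rw [← map_commutatorElement, commutatorElement_def]
          rcases F6 a b (mem_centralizer_singleton_iff.mp ha) (mem_centralizer_singleton_iff.mp hb)
            with h3 | h3 <;> simp [h3]
        · rintro _ ⟨k, rfl⟩
          exact ((show Commute c (f ζ) from hcz).zpow_right k).symm
      obtain ⟨γ, -, rfl⟩ := hS'.ge h1
      rw [hft, hc]
    · rw [← hS']
      rintro _ ⟨γ, hγ, rfl⟩
      rw [mem_centralizer_singleton_iff, ← map_mul, mem_centralizer_singleton_iff.mp hγ, map_mul]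
  rcases h.main' with h1 | ⟨⟨e'⟩⟩
  · exact ⟨fun _ => eq_top_of_card_eq _ (h48.trans h1.symm), fun h3 => absurd
      (L0.isSolvable_of_card_eq_pow_mul_pow (a := 4) (b := 1) Nat.prime_two Nat.prime_three h1) h3⟩
  · exact ⟨fun h3 => absurd (Group.isSolvable_of_surjective (f := e'.toMonoidHom) e'.surjective)
      (Perm.not_isSolvable _ (by simp; norm_num)), fun _ => ⟨e'⟩⟩

end Cfsg.Agent.S3222
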