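import Cfsg.Statements.S3225
import Cfsg.Agent.H9.Invol
import Cfsg.Agent.H6.Transfer

set_option autoImplicit false
open Cfsg

namespace Cfsg.Agent.S3225

/-- Let G be a finite group of even order with no subgroup of index 2, S a Sylow 2-subgroup of G and M a subgroup of index 2 in S such that, for some n ≥ 1, every element of S outside M has order greater than 2^(n−1). Then every element of S of order 2ⁿ is conjugate in G to an element of M. -/
theorem result {G : Type*} [Group G] [Finite G] (hev : Even (Nat.card G))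
    (hG : ∀ H : Subgroup G, H.index ≠ 2) (S : Sylow 2 G) (M : Subgroup G) (hMS : M ≤ (S : Subgroup G)) (hM : M.relIndex (S : Subgroup G) = 2)
    (n : ℕ) (hn : 1 ≤ n) (hord : ∀ y ∈ (S : Subgroup G), y ∉ M → 2 ^ (n - 1) < orderOf y)
    (x : G) (hx : x ∈ (S : Subgroup G)) (hxn : orderOf x = 2 ^ n) :
    ∃ g : G, g * x * g⁻¹ ∈ M := by
  by_contra hcon
  push Not at hcon
  obtain ⟨K, hK, -⟩ := Cfsg.Agent.H6.exists_index_two_of_not_conj (H := (S : Subgroup G)) (M := M)
    (Cfsg.Agent.H6.sylow_two_index_odd S) hM (x := x) ⟨n, by rw [← hxn, pow_orderOf_eq_one]⟩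
    (fun g => by simpa using hcon g⁻¹) (by
      intro k g hk hmem
      by_contra hnot
      have h1 := hord _ hmem hnot
      have h2 : (g⁻¹ * x ^ 2 ^ k * g) ^ 2 ^ (n - 1) = 1 := by
        have : (g⁻¹ * x ^ 2 ^ k * g) ^ 2 ^ (n - 1) = g⁻¹ * (x ^ 2 ^ k) ^ 2 ^ (n - 1) * g := by
          simpa using conj_pow (a := g⁻¹) (b := x ^ 2 ^ k) (i := 2 ^ (n - 1))
        rw [this, ← pow_mul, ← pow_add]
        have h3 : x ^ 2 ^ (k + (n - 1)) = 1 := by
          rw [← orderOf_dvd_iff_pow_eq_one, hxn]
          exact pow_dvd_pow 2 (by omega)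
        rw [h3]; simp
      have h4 := Nat.le_of_dvd (by positivity) (orderOf_dvd_of_pow_eq_one h2)
      omega)
  exact hG K hK

end Cfsg.Agent.S3225
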