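import Cfsg.Statements.S3309
import Cfsg.Agent.H9.Fusion

set_option autoImplicit false
open Cfsg

namespace Cfsg.Agent.S3309

open Subgroup Cfsg.Agent.H9 DihedralGroup

abbrev T := Multiplicative (ZMod 2) × DihedralGroup 4

def c : T := (Multiplicative.ofAdd 1, 1)
def z : T := (1, r 2)
def s : T := (1, sr 0)
def t : T := (1, sr 1)
def ρ : T := (1, r 1)

def M0 : Subgroup T where
  carrier := {x | x.1 = 1}
  mul_mem' := by simp only [Set.mem_setOf_eq]; decide
  one_mem' := rfl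
  inv_mem' := by simp only [Set.mem_setOf_eq]; decide

def M1 : Subgroup T where
  carrier := {x | x.1 = 1 ↔ ∃ i, x.2 = r i}
  mul_mem' := by simp only [Set.mem_setOf_eq]; decide
  one_mem' := by simp only [Set.mem_setOf_eq]; decide
  inv_mem' := by simp only [Set.mem_setOf_eq]; decide

theorem mem_M0 (x : T) : x ∈ M0 ↔ x.1 = 1 := Iff.rfl
theorem mem_M1 (x : T) : x ∈ M1 ↔ (x.1 = 1 ↔ ∃ i, x.2 = r i) := Iff.rfl

theorem idx0 : M0.relIndex ⊤ = 2 :=
  relIndex_eq_two_of (b := c) (mem_top _) (by rw [mem_M0]; decide)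
    (by simp only [mem_M0, mem_top, true_imp_iff]; decide)

theorem idx1 : M1.relIndex ⊤ = 2 :=
  relIndex_eq_two_of (b := c) (mem_top _) (by rw [mem_M1]; decide)
    (by simp only [mem_M1, mem_top, true_imp_iff]; decide)

theorem inv0 : ∀ x : T, x.1 = 1 → x * x = 1 → x = 1 ∨ x = z ∨ (∃ g, g * s * g⁻¹ = x) ∨
    (∃ g, g * t * g⁻¹ = x) := by decide

theorem inv1 : ∀ x : T, (x.1 = 1 ↔ ∃ i, x.2 = r i) → x * x = 1 → x = 1 ∨ x = z ∨
    (∃ g, g * (c * s) * g⁻¹ = x) ∨ (∃ g, g * (c * t) * g⁻¹ = x) := by decide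

theorem invall : ∀ x : T, x * x = 1 → x = 1 ∨ x = z ∨ x = c ∨ x = c * z ∨ (∃ g, g * s * g⁻¹ = x) ∨
    (∃ g, g * t * g⁻¹ = x) ∨ (∃ g, g * (c * s) * g⁻¹ = x) ∨ (∃ g, g * (c * t) * g⁻¹ = x) := by
  decide

theorem sq_eq : ∀ x : T, x * x = 1 ∨ x * x = z := by decide
theorem c_comm : ∀ x : T, x * c = c * x := by decide
theorem z_comm : ∀ x : T, x * z = z * x := by decide
theorem cz_comm : ∀ x : T, x * (c * z) = (c * z) * x := by decide

/-- A finite group whose Sylow 2-subgroups are isomorphic to the direct product of a group of order 2 and the dihedral group of order 8 is not a non-abelian simple group. -/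
theorem result {G : Type*} [Group G] [Finite G] (S : Sylow 2 G) (hS : Nonempty (↥(S : Subgroup G) ≃* Multiplicative (ZMod 2) × DihedralGroup 4))
    [IsSimpleGroup G] (hG : ¬ IsMulCommutative G) : False := by
  obtain ⟨φ⟩ := hS
  let ψ : T →* G := (S : Subgroup G).subtype.comp φ.symm.toMonoidHom
  have hinj : Function.Injective ψ := (S : Subgroup G).subtype_injective.comp φ.symm.injective
  have hψS : ∀ x, ψ x ∈ (S : Subgroup G) := fun x => (φ.symm x).2
  have hsurj : ∀ y ∈ (S : Subgroup G), ∃ x, ψ x = y := fun y hy => ⟨φ ⟨y, hy⟩, by simp [ψ]⟩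
  have htop : (⊤ : Subgroup T).map ψ = S := by
    ext y; constructor
    · rintro ⟨x, -, rfl⟩; exact hψS x
    · intro hy; obtain ⟨x, hx⟩ := hsurj y hy; exact ⟨x, mem_top _, hx⟩
  have hidx := Cfsg.Agent.H6.index_ne_two_of_perfect (Cfsg.Agent.H6.perfect_of_simple hG)
  have hcen : ∀ x : T, (∀ y, y * x = x * y) → ∀ y ∈ (S : Subgroup G), y * ψ x = ψ x * y := by
    intro x hx y hy
    obtain ⟨y, rfl⟩ := hsurj y hy
    rw [← map_mul, ← map_mul, hx]
  have hcj : ∀ x g : T, IsConj (ψ x) (ψ (g * x * g⁻¹)) := fun x g =>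
    isConj_iff.mpr ⟨ψ g, by simp⟩
  have hone : ∀ x : T, IsConj (ψ x) (ψ 1) → x = 1 := by
    intro x hx
    rw [map_one, isConj_one_left] at hx
    exact hinj (by rw [hx, map_one])
  have hsq : ∀ x y : T, IsConj (ψ x) (ψ y) → x * x = 1 → y * y = 1 := by
    intro x y h hx
    obtain ⟨g, hg⟩ := isConj_iff.mp h
    apply hinj
    rw [map_mul, ← hg, map_one]
    calc g * ψ x * g⁻¹ * (g * ψ x * g⁻¹) = g * ψ (x * x) * g⁻¹ := by rw [map_mul]; group
      _ = 1 := by rw [hx, map_one]; group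
  have hnz : ∀ n ∈ normalizer ((S : Subgroup G) : Set G), n * ψ z * n⁻¹ = ψ z := by
    intro n hn
    obtain ⟨y, hy⟩ := hsurj _ (conj_mem_of_mem_normalizer hn (hψS ρ))
    have h1 : n * ψ z * n⁻¹ = ψ (y * y) := by
      rw [map_mul, hy, show z = ρ * ρ by decide, map_mul]; group
    rcases sq_eq y with h | h
    · rw [h] at h1
      exact absurd (hone z (isConj_iff.mpr ⟨n, h1⟩)) (by decide)
    · rw [h1, h]
  have hzc : ∀ x : T, (∀ y, y * x = x * y) → IsConj (ψ z) (ψ x) → x = z := by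
    intro x hx h
    obtain ⟨g, hg⟩ := isConj_iff.mp h
    obtain ⟨n, hn, hn2⟩ := Cfsg.Agent.H6.burnside_fusion S (x := ψ z) (g := g) (hcen z z_comm)
      (by rw [hg]; exact hcen x hx)
    rw [hnz n hn, hg] at hn2
    exact (hinj hn2).symm
  have hzc1 : ¬ IsConj (ψ z) (ψ c) := fun h => absurd (hzc c c_comm h) (by decide)
  have hzc2 : ¬ IsConj (ψ z) (ψ (c * z)) := fun h => absurd (hzc _ cz_comm h) (by decide)
  have hcc : ¬ IsConj (ψ c) (ψ (c * z)) := by
    intro h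
    obtain ⟨g, hg⟩ := isConj_iff.mp h
    obtain ⟨n, hn, hn2⟩ := Cfsg.Agent.H6.burnside_fusion S (x := ψ c) (g := g) (hcen c c_comm)
      (by rw [hg]; exact hcen _ cz_comm)
    rw [hg] at hn2
    have h1 := hnz n hn
    have h2 : Commute (n ^ 2) (ψ c) := by
      have : n ^ 2 * ψ c * (n ^ 2)⁻¹ = ψ c := by
        calc n ^ 2 * ψ c * (n ^ 2)⁻¹ = n * (n * ψ c * n⁻¹) * n⁻¹ := by rw [pow_two]; group
          _ = (n * ψ c * n⁻¹) * (n * ψ z * n⁻¹) := by
            rw [show n * (n * ψ c * n⁻¹) * n⁻¹ = n * (ψ c * ψ z) * n⁻¹ by rw [hn2, map_mul]]; group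
          _ = ψ c := by rw [hn2, h1, ← map_mul]; congr 1
      exact mul_inv_eq_iff_eq_mul.mp this
    have h3 := commute_of_sq_of_mem_normalizer_sylow S hn (hcen c c_comm) h2
    rw [h3.eq, mul_inv_cancel_right] at hn2
    exact absurd (hinj hn2) (by decide)
  have th0 : ∀ x : T, x * x = 1 → x ≠ 1 → ¬ IsConj (ψ z) (ψ x) →
      IsConj (ψ x) (ψ s) ∨ IsConj (ψ x) (ψ t) := by
    intro x hx hx1 hxz
    obtain ⟨y, hy, h⟩ := Cfsg.Agent.H6.thompson_transfer_sylow hidx S (M := M0.map ψ)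
      (by rw [← htop, relIndex_map_map_of_injective _ _ hinj, idx0]) (t := ψ x)
      (by rw [pow_two, ← map_mul, hx, map_one])
    obtain ⟨y, hy, rfl⟩ := hy
    rcases inv0 y hy (hsq _ _ h hx) with rfl | rfl | ⟨g, rfl⟩ | ⟨g, rfl⟩
    · exact absurd (hone x h) hx1
    · exact absurd h.symm hxz
    · exact Or.inl (h.trans (hcj _ g).symm)
    · exact Or.inr (h.trans (hcj _ g).symm)
  have th1 : ∀ x : T, x * x = 1 → x ≠ 1 → ¬ IsConj (ψ z) (ψ x) →
      IsConj (ψ x) (ψ (c * s)) ∨ IsConj (ψ x) (ψ (c * t)) := by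
    intro x hx hx1 hxz
    obtain ⟨y, hy, h⟩ := Cfsg.Agent.H6.thompson_transfer_sylow hidx S (M := M1.map ψ)
      (by rw [← htop, relIndex_map_map_of_injective _ _ hinj, idx1]) (t := ψ x)
      (by rw [pow_two, ← map_mul, hx, map_one])
    obtain ⟨y, hy, rfl⟩ := hy
    rcases inv1 y hy (hsq _ _ h hx) with rfl | rfl | ⟨g, rfl⟩ | ⟨g, rfl⟩
    · exact absurd (hone x h) hx1
    · exact absurd h.symm hxz
    · exact Or.inl (h.trans (hcj _ g).symm)
    · exact Or.inr (h.trans (hcj _ g).symm)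
  have a0 := th0 c (by decide) (by decide) hzc1
  have a1 := th0 (c * z) (by decide) (by decide) hzc2
  have b0 := th1 c (by decide) (by decide) hzc1
  have b1 := th1 (c * z) (by decide) (by decide) hzc2
  have key : ∀ x y : T, (IsConj (ψ c) (ψ x) ∨ IsConj (ψ c) (ψ y)) →
      (IsConj (ψ (c * z)) (ψ x) ∨ IsConj (ψ (c * z)) (ψ y)) →
      (IsConj (ψ c) (ψ x) ∨ IsConj (ψ (c * z)) (ψ x)) ∧
        (IsConj (ψ c) (ψ y) ∨ IsConj (ψ (c * z)) (ψ y)) := by
    intro x y h1 h2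
    rcases h1 with h1 | h1 <;> rcases h2 with h2 | h2
    · exact absurd (h1.trans h2.symm) hcc
    · exact ⟨Or.inl h1, Or.inr h2⟩
    · exact ⟨Or.inr h2, Or.inl h1⟩
    · exact absurd (h1.trans h2.symm) hcc
  obtain ⟨k1, k2⟩ := key _ _ a0 a1
  obtain ⟨k3, k4⟩ := key _ _ b0 b1
  have hno : ∀ x : T, (IsConj (ψ c) (ψ x) ∨ IsConj (ψ (c * z)) (ψ x)) → ∀ g,
      ¬ IsConj (ψ z) (ψ (g * x * g⁻¹)) := by
    intro x hx g h
    rcases hx with hx | hx
    · exact hzc1 ((h.trans (hcj x g).symm).trans hx.symm)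
    · exact hzc2 ((h.trans (hcj x g).symm).trans hx.symm)
  have hwc : ∀ x : T, IsConj (ψ z) (ψ x) → x = z := by
    intro x h
    rcases invall x (hsq _ _ h (by decide)) with rfl | rfl | rfl | rfl | ⟨g, rfl⟩ | ⟨g, rfl⟩ |
      ⟨g, rfl⟩ | ⟨g, rfl⟩
    · exact absurd (hone z h) (by decide)
    · rfl
    · exact absurd h hzc1
    · exact absurd h hzc2
    · exact absurd h (hno _ k1 g)
    · exact absurd h (hno _ k2 g)
    · exact absurd h (hno _ k3 g)
    · exact absurd h (hno _ k4 g)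
  have fin : ∀ d : T, (∀ y, y * d = d * y) → IsConj (ψ d) (ψ s) → IsConj (ψ d) (ψ (d * z)) := by
    intro d hd h
    obtain ⟨g, hg⟩ := isConj_iff.mp h
    obtain ⟨u, hu1, hu2⟩ := exists_extremal_conj S (hcen d hd) (b := ψ s) (g := g)
      (by rw [← hg]; group) (R := zpowers (ψ z))
      (isPGroup_zpowers ⟨1, by rw [pow_one, pow_two, ← map_mul, show z * z = 1 by decide, map_one]⟩)
      (by
        intro r hr
        obtain ⟨i, rfl⟩ := mem_zpowers_iff.mp hr
        exact (Commute.zpow_left (hcen z z_comm _ (hψS s)).symm i).eq)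
    obtain ⟨y, hy⟩ := hsurj _ (hu2 _ (mem_zpowers _))
    have h1 : y = z := hwc y (isConj_iff.mpr ⟨u⁻¹, by rw [hy, inv_inv]⟩)
    rw [h1] at hy
    have h2 : IsConj (ψ (s * z)) (ψ (d * z)) :=
      isConj_iff.mpr ⟨u⁻¹, by
        rw [map_mul, map_mul, ← hu1, inv_inv]
        conv_rhs => rw [hy]
        group⟩
    have h3 := hcj s ρ
    rw [show ρ * s * ρ⁻¹ = s * z by decide] at h3
    exact (h.trans h3).trans h2
  rcases k1 with k | k
  · exact hcc (fin c c_comm k)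
  · have := fin _ cz_comm k
    rw [show c * z * z = c by decide] at this
    exact hcc this.symm

end Cfsg.Agent.S3309
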