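import Cfsg.Statements.S3236
import Cfsg.Agent.WA.ITQ

set_option autoImplicit false
open Cfsg

namespace Cfsg.Agent.S3236

open Cfsg.Agent.WA Cfsg.Agent.WA.TQ Cfsg.Agent.FT Cfsg.Agent.L0 Cfsg.Agent.H8 in
theorem simple {K : Type*} [Group K] [Finite K] [IsSimpleGroup K] (h : Hyp K) (hK : ¬ IsMulCommutative K) :
    TQ.Con K := by
  by_cases hn : ∀ M : Subgroup K, ¬ Loc M
  · exact h.clo_con hK hn
  by_cases hb : ∀ M : Subgroup K, Loc M → ¬ TA M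
  swap
  · push Not at hb
    obtain ⟨M, hM, ha⟩ := hb
    exact h.ta_con hK hM ha
  by_cases hs : ∀ M S : Subgroup K, Loc M → IsSylowIn 2 S M → IsSylowIn 2 S ⊤
  swap
  · push Not at hs
    obtain ⟨M, S, hM, hS, hS'⟩ := hs
    obtain ⟨-, A, p⟩ := hM.pair_of_not_sylow (hb M hM) hS hS'
    exact h.four_con hK hb (p.small h hK hb hS') p.sqB p.centV
  push Not at hn
  obtain ⟨M, hM⟩ := hn
  by_cases hc : GS.SC (vv M) ⊤
  · exact h.sc_con hK hc hM.vv_ne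
  obtain ⟨S, A, V, p⟩ := h.exists_pr hb hs hM hc
  rcases p.con h hK (hs _ S p.locV p.sylV) with h1 | h4
  · exact h1
  · exact h.four_con hK hb h4 p.sqB p.centV

/-- Let G be a nontrivial finite group with O(G) = 1 and O₂(G) = 1 in which every maximal 2-local subgroup M that is not 2-closed (i.e. whose Sylow 2-subgroups are not normal) satisfies: C_M(O₂(M)) ≤ O₂(M); any two distinct Sylow 2-subgroups of M/O₂(M) intersect trivially; and every involution of O₂(M) lies in the centre of some Sylow 2-subgroup of M. Then G has a normal subgroup K with C_G(K) = 1 isomorphic to one of: L₂(q) with q = 2ⁿ ± 1 > 5, L₃(3), M₁₁; L₂(2ⁿ), Sz(2ⁿ), U₃(2ⁿ) with n ≥ 2; L₃(2ⁿ), PSp₄(2ⁿ) with n ≥ 2. -/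
theorem result {G : Type*} [Group G] [Finite G] [Nontrivial G]
    (hO : Cfsg.oddCore G = ⊥) (hO2 : Cfsg.pCore 2 G = ⊥)
    (hA : ∀ M : Subgroup G, Cfsg.IsMaximalTwoLocal M → (∀ P : Sylow 2 ↥M, ¬ (P : Subgroup ↥M).Normal) →
      Subgroup.centralizer ((Cfsg.pCore 2 ↥M) : Set ↥M) ≤ Cfsg.pCore 2 ↥M ∧
      (∀ P Q : Sylow 2 (↥M ⧸ Cfsg.pCore 2 ↥M), P ≠ Q → (P : Subgroup (↥M ⧸ Cfsg.pCore 2 ↥M)) ⊓ Q = ⊥) ∧
      (∀ x ∈ Cfsg.pCore 2 ↥M, orderOf x = 2 → ∃ P : Sylow 2 ↥M, x ∈ (P : Subgroup ↥M) ∧ ∀ y ∈ (P : Subgroup ↥M), y * x = x * y)) :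
    ∃ K : Subgroup G, K.Normal ∧ Subgroup.centralizer (K : Set G) = ⊥ ∧
      ((∃ (F : Type) (_ : Field F) (_ : Fintype F) (n : ℕ), 5 < Fintype.card F ∧ (Fintype.card F = 2 ^ n + 1 ∨ Fintype.card F + 1 = 2 ^ n) ∧
          Nonempty (↥K ≃* Matrix.ProjectiveSpecialLinearGroup (Fin 2) F)) ∨
        (∃ (F : Type) (_ : Field F) (_ : Fintype F), Fintype.card F = 3 ∧ Nonempty (↥K ≃* Matrix.ProjectiveSpecialLinearGroup (Fin 3) F)) ∨
        Cfsg.Spor.IsoM11 ↥K ∨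
        (∃ (F : Type) (_ : Field F) (_ : Fintype F) (n : ℕ), 2 ≤ n ∧ Fintype.card F = 2 ^ n ∧
          (Nonempty (↥K ≃* Matrix.ProjectiveSpecialLinearGroup (Fin 2) F) ∨ Nonempty (↥K ≃* Matrix.ProjectiveSpecialLinearGroup (Fin 3) F) ∨
            Nonempty (↥K ≃* Cfsg.PSp 2 F))) ∨
        Cfsg.Lie.IsoSuzuki ↥K ∨
        (∃ (F : Type) (_ : Field F) (_ : Fintype F) (n : ℕ), 2 ≤ n ∧ Fintype.card F = (2 ^ n) ^ 2 ∧ Nonempty (↥K ≃* Cfsg.PSU 3 F (2 ^ n)))) := by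
  have h := WA.TQ.hyp_of hA
  obtain ⟨K, hN, hC, hS, hK⟩ := h.exists_simple hO hO2
  exact ⟨K, hN, hC, simple (h.normal K) hK⟩

end Cfsg.Agent.S3236
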