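import Cfsg.Statements.S3240
import Cfsg.Agent.H3.Sz7
import Cfsg.Agent.S3214

set_option autoImplicit false
open Cfsg

namespace Cfsg.Agent.S3240

/-- Call a subgroup A of a finite group G strongly self-centralizing if C_G(a) = A for every non-identity a ∈ A. Let G be a finite non-abelian simple group with three pairwise non-conjugate strongly self-centralizing subgroups A₁, A₂, A₃ with [N_G(A₁) : A₁] = 2, [N_G(A₂) : A₂] = [N_G(A₃) : A₃] = 4, |A₁| = n₁ ≥ 5, |A₂| = n₂ > 5, |A₃| = n₃ > 5, such that |G| ≤ 3 n₁² n₂² n₃² and the Sylow r-subgroups of G are abelian for every odd prime r not dividing n₁n₂n₃. Then G is isomorphic to a Suzuki group. -/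
theorem result {G : Type*} [Group G] [Finite G] [IsSimpleGroup G] (hG : ¬ IsMulCommutative G)
    (A₁ A₂ A₃ : Subgroup G)
    (hsc : ∀ A ∈ ({A₁, A₂, A₃} : Set (Subgroup G)), ∀ a ∈ A, a ≠ 1 → Subgroup.centralizer ({a} : Set G) = A)
    (hnc : ∀ g : G, A₁.map (MulAut.conj g).toMonoidHom ≠ A₂ ∧ A₁.map (MulAut.conj g).toMonoidHom ≠ A₃ ∧ A₂.map (MulAut.conj g).toMonoidHom ≠ A₃)
    (h₁ : A₁.relIndex (Subgroup.normalizer (A₁ : Set G)) = 2) (h₂ : A₂.relIndex (Subgroup.normalizer (A₂ : Set G)) = 4)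
    (h₃ : A₃.relIndex (Subgroup.normalizer (A₃ : Set G)) = 4)
    (hn₁ : 5 ≤ Nat.card ↥A₁) (hn₂ : 5 < Nat.card ↥A₂) (hn₃ : 5 < Nat.card ↥A₃)
    (hord : Nat.card G ≤ 3 * Nat.card ↥A₁ ^ 2 * Nat.card ↥A₂ ^ 2 * Nat.card ↥A₃ ^ 2)
    (hab : ∀ r : ℕ, r.Prime → r ≠ 2 → ¬ r ∣ Nat.card ↥A₁ * Nat.card ↥A₂ * Nat.card ↥A₃ →
      ∀ P : Sylow r G, IsMulCommutative ↥(P : Subgroup G)) :
    Cfsg.Lie.IsoSuzuki G := by
  classical
  have := Fintype.ofFinite G
  have s1 : H3.Sz.SSC A₁ := hsc _ (by simp)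
  have s2 : H3.Sz.SSC A₂ := hsc _ (by simp)
  have s3 : H3.Sz.SSC A₃ := hsc _ (by simp)
  obtain ⟨k1, n1, ⟨X1⟩⟩ := s1.exc (by omega)
  obtain ⟨k2, n2, ⟨X2⟩⟩ := s2.exc (by omega)
  obtain ⟨k3, n3, ⟨X3⟩⟩ := s3.exc (by omega)
  rw [h₁] at n1 X1
  rw [h₂] at n2 X2
  rw [h₃] at n3 X3
  have d12 := s1.disj s2 fun g => (hnc g).1
  have d13 := s1.disj s3 fun g => (hnc g).2.1
  have d23 := s2.disj s3 fun g => (hnc g).2.2
  have hp : commutator G = ⊤ := by
    refine (Subgroup.Normal.eq_bot_or_eq_top inferInstance).resolve_left fun h => hG ⟨⟨fun a b => ?_⟩⟩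
    rw [← commutatorElement_eq_one_iff_mul_comm, ← Subgroup.mem_bot, ← h]
    exact Subgroup.commutator_mem_commutator (Subgroup.mem_top a) (Subgroup.mem_top b)
  have o1 : Odd (Nat.card A₁) := ⟨k1, n1.symm⟩
  have o2 : Odd (Nat.card A₂) := ⟨2 * k2, by omega⟩
  have o3 : Odd (Nat.card A₃) := ⟨2 * k3, by omega⟩
  have sm : ¬ Nat.card G ∣ 181440 := fun h => H3.Sz.small o1 o2 o3 hn₁ (by omega) (by omega)
    (s1.coprime s2 d12) (s1.coprime s3 d13) (s2.coprime s3 d23)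
    (A₁.card_subgroup_dvd_card.trans h) (A₂.card_subgroup_dvd_card.trans h)
    (A₃.card_subgroup_dvd_card.trans h)
  rcases S3214.result hG (fun t ht => by
    have hP := H3.Sz.cit hp s1 s2 s3 h₁ h₂ h₃ n1 n2 n3 (by omega) (by omega) (by omega) X1 X2 X3
      d12 d13 d23 hord ht
    obtain ⟨P, hP'⟩ := (hP.to_subgroup ⊤).exists_le_sylow
    exact ⟨P, ⊥, inferInstance, by rw [top_le_iff.1 hP']; exact Subgroup.isComplement'_bot_top⟩) with
    ⟨F, _, _, -, ⟨e⟩⟩ | h | ⟨⟨e⟩⟩ | ⟨F, _, _, hF, ⟨e⟩⟩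
  · have a2 := H3.Sz.not_psl2 e s2 o2 (by omega) (by rw [h₂])
    have a3 := H3.Sz.not_psl2 e s3 o3 (by omega) (by rw [h₃])
    obtain ⟨u, v, h⟩ := (Nat.isCoprime_iff_coprime.2 (s2.coprime s3 d23)).map (Int.castRingHom F)
    simp only [eq_intCast, Int.cast_natCast, a2, a3, mul_zero, add_zero, zero_ne_one] at h
  · exact h
  · refine absurd ?_ sm
    have := two_mul_nat_card_alternatingGroup (α := Fin 7)
    rw [Nat.card_perm, Nat.card_eq_fintype_card (α := Fin 7), Fintype.card_fin] at this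
    rw [Nat.card_congr e.toEquiv, show Nat.card (alternatingGroup (Fin 7)) = 2520 by
      rw [show Nat.factorial 7 = 5040 from rfl] at this; omega]
    norm_num
  · exact absurd (Nat.card_congr e.toEquiv ▸ H3.Sz.card_psl3 hF) sm

end Cfsg.Agent.S3240
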