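import Cfsg.Statements.S3324
import Cfsg.Agent.H5.HS8

set_option autoImplicit false
open Cfsg

namespace Cfsg.Agent.S3324

open Subgroup Cfsg.Agent.H5 Cfsg.Agent.H5.HS Cfsg.Agent.H8

theorem cent_conj {G : Type*} [Group G] [Finite G] {F : Type*} [Field F] {ι : HS F →* G} (S : Setup ι) (p : ℕ)
    [Fact p.Prime] [CharP F p] (U : Sylow p G) {u : G} (h1 : orderOf u = p) (hu : u ∈ (U : Subgroup G))
    (hc : ∀ y ∈ (U : Subgroup G), y * u = u * y) : ∃ g z, z ≠ 0 ∧ g⁻¹ * u * g = ι (pe 0 0 0 z) := by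
  obtain ⟨k, -, hk⟩ := (S.sylowP p).exists_cj_eq (isSylowIn_top U)
  rw [← hk] at hu hc
  obtain ⟨x, -, hx⟩ := mem_cj.1 hu
  have c : ∀ u v, x * pe 0 u v 0 = pe 0 u v 0 * x := fun a b => S.inj (by
    have := hc (k * ι (pe 0 a b 0) * k⁻¹) (mem_cj.2 (by simpa [mul_assoc] using pe_mem_P 0 a b 0))
    rw [map_mul, map_mul, hx]
    calc _ = k⁻¹ * (u * (k * ι (pe 0 a b 0) * k⁻¹)) * k := by group
      _ = _ := by rw [← this]; group)
  have e := eq_pe_of_comm S.two (c 1 0) (c 0 1)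
  refine ⟨k, x.z, fun h => ?_, by rw [← hx, ← e]⟩
  rw [e, h, pe_zero, map_one] at hx
  have : u = 1 := by simpa [mul_assoc] using congrArg (fun y => k * y * k⁻¹) hx.symm
  exact (Fact.out : p.Prime).one_lt.ne' (by rw [← h1, this, orderOf_one])

/-- Let p be an odd prime and q = pⁿ with q ≡ 3 (mod 4), and let C₀ be the centralizer in PSp(4, q) of an element x of order p lying in the centre of a Sylow p-subgroup. Let G be a finite group with an element α of order p such that C_G(α) ≅ C₀, such that C_G(z) = C_G(α) for every nontrivial z in the centre of C_G(α), and in which not all elements of order p that are central in some Sylow p-subgroup are conjugate. Let P be a Sylow p-subgroup of G contained in C_G(α) (P has order q⁴) and M an elementary abelian subgroup of P of order q³. If N_G(M) does not have a normal Sylow p-subgroup, then M has a complement J in N_G(M) with J isomorphic to PGL(2, q) × C, C cyclic of order (q − 1)/2.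 -/
theorem result
    {G : Type*} [Group G] [Finite G] {F : Type*} [Field F] [Fintype F] (p n : ℕ) [Fact p.Prime] (hp : p ≠ 2)
    (hn : 1 ≤ n) (hq4 : p ^ n % 4 = 3) (hF : Fintype.card F = p ^ n)
    (x : Cfsg.PSp 2 F) (hx : orderOf x = p) (Px : Sylow p (Cfsg.PSp 2 F)) (hxP : x ∈ (Px : Subgroup (Cfsg.PSp 2 F)))
    (hxc : ∀ y ∈ (Px : Subgroup (Cfsg.PSp 2 F)), y * x = x * y)
    (α : G) (hα : orderOf α = p)
    (e : ↥(Subgroup.centralizer ({α} : Set G)) ≃* ↥(Subgroup.centralizer ({x} : Set (Cfsg.PSp 2 F))))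
    (hb : ∀ z ∈ Subgroup.centralizer ({α} : Set G), z ≠ 1 → (∀ c ∈ Subgroup.centralizer ({α} : Set G), c * z = z * c) →
      Subgroup.centralizer ({z} : Set G) = Subgroup.centralizer ({α} : Set G))
    (hc : ∃ (u v : G) (Pu Pv : Sylow p G), orderOf u = p ∧ orderOf v = p ∧
      u ∈ (Pu : Subgroup G) ∧ (∀ y ∈ (Pu : Subgroup G), y * u = u * y) ∧
      v ∈ (Pv : Subgroup G) ∧ (∀ y ∈ (Pv : Subgroup G), y * v = v * y) ∧ ∀ g : G, g * u * g⁻¹ ≠ v)
    (P : Sylow p G) (hP : (P : Subgroup G) ≤ Subgroup.centralizer ({α} : Set G))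
    (M : Subgroup G) (hMP : M ≤ P) (hMc : IsMulCommutative ↥M) (hMe : ∀ m ∈ M, m ^ p = 1) (hMcard : Nat.card ↥M = p ^ (3 * n))
    (hnc : ∃ Q R : Sylow p ↥(Subgroup.normalizer (M : Set G)), Q ≠ R) :
    ∃ J : Subgroup G, J ≤ Subgroup.normalizer (M : Set G) ∧ M ⊔ J = Subgroup.normalizer (M : Set G) ∧ M ⊓ J = ⊥ ∧
      Nonempty (↥J ≃* (Matrix.ProjGenLinGroup (Fin 2) F × Multiplicative (ZMod ((p ^ n - 1) / 2)))) := by
  haveI : CharP F p := charP_of_card_eq_prime_pow hF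
  obtain ⟨ι0, S0, h0⟩ := exists_setup hp hF Px hx hxc e fun z a b c => hb z b a c
  obtain ⟨k, -, hk⟩ := (S0.sylowP p).exists_cj_eq (isSylowIn_top P)
  have S := S0.conj k
  set ι := (MulAut.conj k).toMonoidHom.comp ι0
  have hP : (PP F).map ι = P := by rw [← hk, H8.cj, map_map]
  obtain rfl : M = (MM F).map ι := S.eq_M (hP ▸ hMP) (fun a ha b hb => congrArg Subtype.val
    (hMc.is_comm.comm ⟨a, ha⟩ ⟨b, hb⟩)) (by rw [hMcard, Nat.card_eq_fintype_card, hF, ← pow_mul, mul_comm])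
  have O : Op ι := ⟨S, fun y hy => FiniteField.isSquare_neg_one_iff.1 ⟨y, hy.symm⟩ (hF ▸ hq4), by
    by_contra! H
    obtain ⟨u, v, Pu, Pv, ou, ov, hu, cu, hv, cv, h⟩ := hc
    obtain ⟨g, z, z0, e1⟩ := cent_conj S p Pu ou hu cu
    obtain ⟨g', z', z0', e2⟩ := cent_conj S p Pv ov hv cv
    obtain ⟨a, ha⟩ := H z z0
    obtain ⟨b, hb⟩ := H z' z0'
    have := ha.symm.comp hb
    rw [R, ← e1, ← e2] at this
    exact h (g' * (b * a⁻¹) * g⁻¹) (by
      calc _ = g' * (b * a⁻¹ * (g⁻¹ * u * g) * (b * a⁻¹)⁻¹) * g'⁻¹ := by group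
        _ = _ := by rw [this]; group)⟩
  have : ∃ g ∈ normalizer ((MM F).map ι : Set G), g ∉ normalizer ((ZZ F).map ι : Set G) := by
    by_contra! H
    have := S.finite
    have key : ∀ Q : Sylow p (normalizer ((MM F).map ι : Set G)), ((PP F).map ι).subgroupOf _ = Q.1 := fun Q =>
      Q.3 (pgroup_subgroupOf (pgroup_P p) _) fun q hq => by
        obtain ⟨j, hj⟩ := Q.2 ⟨q, hq⟩
        have hj' : (q : G) ^ p ^ j = 1 := congrArg (fun y : Q.1 => ((y : normalizer ((MM F).map ι : Set G)) : G)) hj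
        obtain ⟨y, hy⟩ := S.pelt_mem p (H _ q.2) hj'
        have c := S.c_zero (hy ▸ q.2)
        exact ⟨y, mem_PP.2 ⟨a_eq_one c (S.inj (by rw [map_pow, hy, hj', map_one])), c⟩, hy⟩
    obtain ⟨Q, R, h⟩ := hnc
    exact h (Sylow.ext ((key Q).symm.trans (key R)))
  obtain ⟨g, h1, h2⟩ := this
  obtain ⟨c, w, W⟩ := O.exists_sw p h1 h2
  exact hF ▸ W.main p

end Cfsg.Agent.S3324
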