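import Cfsg.Statements.S3241
import Cfsg.Agent.H5.HS11
import Cfsg.Agent.S3324

set_option autoImplicit false
open Cfsg

namespace Cfsg.Agent.S3241

open Subgroup Cfsg.Agent.H5 Cfsg.Agent.H5.HS Cfsg.Agent.H8

/-- Let m > 1 be odd, F the field with 3^m elements, and 𝒞 the centralizer in PSp₄(3^m) = PSp₄(F) of an element of order 3 lying in the centre of a Sylow 3-subgroup. Let G be a finite group with an element α of order 3 such that C_G(α) ≅ 𝒞, such that C_G(z) = C_G(α) for every non-identity element z of the centre of C_G(α), and such that the elements of order 3 of G lying in the centre of some Sylow 3-subgroup of G are not all conjugate in G. Then C_G(α) is normal in G, or G is isomorphic to PSp₄(3^m). -/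
theorem result {G : Type*} [Group G] [Finite G]
    {F : Type*} [Field F] [Fintype F] (m : ℕ) (hm : Odd m) (hm1 : 1 < m) (hF : Fintype.card F = 3 ^ m)
    (U : Sylow 3 (Cfsg.PSp 2 F)) (x : Cfsg.PSp 2 F) (hx : orderOf x = 3) (hxU : x ∈ (U : Subgroup (Cfsg.PSp 2 F)))
    (hxc : ∀ u ∈ (U : Subgroup (Cfsg.PSp 2 F)), u * x = x * u)
    (α : G) (hα : orderOf α = 3) (e : ↥(Subgroup.centralizer ({α} : Set G)) ≃* ↥(Subgroup.centralizer ({x} : Set (Cfsg.PSp 2 F))))
    (hb : ∀ z : G, z ≠ 1 → z ∈ Subgroup.centralizer ({α} : Set G) → (∀ c ∈ Subgroup.centralizer ({α} : Set G), c * z = z * c) →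
      Subgroup.centralizer ({z} : Set G) = Subgroup.centralizer ({α} : Set G))
    (hc : ∃ (P Q : Sylow 3 G) (a b : G), orderOf a = 3 ∧ orderOf b = 3 ∧ a ∈ (P : Subgroup G) ∧ b ∈ (Q : Subgroup G) ∧
      (∀ p ∈ (P : Subgroup G), p * a = a * p) ∧ (∀ q ∈ (Q : Subgroup G), q * b = b * q) ∧ ¬ IsConj a b) :
    (Subgroup.centralizer ({α} : Set G)).Normal ∨ Nonempty (G ≃* Cfsg.PSp 2 F) := by
  haveI : Fact (Nat.Prime 3) := ⟨Nat.prime_three⟩
  haveI : CharP F 3 := charP_of_card_eq_prime_pow hF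
  obtain ⟨ι, S, h0⟩ := exists_setup (by norm_num) hF U hx hxc e hb
  have ns : ∀ y : F, y * y ≠ -1 := fun y hy => by
    refine FiniteField.isSquare_neg_one_iff.1 ⟨y, hy.symm⟩ ?_
    obtain ⟨j, rfl⟩ := hm
    rw [hF, pow_succ, pow_mul, Nat.mul_mod, Nat.pow_mod]; simp
  have big : 9 < Nat.card F := by
    rw [Nat.card_eq_fintype_card, hF]
    calc 9 < 3 ^ 3 := by norm_num
      _ ≤ 3 ^ m := Nat.pow_le_pow_right (by norm_num) (by obtain ⟨j, rfl⟩ := hm; omega)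
  by_cases H : ∃ g ∈ normalizer ((MM F).map ι : Set G), g ∉ normalizer ((ZZ F).map ι : Set G)
  · obtain ⟨g, h1, h2⟩ := H
    have O : Op ι := ⟨S, ns, by
      by_contra! H
      obtain ⟨Pu, Pv, u, v, ou, ov, hu, hv, cu, cv, h⟩ := hc
      obtain ⟨g, z, z0, e1⟩ := S3324.cent_conj S 3 Pu ou hu cu
      obtain ⟨g', z', z0', e2⟩ := S3324.cent_conj S 3 Pv ov hv cv
      obtain ⟨a, ha⟩ := H z z0
      obtain ⟨b, hb⟩ := H z' z0'
      have := ha.symm.comp hb
      rw [R, ← e1, ← e2] at this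
      exact h (isConj_iff.2 ⟨g' * (b * a⁻¹) * g⁻¹, by
        calc _ = g' * (b * a⁻¹ * (g⁻¹ * u * g) * (b * a⁻¹)⁻¹) * g'⁻¹ := by group
          _ = _ := by rw [this]; group⟩)⟩
    obtain ⟨n, T⟩ := O.exists_fu big h1 h2
    obtain ⟨n', T'⟩ := fu_psp ns big
    exact Or.inr (T.equiv T')
  push Not at H
  refine Or.inl (h0 ▸ Cl.normal_C ⟨S, fun g hg => mem_normalizer_fintype fun a ha => ?_, ns, big⟩)
  obtain ⟨j, hj⟩ := pgroup_P (ι := ι) 3 ⟨a, ha⟩
  have hj' : (g * a * g⁻¹) ^ 3 ^ j = 1 := by rw [conj_pow, show a ^ 3 ^ j = 1 from congrArg Subtype.val hj]; simp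
  have m1 := mul_mem (mul_mem hg (S.NP_le_NM (le_normalizer ha))) (inv_mem hg)
  obtain ⟨y, hy⟩ := S.pelt_mem 3 (H _ m1) hj'
  have c := S.c_zero (hy ▸ m1)
  exact ⟨y, mem_PP.2 ⟨a_eq_one c (S.inj (by rw [map_pow, hy, hj', map_one])), c⟩, hy⟩

end Cfsg.Agent.S3241
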