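import Cfsg.Statements.S3257
import Cfsg.Agent.H9.Fs6

set_option autoImplicit false
open Cfsg

namespace Cfsg.Agent.S3257

/-- Let p be an odd prime and G a finite non-abelian group generated by a G-invariant set D of subgroups of order p such that any two distinct members of D generate a subgroup isomorphic to one fixed group of odd order. Then G/Z(G) is a Frobenius group of odd order. -/
theorem result {G : Type*} [Group G] [Finite G] (hG : ¬ IsMulCommutative G)
    (p : ℕ) (hp : p.Prime) (hp2 : p ≠ 2) (D : Set (Subgroup G)) (hDp : ∀ A ∈ D, Nat.card ↥A = p)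
    (hDinv : ∀ A ∈ D, ∀ g : G, A.map (MulAut.conj g).toMonoidHom ∈ D) (hDgen : sSup D = ⊤)
    {F : Type*} [Group F] [Finite F] (hF : Odd (Nat.card F)) (hpair : ∀ A ∈ D, ∀ B ∈ D, A ≠ B → Nonempty (↥(A ⊔ B) ≃* F)) :
    Odd (Nat.card (G ⧸ Subgroup.center G)) ∧ ∃ H : Subgroup (G ⧸ Subgroup.center G), Cfsg.IsFrobeniusComplement H := by
  haveI := Fact.mk hp
  have o : H9.Fs.Orig p F (fun x : G => Subgroup.zpowers x ∈ D) := by
    refine ⟨hp, hG, hF, fun x hx => by rw [← hDp _ hx, Nat.card_zpowers], fun x g hx => ?_,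
      fun Y hY => ?_, fun x y hx hy hn => ?_⟩
    · rw [← H9.Fs.cj_zpowers]; exact hDinv _ hx g
    · rw [← hDgen]
      refine sSup_le fun A hA => ?_
      haveI : IsCyclic A := isCyclic_of_prime_card (hDp A hA)
      obtain ⟨x, hx⟩ := (Subgroup.isCyclic_iff_exists_zpowers_eq_top A).mp inferInstance
      subst hx
      exact Subgroup.zpowers_le.mpr (hY x hA)
    · have e : H9.Fs.ln x y = Subgroup.zpowers x ⊔ Subgroup.zpowers y := le_antisymm
        (H9.Fs.ln_le (Subgroup.mem_sup_left (Subgroup.mem_zpowers x))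
          (Subgroup.mem_sup_right (Subgroup.mem_zpowers y)))
        (sup_le (Subgroup.zpowers_le.mpr (H9.Fs.left_mem_ln x y))
          (Subgroup.zpowers_le.mpr (H9.Fs.right_mem_ln x y)))
      rw [e]
      exact hpair _ hx _ hy fun h => hn (h ▸ Subgroup.mem_zpowers y)
  obtain ⟨q, a, h, hf⟩ := o.exists_hy hp2
  exact (h.nice hf).final hG

end Cfsg.Agent.S3257
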