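import Cfsg.Statements.S3276
import Cfsg.Agent.H9.Invol

set_option autoImplicit false
open Cfsg

namespace Cfsg.Agent.S3276

open Cfsg.Agent.H9 Subgroup

/-- Let x and y be commuting, non-conjugate involutions of a finite group G, and suppose that for every involution u commuting with x, each conjugate of y that commutes with u also commutes with y. Then the normal closure of y is a proper, normal, elementary abelian 2-subgroup of G; and if y is the only involution of that normal closure commuting with x, it has order at most 4. -/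
theorem result {G : Type*} [Group G] [Finite G] (x y : G) (hx : orderOf x = 2) (hy : orderOf y = 2)
    (hxy : Commute x y) (hnc : ¬ IsConj x y)
    (hstar : ∀ u : G, orderOf u = 2 → Commute u x → ∀ g : G, Commute (g * y * g⁻¹) u → Commute (g * y * g⁻¹) y) :
    Subgroup.normalClosure ({y} : Set G) ≠ ⊤ ∧ Cfsg.IsElementaryAbelian 2 (Subgroup.normalClosure ({y} : Set G)) ∧
      ((∀ u ∈ Subgroup.normalClosure ({y} : Set G), orderOf u = 2 → Commute u x → u = y) →
        Nat.card ↥(Subgroup.normalClosure ({y} : Set G)) ≤ 4) := by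
  have hx2 := mul_self_of_orderOf_two hx
  have hy2 := mul_self_of_orderOf_two hy
  have h1 : ∀ g : G, Commute (g * y * g⁻¹) y := by
    intro g
    obtain ⟨n, h1, h2, h3⟩ := exists_central_involution_of_not_isConj hx2
      (y := g * y * g⁻¹) (by rw [conj_mul, hy2]; group)
      (fun h => hnc (h.trans (isConj_iff.2 ⟨g⁻¹, by group⟩)))
    exact hstar _ h1 h2 g h3.symm
  have h0 : ∀ a ∈ Group.conjugatesOfSet ({y} : Set G), ∃ g : G, g * y * g⁻¹ = a := by
    intro a ha
    obtain ⟨w, hw, ha'⟩ := Group.mem_conjugatesOfSet_iff.1 ha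
    rw [Set.mem_singleton_iff.1 hw] at ha'
    exact isConj_iff.1 ha'
  have h2 : ∀ a ∈ Group.conjugatesOfSet ({y} : Set G), ∀ b ∈ Group.conjugatesOfSet ({y} : Set G),
      a * b = b * a := by
    intro a ha b hb
    obtain ⟨g, rfl⟩ := h0 a ha
    obtain ⟨k, rfl⟩ := h0 b hb
    have := (h1 (k⁻¹ * g)).eq
    calc _ = k * (k⁻¹ * g * y * (k⁻¹ * g)⁻¹ * y) * k⁻¹ := by group
      _ = _ := by rw [this]; group
  have hcomm : IsMulCommutative (normalClosure ({y} : Set G)) := isMulCommutative_closure h2
  have hsq : ∀ a ∈ normalClosure ({y} : Set G), a ^ 2 = 1 := by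
    intro a ha
    induction ha using closure_induction with
    | mem a ha =>
      obtain ⟨g, rfl⟩ := h0 a ha
      rw [conj_pow, pow_two, hy2]; group
    | one => simp
    | mul a b ha hb iha ihb =>
      rw [Commute.mul_pow (comm_of_isMulCommutative hcomm ha hb), iha, ihb, one_mul]
    | inv a _ iha => rw [inv_pow, iha, inv_one]
  refine ⟨?_, ⟨hcomm, hsq⟩, ?_⟩
  · intro htop
    have hc : ∀ a b : G, a * b = b * a := fun a b =>
      comm_of_isMulCommutative hcomm (htop ▸ mem_top a) (htop ▸ mem_top b)
    have : (zpowers y).Normal := ⟨fun a ha g => by rw [hc g a]; simpa using ha⟩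
    have hle : normalClosure ({y} : Set G) ≤ zpowers y :=
      normalClosure_le_normal (by simp)
    rcases (mem_zpowers_of_mul_self hy2).1 (hle (htop ▸ mem_top x)) with h | h
    · exact ne_one_of_orderOf_two hx h
    · exact hnc (h ▸ IsConj.refl x)
  · intro hu
    refine (card_le_sq_card_centralizer hsq (x := x) (by simp [hx2])
      (le_normalizer_of_normal (mem_top x))).trans ?_
    have : Nat.card (normalClosure ({y} : Set G) ⊓ centralizer ({x} : Set G) : Subgroup G) ≤ 2 := by
      rw [← hy, ← Nat.card_zpowers]
      apply card_le_of_le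
      intro u ⟨hu1, hu2⟩
      by_cases h : u = 1
      · rw [h]; exact one_mem _
      · rw [hu u hu1 (orderOf_two_of h (by rw [← pow_two]; exact hsq u hu1))
          (mem_centralizer_singleton_iff.1 hu2)]
        exact mem_zpowers y
    calc _ ≤ 2 ^ 2 := Nat.pow_le_pow_left this 2
      _ = 4 := by norm_num

end Cfsg.Agent.S3276
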