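import Cfsg.Statements.S3277
import Cfsg.Agent.H9.FourGroup
import Cfsg.Agent.S3276
import Cfsg.Agent.H6.Small

set_option autoImplicit false
open Cfsg

namespace Cfsg.Agent.S3277

open Subgroup Cfsg.Agent.H9

theorem inverts_of_fpf {G : Type*} [Group G] [Finite G] (N : Subgroup G) [hN : N.Normal] {v : G}
    (hv : v * v = 1) (h : ∀ g ∈ N, g * v = v * g → g = 1) {g : G} (hg : g ∈ N) :
    v * g * v⁻¹ = g⁻¹ := by
  have h1 : MonoidHom.FixedPointFree (MulAut.conjNormal (H := N) v) := fun a ha => by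
    refine Subtype.ext (h a a.2 ?_)
    have := congrArg Subtype.val ha
    rw [MulAut.conjNormal_apply] at this
    exact (mul_inv_eq_iff_eq_mul.mp this).symm
  have h2 : Function.Involutive (MulAut.conjNormal (H := N) v) := fun a => by
    rw [← MulAut.mul_apply, ← map_mul, hv, map_one, MulAut.one_apply]
  have := congrFun (h1.coe_eq_inv_of_involutive h2) ⟨g, hg⟩
  exact congrArg Subtype.val this

/-- Let G be a finite group containing an involution whose centralizer is elementary abelian of order 4. If G has no normal 2-complement and no normal elementary abelian 2-subgroup of order 2 or 4, then G is isomorphic to the alternating group of degree 5 (that is, to PSL(2, 5)). -/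
theorem result {G : Type*} [Group G] [Finite G] (x : G) (hx : orderOf x = 2)
    (hC4 : Nat.card ↥(Subgroup.centralizer ({x} : Set G)) = 4) (hCe : ∀ c ∈ Subgroup.centralizer ({x} : Set G), c ^ 2 = 1)
    (hnc : ¬ Cfsg.HasNormalPComplement 2 G)
    (hne : ∀ E : Subgroup G, E.Normal → Cfsg.IsElementaryAbelian 2 E → Nat.card ↥E ≠ 2 ∧ Nat.card ↥E ≠ 4) :
    Nonempty (G ≃* ↥(alternatingGroup (Fin 5))) := by
  obtain ⟨C, hCdef⟩ : ∃ C, C = centralizer ({x} : Set G) := ⟨_, rfl⟩
  rw [← hCdef] at hC4 hCe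
  have hmC : ∀ c, c ∈ C ↔ c * x = x * c := fun c => by rw [hCdef, mem_centralizer_singleton_iff]
  have he : ∀ v ∈ C, v * v = 1 := fun v hv => by rw [← pow_two, hCe v hv]
  have hp : IsPGroup 2 C := isPGroup_of_pow_eq_one hCe
  have hc : ∀ a ∈ C, ∀ b ∈ C, a * b = b * a := fun a ha b hb => comm_of_sq_eq_one hCe ha hb
  have hx2 := mul_self_of_orderOf_two hx
  have hx1 := ne_one_of_orderOf_two hx
  have hxC : x ∈ C := (hmC x).mpr rfl
  obtain ⟨S, hS⟩ := hp.exists_le_sylow
  obtain ⟨z, hzS, hz, hzc⟩ := exists_central_involution_sylow S hx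
  have hz1 := ne_one_of_orderOf_two hz
  have hz2 := mul_self_of_orderOf_two hz
  have hzC : z ∈ C := (hmC z).mpr (hzc x (hS hxC)).symm
  -- `C` is a Sylow subgroup
  have hSyl : ∃ T : Sylow 2 G, (T : Subgroup G) = C := by
    by_cases hSC : (S : Subgroup G) ≤ C
    · exact ⟨S, le_antisymm hSC hS⟩
    by_cases hzx : IsConj z x
    · obtain ⟨T, hT⟩ := exists_sylow_le_centralizer_of_isConj S hzc hzx
      rw [← hCdef] at hT
      exact ⟨T, (T.is_maximal' hp hT).symm⟩
    exfalso
    have hxz : x ≠ z := fun h => hzx (h ▸ IsConj.refl x)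
    have hxz' : x * z ≠ 1 := fun h => hxz (by rw [← mul_one x, ← hz2, ← mul_assoc, h, one_mul])
    have hmem : ∀ v ∈ C, v = 1 ∨ v = x ∨ v = z ∨ v = x * z := fun v hv =>
      mem_four_of_card_le hC4.le hxC hzC hx1 hz1 hxz hxz' hv
    obtain ⟨n, hnS, hnC, hnN⟩ := exists_mem_normalizer_not_mem
      (isNilpotent_of_isPGroup S.isPGroup') hS hSC
    have hnz : n * z * n⁻¹ = z := by rw [hzc n hnS, mul_inv_cancel_right]
    have hnx : n * x * n⁻¹ = x * z := by
      rcases hmem _ (conj_mem_of_mem_normalizer hnN hxC) with h | h | h | h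
      · exact absurd (by simpa using h) hx1
      · exact absurd ((hmC n).mpr (mul_inv_eq_iff_eq_mul.mp h)) hnC
      · exact absurd (isConj_iff.mpr ⟨n, h⟩).symm hzx
      · exact h
    obtain ⟨-, h2, h3⟩ := S3276.result x z hx hz (hc x hxC z hzC) (fun h => hzx h.symm) (by
      intro u hu hux g hg
      rcases hmem u ((hmC u).mpr hux) with h | h | h | h
      · exact absurd h (ne_one_of_orderOf_two hu)
      · rw [h] at hg; exact hc _ ((hmC _).mpr hg) z hzC
      · rwa [h] at hg
      · rw [h, ← hnx] at hg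
        have h1 : n⁻¹ * (g * z * g⁻¹) * n ∈ C := by
          rw [hmC]
          calc n⁻¹ * (g * z * g⁻¹) * n * x = n⁻¹ * (g * z * g⁻¹ * (n * x * n⁻¹)) * n := by group
            _ = _ := by rw [hg.eq]; group
        have h2 := hc _ h1 z hzC
        calc g * z * g⁻¹ * z = g * z * g⁻¹ * (n * z * n⁻¹) := by rw [hnz]
          _ = n * (n⁻¹ * (g * z * g⁻¹) * n * z) * n⁻¹ := by group
          _ = n * z * n⁻¹ * (g * z * g⁻¹) := by rw [h2]; group
          _ = _ := by rw [hnz])
    have hzN : z ∈ normalClosure ({z} : Set G) := subset_normalClosure rfl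
    obtain ⟨hn2, hn4⟩ := hne _ inferInstance h2
    have hxN : x ∉ normalClosure ({z} : Set G) := fun h => by
      apply hn4
      have : normalClosure ({z} : Set G) = C := by
        refine le_antisymm (fun a ha => (hmC a).mpr (comm_of_isMulCommutative h2.1 ha h)) ?_
        intro v hv
        rcases hmem v hv with rfl | rfl | rfl | rfl
        exacts [one_mem _, h, hzN, mul_mem h hzN]
      rw [this, hC4]
    have h4 := h3 (fun u hu hu2 hux => by
      rcases hmem u ((hmC u).mpr hux) with h | h | h | h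
      · exact absurd h (ne_one_of_orderOf_two hu2)
      · exact absurd (h ▸ hu) hxN
      · exact h
      · exact absurd ((mul_mem_cancel_right hzN).mp (h ▸ hu)) hxN)
    have h5 : 2 ∣ Nat.card (normalClosure ({z} : Set G)) := hz ▸ orderOf_dvd_natCard _ hzN
    have h6 : 0 < Nat.card (normalClosure ({z} : Set G)) := Nat.card_pos
    omega
  obtain ⟨T, hT⟩ := hSyl
  have hTc : ∀ a ∈ C, ∀ s ∈ (T : Subgroup G), s * a = a * s := fun a ha s hs => hc s (hT ▸ hs) a ha
  have hconj : ∀ v ∈ C, v ≠ 1 → IsConj x v := by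
    have : ¬ normalizer ((T : Subgroup G) : Set G) ≤ centralizer ((T : Subgroup G) : Set G) :=
      fun h => hnc (H6.hasNormalPComplement_of_normalizer_le_centralizer T h)
    obtain ⟨n, hnN, hnC⟩ := SetLike.not_le_iff_exists.mp this
    have h1 : n * x ≠ x * n := fun h => hnC (mem_centralizer_iff.mpr fun s hs =>
      hTc n ((hmC n).mpr h) s hs)
    have h2 : n ^ 2 * x ≠ x * n ^ 2 := fun h =>
      h1 (commute_of_sq_of_mem_normalizer_sylow T hnN (hTc x hxC) h)
    have hnN' : n ∈ normalizer (C : Set G) := hT ▸ hnN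
    have hy := conj_mem_of_mem_normalizer hnN' hxC
    have hy1 : n * x * n⁻¹ ≠ 1 := by simpa using hx1
    have hyx : x ≠ n * x * n⁻¹ := fun h => h1 (mul_inv_eq_iff_eq_mul.mp h.symm)
    have hxy : x * (n * x * n⁻¹) ≠ 1 := fun h => hyx
      (mul_left_cancel (hx2.trans h.symm))
    have hmem : ∀ v ∈ C, v = 1 ∨ v = x ∨ v = n * x * n⁻¹ ∨ v = x * (n * x * n⁻¹) := fun v hv =>
      mem_four_of_card_le hC4.le hxC hy hx1 hy1 hyx hxy hv
    have h3 : n * (n * x * n⁻¹) * n⁻¹ = x * (n * x * n⁻¹) := by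
      rcases hmem _ (conj_mem_of_mem_normalizer hnN' hy) with h | h | h | h
      · exact absurd (by simpa using h) hx1
      · exact absurd (by rw [pow_two]; nth_rewrite 2 [← h]; group) h2
      · exact absurd (by simpa using h.symm) hyx
      · exact h
    intro v hv hv1
    rcases hmem v hv with h | h | h | h
    · exact absurd h hv1
    · rw [h]
    · exact isConj_iff.mpr ⟨n, h.symm⟩
    · exact isConj_iff.mpr ⟨n * n, by rw [h, ← h3]; group⟩
  obtain ⟨h5, ⟨k, hk, hG⟩, hTI⟩ := four_group_main T (hT ▸ hC4) (hT ▸ he) hx (hT ▸ hxC)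
    (fun c hcx v hv => hc c ((hmC c).mpr hcx) v (hT ▸ hv)) (hT ▸ hconj) (fun h =>
      (hne _ h (isElementaryAbelian_two_iff.mpr (hT ▸ hCe))).2 (hT ▸ hC4))
  refine nonempty_equiv_alternating_five h5 ?_ hk hG
  rw [← MonoidHom.ker_eq_bot_iff, eq_bot_iff]
  have hfpf : ∀ v ∈ C, v ≠ 1 → ∀ g ∈ (MulAction.toPermHom G (Sylow 2 G)).ker,
      g * v = v * g → g = 1 := by
    intro v hv hv1 g hg hgv
    have h1 : C = centralizer ({v} : Set G) := by
      refine eq_of_le_of_card_ge (fun a ha => mem_centralizer_singleton_iff.mpr (hc a ha v hv)) ?_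
      rw [← H6.card_centralizer_eq_of_isConj (hconj v hv hv1), hCdef]
    have h2 : g ∈ C := h1 ▸ mem_centralizer_singleton_iff.mpr hgv
    haveI : Nontrivial (Sylow 2 G) := Finite.one_lt_card_iff_nontrivial.mp (by omega)
    obtain ⟨R, hR⟩ := exists_ne T
    have h3 : g ∈ (R : Subgroup G) := by
      rw [← H6.smul_sylow_eq_iff_mem ⟨1, by rw [pow_one, hCe g h2]⟩]
      exact congrFun (congrArg DFunLike.coe (MonoidHom.mem_ker.mp hg)) R
    exact mem_bot.mp (hTI R T hR ▸ mem_inf.mpr ⟨h3, hT ▸ h2⟩)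
  obtain ⟨y, hyC, hy1, hyx⟩ := exists_ne_ne_of_two_lt_card (H := C) (by omega) x
  have hxy : x * y ≠ 1 := fun h => hyx (by rw [← mul_one y, ← h, ← mul_assoc, ← hc x hxC y hyC,
    mul_assoc, he y hyC, mul_one])
  intro g hg
  have e1 := inverts_of_fpf _ hx2 (hfpf x hxC hx1) (inv_mem hg)
  have e2 := inverts_of_fpf _ (he y hyC) (hfpf y hyC hy1) hg
  refine hfpf _ (C.mul_mem hxC hyC) hxy g hg ?_
  calc g * (x * y) = x * g⁻¹ * x⁻¹ * (x * y) := by rw [e1, inv_inv]
    _ = x * (y * g * y⁻¹) * x⁻¹ * (x * y) := by rw [e2]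
    _ = _ := by group

end Cfsg.Agent.S3277
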