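import Cfsg.Statements.S3280
import Cfsg.Agent.H9.F4
import Cfsg.Agent.S3278
import Cfsg.Agent.S0984

set_option autoImplicit false
open Cfsg

namespace Cfsg.Agent.S3280

open Subgroup H9 H9.F3 H9.MS GW H8

/-- A non-cyclic finite simple group containing an element whose centralizer has order at most 4 is isomorphic to the alternating group of degree 5, 6 or 7, or to PSL(2, 7). -/
theorem result {G : Type*} [Group G] [Finite G] [IsSimpleGroup G] (hG : ¬ IsCyclic G)
    (w : G) (hw : Nat.card ↥(Subgroup.centralizer ({w} : Set G)) ≤ 4) :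
    Nonempty (G ≃* ↥(alternatingGroup (Fin 5))) ∨ Nonempty (G ≃* ↥(alternatingGroup (Fin 6))) ∨
      Nonempty (G ≃* ↥(alternatingGroup (Fin 7))) ∨
      (∃ (F : Type) (_ : Field F) (_ : Fintype F), Fintype.card F = 7 ∧ Nonempty (G ≃* Matrix.ProjectiveSpecialLinearGroup (Fin 2) F)) := by
  have hna : ¬ IsMulCommutative G := fun h => by
    letI : CommGroup G := { (inferInstance : Group G) with mul_comm := h.is_comm.comm }
    exact hG inferInstance
  have h4 : ∀ v : G, orderOf v = 4 → Nat.card (Cz v) ≤ 4 → _ := fun v a b =>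
    (four_main hna a b).imp_right (Or.imp S0984.result psl7_of_card)
  have c0 : 0 < Nat.card (Cz w) := Nat.card_pos
  have hd : orderOf w ∣ Nat.card (Cz w) := by
    rw [← Nat.card_zpowers]; exact card_dvd_of_le (zpowers_le.mpr (self_mem w))
  have h1 := Nat.le_of_dvd c0 hd
  have h2 := orderOf_pos w
  have hcases : orderOf w = 1 ∨ orderOf w = 2 ∨ orderOf w = 3 ∨ orderOf w = 4 := by
    have := h1.trans hw
    omega
  rcases hcases with e | e | e | e
  · rw [orderOf_eq_one_iff.mp e, show centralizer ({1} : Set G) = ⊤ from eq_top_iff.mpr fun g _ =>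
      mem_centralizer_singleton_iff.mpr (by simp), card_top] at hw
    refine absurd (H6.perfect_of_simple hna) fun hp => hna ?_
    by_cases e : Nat.card G = 4
    · exact IsPGroup.isMulCommutative_of_card_eq_prime_sq (p := 2) e
    · haveI := IsSimpleGroup.toNontrivial (G := G)
      have := Finite.one_lt_card (α := G)
      have h23 : Nat.card G = 2 ∨ Nat.card G = 3 := by omega
      haveI : Fact (Nat.Prime 3) := ⟨Nat.prime_three⟩
      rcases h23 with e | e <;> exact absurd (isCyclic_of_prime_card e) hG
  · by_cases hs : ∀ v ∈ Cz w, v * v = 1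
    · by_cases c4 : Nat.card (Cz w) = 4
      · refine Or.inl (S3278.result w e (Cz w) le_rfl ⟨c4, ?_⟩ (by simp) (by simp))
        haveI : Nontrivial (Cz w) := Finite.one_lt_card_iff_nontrivial.mp (by omega)
        refine (Monoid.exponent_eq_prime_iff Nat.prime_two).mpr fun g g1 => ?_
        rw [← orderOf_coe]
        exact orderOf_two_of (fun e => g1 (Subtype.ext e)) (hs g g.2)
      · exfalso
        obtain ⟨T, hT, wT⟩ := exists_isSylowIn_ge (isPGroup_zpowers (p := 2) (a := w)
          ⟨1, by rw [← orderOf_dvd_iff_pow_eq_one, e]; rfl⟩) (le_top : zpowers w ≤ ⊤)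
        have wT' := wT (mem_zpowers w)
        have c2 : Nat.card (Cz w) ≤ 2 := by
          have : Nat.card (Cz w) ≤ 4 := hw
          rw [e] at hd
          omega
        obtain ⟨z, zT, z1, -, hz⟩ := exists_ne_one_centralized hT.pgroup hT.pgroup le_normalizer
          fun b => ne_one_of_orderOf_two e (by rwa [b, mem_bot] at wT')
        obtain rfl := (eq_one_or_eq_of_card_le_two c2 (self_mem w) (ne_one_of_orderOf_two e)
          (mem_centralizer_singleton_iff.mpr (hz w wT').symm)).resolve_left z1
        refine not_cyclic_sylow (H6.perfect_of_simple hna) (e ▸ orderOf_dvd_natCard z) hT ?_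
        rw [Subgroup.isCyclic_iff_exists_zpowers_eq_top]
        refine ⟨z, le_antisymm wT fun t ht => ?_⟩
        rcases eq_one_or_eq_of_card_le_two c2 (self_mem z) z1
          (mem_centralizer_singleton_iff.mpr (hz t ht)) with rfl | rfl
        · exact one_mem _
        · exact mem_zpowers _
    · push Not at hs
      obtain ⟨v, hv, v2⟩ := hs
      have d1 : orderOf v ∣ Nat.card (Cz w) := by
        rw [← Nat.card_zpowers]; exact card_dvd_of_le (zpowers_le.mpr hv)
      have c4 : Nat.card (Cz w) ≤ 4 := hw
      have v4 : orderOf v = 4 := by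
        have a1 : orderOf v ≠ 1 := fun b => v2 (by rw [orderOf_eq_one_iff.mp b, mul_one])
        have a2 : orderOf v ≠ 2 := fun b => v2 (mul_self_of_orderOf_two b)
        have := Nat.le_of_dvd c0 d1
        have := orderOf_pos v
        have : orderOf v ≠ 3 := fun b => by
          rw [e] at hd
          rw [b] at d1
          omega
        omega
      have eC : zpowers v = Cz w := eq_of_le_of_card_ge (zpowers_le.mpr hv)
        (by rw [Nat.card_zpowers, v4]; exact c4)
      refine Or.inr (h4 v v4 ((card_le_of_le fun g hg => Cz_symm ?_).trans c4))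
      exact (zpowers_le.mpr (Cz_symm hg) : zpowers v ≤ Cz g) (eC ▸ self_mem w)
  · have c4 : Nat.card (Cz w) ≤ 4 := hw
    rcases three_main hna (SC.of_card (w := w) (fun b => by rw [b, orderOf_one] at e; omega)
      (by rw [← pow_three', ← e, pow_orderOf_eq_one]) (by rw [e] at hd; omega)) with b | b
    · exact Or.inl (H5.equiv_A5_of_card b)
    · exact Or.inr (Or.inr (Or.inr (psl7_of_card b)))
  · exact Or.inr (h4 w e hw)

end Cfsg.Agent.S3280
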