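import Cfsg.Statements.S3283
import Cfsg.Agent.H3.LX4

set_option autoImplicit false
open Cfsg

namespace Cfsg.Agent.S3283

/-- Let G be a finite group with an involution z whose centralizer M has Q = O₂(M) extraspecial of order 2⁹ with C_M(Q) ≤ Q, and M/Q isomorphic to S₃ × A₆ or to S₃ × S₆. Then G is not simple. -/
theorem result {G : Type*} [Group G] [Finite G] (z : G) (hz : orderOf z = 2)
    (hQ : Cfsg.IsExtraspecial 2 ↥(Cfsg.pCore 2 ↥(Subgroup.centralizer ({z} : Set G)))) (hQ9 : Nat.card ↥(Cfsg.pCore 2 ↥(Subgroup.centralizer ({z} : Set G))) = 2 ^ 9)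
    (hCQ : Subgroup.centralizer ((Cfsg.pCore 2 ↥(Subgroup.centralizer ({z} : Set G))) : Set ↥(Subgroup.centralizer ({z} : Set G))) ≤ Cfsg.pCore 2 ↥(Subgroup.centralizer ({z} : Set G)))
    (hMQ : Nonempty (↥(Subgroup.centralizer ({z} : Set G)) ⧸ Cfsg.pCore 2 ↥(Subgroup.centralizer ({z} : Set G)) ≃* (Equiv.Perm (Fin 3) × ↥(alternatingGroup (Fin 6)))) ∨
      Nonempty (↥(Subgroup.centralizer ({z} : Set G)) ⧸ Cfsg.pCore 2 ↥(Subgroup.centralizer ({z} : Set G)) ≃* (Equiv.Perm (Fin 3) × Equiv.Perm (Fin 6)))) :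
    ¬ IsSimpleGroup G := by
  rcases hMQ with ⟨⟨e⟩⟩ | ⟨⟨e⟩⟩
  · refine H3.not_simple_of_quot hz hQ hQ9 hCQ (((MonoidHom.id _).prodMap (Subgroup.subtype _)).comp
      (e.toMonoidHom.comp (QuotientGroup.mk' _))) ?_ (fun c σ _ h => ?_) ?_
    · rw [← MonoidHom.comap_ker, (MonoidHom.ker_eq_bot_iff _).mpr
        (Function.injective_id.prodMap (Subgroup.subtype_injective _))]
      ext x
      simp
    · obtain ⟨k, hk⟩ := (e.surjective.comp (QuotientGroup.mk'_surjective _)) (c, ⟨σ, h⟩)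
      exact ⟨k, congrArg ((MonoidHom.id _).prodMap (Subgroup.subtype _)) hk⟩
    · obtain ⟨k, hk⟩ := (e.surjective.comp (QuotientGroup.mk'_surjective _)) (Equiv.swap 0 1, 1)
      exact ⟨k, (congrArg (fun x => Equiv.Perm.sign x.1) hk).trans (by decide)⟩
  · refine H3.not_simple_of_quot hz hQ hQ9 hCQ (e.toMonoidHom.comp (QuotientGroup.mk' _)) ?_
      (fun c σ _ _ => (e.surjective.comp (QuotientGroup.mk'_surjective _)) _) ?_
    · ext x
      simp
    · obtain ⟨k, hk⟩ := (e.surjective.comp (QuotientGroup.mk'_surjective _)) (Equiv.swap 0 1, 1)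
      exact ⟨k, (congrArg (fun x => Equiv.Perm.sign x.1) hk).trans (by decide)⟩

end Cfsg.Agent.S3283
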