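import Cfsg.Statements.S3285
import Cfsg.Agent.H7.J4b

set_option autoImplicit false
open Cfsg

namespace Cfsg.Agent.S3285

/-- Let G be a finite non-solvable group with no normal subgroup of index 2, and J an involution lying in the centre of a Sylow 2-subgroup of G whose centralizer is the internal direct product of ⟨J⟩ with a subgroup isomorphic to the alternating group of degree m. Then either m = 4 and G is isomorphic to the automorphism group PΓL(2, 8) of PSL(2, 8), or m = 5 and G is isomorphic to the first Janko group. -/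
theorem result {G : Type*} [Group G] [Finite G] (hns : ¬ Group.IsSolvable G) (h2 : ∀ N : Subgroup G, N.Normal → N.index ≠ 2)
    (J : G) (hJ : Cfsg.IsTwoCentralInvolution J) (m : ℕ) (T : Subgroup G)
    (hT : Nonempty (↥T ≃* ↥(alternatingGroup (Fin m))))
    (hd : Cfsg.IsInternalDirectProduct (Subgroup.zpowers J) T (Subgroup.centralizer ({J} : Set G))) :
    (m = 4 ∧ ∃ (F : Type) (_ : Field F) (_ : Fintype F), Fintype.card F = 8 ∧
        Nonempty (G ≃* MulAut (Matrix.ProjectiveSpecialLinearGroup (Fin 2) F))) ∨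
      (m = 5 ∧ Cfsg.Spor.IsoJ1 G) := by
  obtain ⟨h1, P, hP, hP'⟩ := hJ
  obtain ⟨e⟩ := hT
  obtain ⟨φ, j⟩ := H7.Jk.exists_JG (H7.Jk.Iv.of_ord h1) e hd
  have h2' : ∀ K : Subgroup G, K.index ≠ 2 := fun K hK => h2 K (Subgroup.normal_of_index_eq_two hK) hK
  have ho : Odd (Subgroup.centralizer ({J} : Set G)).index :=
    (H6.sylow_two_index_odd P).of_dvd_nat (Subgroup.index_dvd_of_le fun x hx =>
      Subgroup.mem_centralizer_singleton_iff.mpr (hP' x hx))
  obtain ⟨g, x, x1, x2, hx⟩ := j.thompson h2' ho j.iv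
  by_cases h6 : 6 ≤ m
  · exact absurd hx (j.not_conj h6 g x)
  have h4 : 4 ≤ m := by
    by_contra h4
    refine x1 ?_
    clear hx x1
    revert x
    have : m ≤ 3 := by omega
    clear j hd e φ
    interval_cases m <;> decide +kernel
  obtain rfl | rfl : m = 4 ∨ m = 5 := by omega
  · refine Or.inl ⟨rfl, H7.Jk.four_case hns (fun u hu => ?_) j.iv ho⟩
    obtain ⟨g', y, y1, y2, hy⟩ := j.thompson h2' ho hu
    obtain ⟨z, rfl⟩ := H7.Jk.a4_conj x y x1 x2 y1 y2
    rw [map_mul, map_mul, map_inv, ← hx] at hy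
    have := j.conj (g'⁻¹ * φ z * g)
    rw [show g'⁻¹ * φ z * g * J * (g'⁻¹ * φ z * g)⁻¹ = u by
      rw [show u = g'⁻¹ * (g' * u * g'⁻¹) * g' by group, hy]; group] at this
    exact ⟨_, this⟩
  · exact Or.inr ⟨rfl, (j.jan h2' ho).isoJ1⟩

end Cfsg.Agent.S3285
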