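import Cfsg.Statements.S3287
import Cfsg.Agent.H5.GWc4
import Cfsg.Agent.S0984

set_option autoImplicit false
open Cfsg

namespace Cfsg.Agent.S3287

open Subgroup GW H5 H7

/-- Let G be a finite simple group whose Sylow 2-subgroups are dihedral, and suppose the centralizer of some involution of G is properly contained in a subgroup whose generalized Fitting subgroup equals its Fitting subgroup (a subgroup without components). Then G is isomorphic to the alternating group of degree 5 or 7, to PSL(3, 2), or to PSL(2, 9). -/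
theorem result {G : Type*} [Group G] [Finite G] [IsSimpleGroup G] (S : Sylow 2 G) (m : ℕ) (eS : ↥(S : Subgroup G) ≃* DihedralGroup m)
    (t : G) (ht : orderOf t = 2) (K : Subgroup G) (hlt : Subgroup.centralizer ({t} : Set G) < K)
    (hK : Cfsg.generalizedFittingSubgroup ↥K = Cfsg.fittingSubgroup ↥K) :
    Nonempty (G ≃* ↥(alternatingGroup (Fin 5))) ∨ Nonempty (G ≃* ↥(alternatingGroup (Fin 7))) ∨
      (∃ (F : Type) (_ : Field F) (_ : Fintype F), Fintype.card F = 2 ∧ Nonempty (G ≃* Matrix.ProjectiveSpecialLinearGroup (Fin 3) F)) ∨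
      (∃ (F : Type) (_ : Field F) (_ : Fintype F), Fintype.card F = 9 ∧ Nonempty (G ≃* Matrix.ProjectiveSpecialLinearGroup (Fin 2) F)) := by
  have hd : DS G := ds_of_sylow S ((ds_dihedral m).of_injective eS.toMonoidHom eS.injective)
  have hc : ¬ IsMulCommutative G := fun h => hlt.not_ge fun x _ => mem_Cz.2 (h.is_comm.comm _ _)
  rcases gw hc hd with ⟨t', s', A', hb⟩ | h
  swap
  · exact Or.inr (Or.inl (S0984.result h.1))
  obtain ⟨s, A, h, -⟩ := exists_bsw hb ht
  have h0 : op 2 K ≠ ⊥ := fun h0 => by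
    refine fstarOf_ne_bot (bot_le.trans_lt hlt).ne' ?_
    rw [fstarOf_def, hK, ← fitOf_def]
    refine bsw_odd_eq_bot h hlt (le_normalizer_fitOf K) (fitOf_isNilpotent K) fun h2 => ?_
    obtain ⟨z, hz, z2⟩ := exists_inv_of_dvd h2
    exact H9.ne_one_of_orderOf_two z2 (mem_bot.1 (h0 ▸ le_op_of_le_fitOf
      (isPGroup_zpowers_of_orderOf (p := 2) (k := 1) z2) (zpowers_le.2 hz) (mem_zpowers z)))
  obtain ⟨F, i1, i2, h1, h2, ⟨e⟩⟩ := psl_of_bsw h (quasisimple_iff.mp (QS.of_isSimpleGroup hc)).1
  have h3 := three_lt_card hc h1 e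
  have h4 := card_of_psl h1 e
  rcases bsw_card_of_op hd h hlt h0 with h5 | h5
  · rw [show Fintype.card F = 5 by omega] at h4
    exact Or.inl (equiv_A5_of_card (by omega))
  rcases h2 with h2 | h2
  · exact Or.inr (Or.inr (Or.inr ⟨F, i1, i2, by omega, ⟨e⟩⟩))
  · rw [show Fintype.card F = 7 by omega] at h4
    exact Or.inr (Or.inr (Or.inl ⟨ZMod 2, inferInstance, inferInstance, ZMod.card 2,
      equiv_PSL3_of_card (by omega)⟩))

end Cfsg.Agent.S3287
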