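import Cfsg.Statements.S3297
import Cfsg.Agent.GZ.G6

set_option autoImplicit false
open Cfsg

namespace Cfsg.Agent.S3297

/-- Let p be a prime and P a Sylow p-subgroup of a finite group G with no nontrivial normal subgroup of order prime to p, with P not normal in G. Suppose (a) two elements of P are conjugate in G only if they are conjugate in N_G(P); (b) the centralizer of every element of order p of P has a normal p-complement; (c) every two elements of order p of G generate a p-solvable subgroup; (d) it is not the case that p = 2 and P is elementary abelian with all its nonidentity elements conjugate in G. Then p = 2 and G is isomorphic to a Suzuki group Sz(q), q = 2^(2m+1) ≥ 8. -/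
theorem result {G : Type*} [Group G] [Finite G] {p : ℕ} [Fact p.Prime] (hcore : Cfsg.pPrimeCore p G = ⊥) (P : Sylow p G)
    (hnn : ¬ (P : Subgroup G).Normal)
    (ha : ∀ x ∈ (P : Subgroup G), ∀ y ∈ (P : Subgroup G), (∃ g : G, g * x * g⁻¹ = y) →
      ∃ n ∈ Subgroup.normalizer ((P : Subgroup G) : Set G), n * x * n⁻¹ = y)
    (hb : ∀ x ∈ (P : Subgroup G), orderOf x = p → Cfsg.HasNormalPComplement p ↥(Subgroup.centralizer ({x} : Set G)))
    (hc : ∀ x y : G, orderOf x = p → orderOf y = p → Cfsg.IsPSolvable p ↥(Subgroup.closure ({x, y} : Set G)))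
    (hd : ¬ (p = 2 ∧ Cfsg.IsElementaryAbelian 2 (P : Subgroup G) ∧
      ∀ x ∈ (P : Subgroup G), ∀ y ∈ (P : Subgroup G), x ≠ 1 → y ≠ 1 → ∃ g : G, g * x * g⁻¹ = y)) :
    p = 2 ∧ Cfsg.Lie.IsoSuzuki G := by
  have hS := H8.isSylowIn_top P
  have h : GZ.Hy p (P : Subgroup G) := ⟨hS, fun x hx g hg => ha x hx _ hg ⟨g, rfl⟩, fun x hx => by
    obtain ⟨Q, hQ, h1⟩ := H8.exists_isSylowIn_ge (GZ.pg_zp (p := p) ⟨1, by rw [pow_one, ← hx, pow_orderOf_eq_one]⟩)
      (le_top : Subgroup.zpowers x ≤ ⊤)
    obtain ⟨g, -, e⟩ := hQ.exists_cj_eq hS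
    refine H6.HasNormalPComplement.of_injective (hb (g * x * g⁻¹) (e ▸ H8.conj_mem_cj g (h1 (Subgroup.mem_zpowers x)))
      (by rw [H8.Dich.order_cj, hx])) (((MulAut.conj g).toMonoidHom.comp (Subgroup.subtype _)).codRestrict _ fun y => ?_)
      fun a b e => Subtype.ext ((MulAut.conj g).injective (by exact congrArg Subtype.val e))
    have := congrArg (MulAut.conj g) (Subgroup.mem_centralizer_singleton_iff.mp y.2)
    rw [map_mul, map_mul] at this
    exact Subgroup.mem_centralizer_singleton_iff.mpr this⟩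
  obtain ⟨h1, h2⟩ := h.main hc hcore hnn
  exact ⟨h1, h2.resolve_left fun h3 => hd ⟨h1, H9.isElementaryAbelian_two_iff.2 fun x hx => by
    simpa [pow_two] using h3.1 x hx, h3.2⟩⟩

end Cfsg.Agent.S3297
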