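import Cfsg.Statements.S3322
import Cfsg.Agent.H5.GWc7

set_option autoImplicit false
open Cfsg

namespace Cfsg.Agent.S3322

open Subgroup GW H5 H7 H9

/-- Call a group a D-group when it has a proper subgroup outside of which every element x satisfies x² = 1 (for instance a dihedral group, or an elementary abelian 2-group). Let G be a finite group with a subgroup H that is a D-group (witnessed by a proper subgroup A of H) of order divisible by 4, such that H = C_G(j) for every involution j in the centre of H. If G is not solvable, then G has a normal subgroup N whose order is odd or twice an odd number with G/N isomorphic to PSL(2, q) or PGL(2, q) for some prime power q > 3 (q may be even). -/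
theorem result
    {G : Type*} [Group G] [Finite G] (H A : Subgroup G) (hAH : A < H) (hD : ∀ x ∈ H, x ∉ A → x ^ 2 = 1)
    (h4 : 4 ∣ Nat.card ↥H)
    (hC : ∀ j ∈ H, orderOf j = 2 → (∀ h ∈ H, h * j = j * h) → Subgroup.centralizer ({j} : Set G) = H)
    (hns : ¬ Group.IsSolvable G) :
    ∃ (N : Subgroup G) (_ : N.Normal), (Odd (Nat.card ↥N) ∨ ∃ m : ℕ, Odd m ∧ Nat.card ↥N = 2 * m) ∧
      ∃ (F : Type) (_ : Field F) (_ : Fintype F), 3 < Fintype.card F ∧
        (Nonempty (G ⧸ N ≃* Matrix.ProjectiveSpecialLinearGroup (Fin 2) F) ∨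
          Nonempty (G ⧸ N ≃* Matrix.ProjGenLinGroup (Fin 2) F)) := by
  have hD' : ∀ x ∈ H, x ∉ A → x * x = 1 := fun x hx hx' => pow_two x ▸ hD x hx hx'
  have hO := L0.not_dvd_card_pPrimeCore (p := 2) (G := G)
  set π := QuotientGroup.mk' (pPrimeCore 2 G)
  have hπ : Function.Surjective π := QuotientGroup.mk'_surjective _
  have hk : ¬ 2 ∣ Nat.card π.ker := by rwa [QuotientGroup.ker_mk']
  have h0 : pPrimeCore 2 (G ⧸ pPrimeCore 2 G) = ⊥ := L0.pPrimeCore_quotient_pPrimeCore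
  have hns' : ¬ Group.IsSolvable (G ⧸ pPrimeCore 2 G) := fun _ => by
    haveI := solvable_of_odd hk
    exact hns (Group.isSolvable_of_ker_le_range π.ker.subtype π (by rw [range_subtype]))
  suffices h : ∃ (C : Subgroup (G ⧸ pPrimeCore 2 G)) (_ : C.Normal), Nat.card C ∣ 2 ∧
      ∃ (F : Type) (_ : Field F) (_ : Fintype F), 3 < Fintype.card F ∧
        (Nonempty ((G ⧸ pPrimeCore 2 G) ⧸ C ≃* Matrix.ProjectiveSpecialLinearGroup (Fin 2) F) ∨
          Nonempty ((G ⧸ pPrimeCore 2 G) ⧸ C ≃* Matrix.ProjGenLinGroup (Fin 2) F)) by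
    obtain ⟨C, _, h1, F, i1, i2, h2, h3⟩ := h
    have e := (QuotientGroup.quotientMulEquivOfEq (show C.comap π = ((QuotientGroup.mk' C).comp π).ker by
      rw [← MonoidHom.comap_ker, QuotientGroup.ker_mk'])).trans (QuotientGroup.quotientKerEquivOfSurjective _
        ((QuotientGroup.mk'_surjective C).comp hπ))
    refine ⟨C.comap π, inferInstance, ?_, F, i1, i2, h2, h3.imp (fun ⟨f⟩ => ⟨e.trans f⟩) fun ⟨f⟩ => ⟨e.trans f⟩⟩
    have h5 := (C.comap π).card_mul_index
    rw [index_comap_of_surjective _ hπ, card_eq_card_quotient_mul_card_subgroup (pPrimeCore 2 G),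
      ← C.card_mul_index, mul_right_comm, Nat.mul_left_inj index_ne_zero_of_finite] at h5
    have h6 : Odd (Nat.card (pPrimeCore 2 G)) := Nat.odd_iff.2 (by omega)
    rcases (Nat.dvd_prime Nat.prime_two).1 h1 with h7 | h7 <;> rw [h7] at h5
    · exact Or.inl (by rwa [h5, one_mul])
    · exact Or.inr ⟨_, h6, h5⟩
  have I : ∀ A, DG H A → (∀ x ∈ H, x ∉ A → ∀ g, g⁻¹ * x * g ∉ A) → ∀ a ∈ A, orderOf a = 2 → _ :=
    fun A h nc a ha a2 => (h.map hπ hk).rank_two h0 hns' (by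
      rintro _ ⟨x, hx, rfl⟩ hx' g ⟨b, hb, e⟩
      obtain ⟨g, rfl⟩ := hπ g
      have hxA : x ∉ A := fun e => hx' (mem_map_of_mem π e)
      have y2 : orderOf (g⁻¹ * x * g) = 2 := by simpa using (orderOf_conj g⁻¹ x).trans (h.ord hx hxA)
      rw [← map_inv, ← map_mul, ← map_mul] at e
      obtain ⟨z, hz, z2, e'⟩ := exists_lift_two hk (e ▸ orderOf_map_two hk y2)
      obtain ⟨c, hc⟩ := isConj_iff.1 (H4.isConj_of_odd_orderOf_mul (sq_eq_one_of_orderOf_two y2)
        (sq_eq_one_of_orderOf_two z2) (Nat.odd_iff.2 (by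
          have := not_dvd_orderOf_of_mem hk (x := g⁻¹ * x * g * z) (by
            rw [MonoidHom.mem_ker, map_mul, ← e, ← e', ← map_mul, sq_eq_one_of_orderOf_two z2, map_one])
          omega)))
      exact nc x hx hxA (g * c⁻¹) (by simpa [← hc, mul_assoc] using zpowers_le.2 hb hz))
      (mem_map_of_mem π ha) (orderOf_map_two hk a2)
  by_cases he : ∀ x ∈ H, x * x = 1
  · obtain ⟨a, ha, a2⟩ := exists_inv_of_dvd (Dvd.dvd.trans (by norm_num) h4)
    obtain ⟨C, hC', h1, F, i1, i2, h2, h3⟩ := I H ⟨le_rfl, H6.comm_of_mul_self he, fun x hx _ => he x hx,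
      fun x hx _ _ hx' => absurd hx hx', fun z hz z2 => hC z hz z2 fun y hy =>
        H6.comm_of_mul_self he y hy z hz⟩ (fun x hx hx' => absurd hx hx') a ha a2
    exact ⟨C, hC', h1, F, i1, i2, h2, Or.inl h3⟩
  obtain ⟨x, hx, hx'⟩ := SetLike.exists_of_lt hAH
  have hi : ∀ {x a : G}, x ∈ H → x ∉ A → a ∈ A → x * a * x⁻¹ = a⁻¹ := inv_of_sq hAH.le hD'
  have hc := comm_of_inverted fun a ha => hi hx hx' ha
  have he' : ∀ y, (∀ a ∈ A, y * a * y⁻¹ = a⁻¹) → ¬ ∀ a ∈ A, y * a = a * y := fun y h1 h2 => he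
    fun a ha => by
      by_cases ha' : a ∈ A
      · rw [← eq_inv_iff_mul_eq_one, ← h1 a ha', h2 a ha', mul_inv_cancel_right]
      · exact hD' a ha ha'
  have h : DG H A := ⟨hAH.le, hc, hD', fun y hy w hw hy' hw' => not_not.1 fun e =>
    he' _ (fun a ha => hi (mul_mem hy hw) e ha) fun a ha => by
      rw [← mul_inv_eq_iff_eq_mul, show y * w * a * (y * w)⁻¹ = y * (w * a * w⁻¹) * y⁻¹ by group,
        hi hw hw' ha, hi hy hy' (inv_mem ha), inv_inv],
    fun z hz z2 => hC z (hAH.le hz) z2 fun y hy => by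
      by_cases hy' : y ∈ A
      · exact hc y hy' z hz
      · rw [← mul_inv_eq_iff_eq_mul, hi hy hy' hz, H9.inv_eq_of_orderOf_two z2]⟩
  obtain ⟨j, hj, j2⟩ : ∃ j ∈ A, orderOf j = 2 := exists_inv_of_dvd (by
    rw [← L0.relIndex_mul_card_of_le hAH.le,
      relIndex_eq_two_of hx hx' fun s hs hs' => h.mul s hs x hx hs' hx'] at h4
    omega)
  by_cases hu : ∀ y ∈ A, orderOf y = 2 → y = j
  · refine (h.map hπ hk).rank_one h0 hns' (mem_map_of_mem π hj) (orderOf_map_two hk j2) ?_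
      (mem_map_of_mem π hx) ?_
    · rintro _ ⟨y, hy, rfl⟩ y2
      obtain ⟨z, hz, z2, e⟩ := exists_lift_two hk y2
      rw [← e, hu z (zpowers_le.2 hy hz) z2]
    · rintro ⟨y, hy, e⟩
      have := h.ord (mul_mem (inv_mem (hAH.le hy)) hx) (by rwa [mul_mem_cancel_left (inv_mem hy)])
      exact not_dvd_orderOf_of_mem hk (x := y⁻¹ * x)
        (by rw [MonoidHom.mem_ker, map_mul, map_inv, e, inv_mul_cancel]) (this ▸ dvd_rfl)
  push Not at hu
  obtain ⟨w, hw, w2, hwj⟩ := hu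
  have hr : Refl j w := ⟨w2, hc w hw j hj, hwj⟩
  obtain ⟨C, hC', h1, F, i1, i2, h2, h3⟩ := I A h (fun y hy hy' g hg => by
    have h1 := h.cent _ hg (by simpa using (orderOf_conj g⁻¹ y).trans (h.ord hy hy'))
    have h2 : ∀ z ∈ H, z * y = y * z → g⁻¹ * z * g ∈ H := fun z _ e => h1 ▸ mem_Cz.2 (by
      calc _ = g⁻¹ * (z * y) * g := by group
        _ = _ := by rw [e]; group)
    have h3 : ∀ z ∈ A, orderOf z = 2 → g⁻¹ * z * g ∉ A := fun z hz z2 e => by
      have h4 := h.cent _ e (by simpa using (orderOf_conj g⁻¹ z).trans z2)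
      refine he' y (fun a ha => hi hy hy' ha) fun a ha => ?_
      have h5 := mem_Cz.1 (h.cent z hz z2 ▸ hAH.le ha)
      have h6 := mem_Cz.1 (h1.symm ▸ h4 ▸ mem_Cz.2 (show g⁻¹ * a * g * (g⁻¹ * z * g) =
        g⁻¹ * z * g * (g⁻¹ * a * g) by
          calc _ = g⁻¹ * (a * z) * g := by group
            _ = _ := by rw [h5]; group) : g⁻¹ * a * g ∈ Cz (g⁻¹ * y * g))
      calc y * a = g * (g⁻¹ * y * g * (g⁻¹ * a * g)) * g⁻¹ := by group
        _ = _ := by rw [← h6]; group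
    have h4 : ∀ z ∈ A, orderOf z = 2 → g⁻¹ * z * g ∈ H := fun z hz z2 =>
      h2 z (hAH.le hz) (mem_Cz.1 (h.cent z hz z2 ▸ hy)).symm
    refine h3 _ (mul_mem hj hw) (hr.mul j2).1 ?_
    simpa [mul_assoc] using h.mul _ (h4 j hj j2) _ (h4 w hw w2) (h3 j hj j2) (h3 w hw w2)) j hj j2
  exact ⟨C, hC', h1, F, i1, i2, h2, Or.inl h3⟩

end Cfsg.Agent.S3322
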